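import Cfsg.Agent.J4.Setup

/-! Codes for the elements of the centraliser of the involution, modulo the involution. -/

set_option autoImplicit false
set_option maxRecDepth 100000

namespace CA.J4

open CA.M24 CA.Fi CA.FG Cfsg Subgroup Equiv
open scoped commutatorElement Pointwise

noncomputable section

def gmT : ℕ := nat_lit 0x107082005e08021252000000244412000000000000000000043038000000000000000000000000000000000000420c820826900000000000000000000000000000000000007048040000000000000000003c120000000064218000c000000c744040d800000000000000000000000000000000000000408000000000000000000021189000000011423000080400030000000000000000000004010000000001800016009408d0140000006a00300002100100044120160400106a003000000000254a00000000000000000000000000000000000008800000000000000000000000040400000041092818081a29600800000000000000000001c8420000000200803004a8004400000000088268026910288d000020084c040c1000040000000000000000000000003004a80000002960084843027048040000000000186a0030448a100082000a00000040100000000000004120160882682234041821240c48a0012000000000010800100200000c7400000020031c00000000000000000004624400000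000000000000000000000000000000001c84200000000000000000000100200000008000833010211104c00000000000000000000802000000004400004190622c28000000002402e202a2244000040080025802429600800000000000000000000000047500000000070480400022009000000000001010018081a12982000400247500022c2800000000000001142300b0a040012002960080001804838400000000080082118900607200000005400620000000000000000000000000000000000003301020000000145840004020000a00000005015100088000ea002202a22448a105015100000000000003c1200401000108606152c00500000288d00000000182124014584002400000000024000000000000000000000000000008002223404100bc00300000042001a444000000002691002402e0110000000007048040000000000000000000022000b0a0410002000000010860600000000000000000048384000000000000000000000000000000000000024441205028a00000000000000000000000000000000000000042000000000000000000020010000000001b3000002020b0a0400000000000000000022c28000000008d014610640008100000000420c820b0a0400060002402e10004020031c0000000000000000000000005980800000006421802800c61a444000000000000622c280091422330102260848412016000000000000000090200020448a100408006a00300000500000000d015003841814000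000000000800400000000000000000000000000000000000000008200000018081a3301024843020000000a1188091422100bc008000400020800a00000000000000059808016009400006001b3006106400269100000002002000200044c040c00000041092800000000000000000000000022000000081041201600200200801008002000000052220841092820516000000002402e0000000000000000000320e00a11884281440000005400620000000000000000000000480000000000000000000000000000000000004040d800000000000000000010860600000026084808080000024000000012982040040001b3000419064001000607200000000000000011000402000b0a04258024448a10100400000000152c0008826820800000000004000800000000000000000000000018081a0d01502000801086064012a442814400000020516000100800a88c0000000800400000000000000000004012a41080000882680000000384180000000000000000004109280000000000000000000000000000000000000212520000000320e00ea0024080004002000b0a042800c600000000300020004018212400000011104c00000000000000000002080000028001b3000000000c48a000000000000000000000a88c00000000000000000000000000000000000005028a18212452220800204000000002691000000000000000000002800000000000000000000000000000000000000010708220100000000000000000000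000000000000000000004624400000000000000000008269000000004303800254a005e080494c000000000000000000000000000000000000014c108000000000000000000129820000000000c741142300ea00200000000000000000000500000000040e4204838400100400000000100106000002234041821244200000020100000000000000000000000002000040000000600005980804012a400000060900a0041000410002800c62580241600940000000000000c48a04012a412982000208030a05000010400000052220806072008d01400000000084000000000000000000000000000000000000060900a000000000408000084420c820000002800000010102051600a11881000106a0030000000000000501510129820400004410000288d0050151000000048384000044001400000000040e420000000000000000000000000410928475000084000152c0020031c30a050000000000c7426084810080000000047500000000000000000000020000801c8420010400000000a11880000000000000000004281440000000000000000000000000000000000000430380000000000000000000c000000000001002061064042814400000020516022340421000014c1080400400008020000000000007048041142300419060200084c040c0081b200000000600030a05018212400000064218000000000000000000000000000400800a88c11104c01458401c8420000c000000070480408000254006200000002010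00000000000000000000001205222082020000000005980800000000000000000000145840000000000000000000000000000000000001070820000002608480081b2000042288d0061064011000000000001040042814430a0500000002800c600000000000000000000a88c0040201a444000000000048000000000000000000020080000000000000000000000000000000000000000254a4843023000004281440000000000220000000000000000000040400000000000000000000000000000000000004040d8100bc0000000000000000000000000000000000000005e080000000000000000000212520000000462440826900494c0000000000000000000211890000000288d000ea00220031c0000000014003c12004000024020000607201001000000000000000200200001101a44403004a80004106a003000000008d014288d00202a220000000d01500000000000000000000000003004a804008014c108000024091422002800000000152c001200002580240000000400020000000000000000005980800010040320e00000000081b200000000000000000060900a000000000000000000000000000000000000082690000000000014480000330102091422400020000012000000129820038418160094000000202a22000000000000000000001080420c8260900a00000000000c000000000000000000100bc0000000000000000000000000000000000000005e080081b200000a54006200000033010200000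000000000000008100000000000000000000000000000000000000005028a0008200000000000000000000000000000000000001070820000000000000000000494c000000000254a02125224441200000040e4202580240320e00404001000080d01500000000801000419060420000000002580240000000000000000000c48a02118904c040c00000000090000000000000000000002040000000000000000000000000000000000000004624402200041092818000000000064218000000000000000000014c1080000000000000000000000000000000000000494c00000880000000000000000000000000000000000004040d8000000000000000000005e0800000024441205028a0430383c120048430200088000000003841800000000000000000040e4200000000000000000000000000000000000000212525980800000000000000000000000000000000000002444120000000000000000001070820000000494c004303808269011104c00000000000000000000000000000000000000254a000000000000000000043038000000005e0824441204624400000000000000000005028a0000000826900494c00212520000004040d804624400254a10708205028a4040d8000000428144182124410928000000129820000000000000000000598080000000000000000000000000000000000000000c7433010200000000000000000000000000000000000000c000000000000000000000642180000000420c820494c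011104c288d0000000000000000000000000000000000000006072000000000000000000000010400000001b30000420000254a00000000000000000000254a00000004008004190601010000000001001014c108040200008800100bc00000140000002580240000000000000000000000000000000000000004800000000000000000000462440000000800080080040ea0020000000000000000000882680000000212521600940320e00000003c120001c84200040422c280120000006000000000000000000000000000223404000000028000088268084000000000108606000810100bc00494c000021001b30000000000000001c8423004a84120160120000a118805028a0000000002081070821100000000001086060000000000000000006a00300000000000000000000000000000000000000800200000000000000000004c040c0000000826900008022960080000000000000000000410000000000a11884838400081b20000000882684080004040d800400844000022c2800000000000000000000000000d015000000001400004303800028000000000000a00a88c01100008826808010006072000000000000000810000022064218003841800254a2960080000000494c00145845400620000004838400000000000000000000000000000000000000080020000000320e04012a4043038000000014584001400448a10448a1050151011104c0000000000005015104040d840002042000000408010040000000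000280002402e4750000000000212520000000000000000000000000494c04750003004a80002020081b20100200000000180000ea00205028a00000002400000000000000000000060900a10020000300000000054006200000000000000000021189000000000000000000000000000000000000042814470480400000000000000000000000000000000000004303800000000000000000000040200000064218040e42000030000000000000000000000012000000001b3003004a800044000000002402e20020054006208d0141070821080000000000000000000000000002000800000002608480008200914220000000462442051604120160000061a444000a88c00000000000004190604001014c108005e08008010152c00000000152c00100004107082000000040040000000000000000000000000000000000000000c7400000008d0140800020080200000002000044c040c20516000220030a0500494c000000000000002008002691004303861064054006201b30000000024441200024016009400000000000c000000000000000000000000000012005e08448a10448a100494c000201000000022c2800200080914220000000880000000000000000000002008002234040000600000000c48a00000000000000000003c120000000000000000000000000000000000000012982000000000000000000040e42000000018081a0006003004a80000000011004040d860000048000000004850151000000000000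000254a501510008200040800100100107082000000420c8230a0500404000000001a444000000000000000000000000010860618081a2444124012a46421800800400000000d01502800c622c2800000000826900000000000000000002051600010803000000000001086060000000000000000000080080000000000000000000000000000000000001821240000002608484008000000c04040d84002000c48a000000061064024441200a0000000002800c600000000000000000000120020516060900a0000000269100000000000000000002200000000000000000000000000000000000000006a0030022000208000211890000000038418000000000000000000001040000000000000000000000000000000000000258024244412000000000000000000000000000000000000410928000000000000000000704804000000288d005980803301020b0a040000000000000000000000000000000000000ea00200000000000000000020100000000011423014c108420c820000000000000000000d015000000003000061064005028a00000005028a00401041000040200000005001c84200000000000000000000000004400000000002125200008420031c0000002800c600254a484302000c7406000000090000000000000006072020010000100426084801c84200204000000060900a522208014584000000005e080000000000000000000000000000000000000800040000001600940462444012a400000000041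00145842960082800c610708210001000000000000041201640100000404000008840040001000400000021000011423005028a00000047500000000000000000000000000020000848430208269047500030a050152c00000000152c001800000050000000000a11880000000000000000002444120c48a029600800000020031c0000000000000000000008400000000000000000000000000000000000003301020000000000000000000826900000000400081142300100400000000900006106400400020a118818081a005e080000000000000040200081b24c040c0212525222080419060000000384182118902020000000000208000000000000000000000000000ea002223404280000020020091422202a2200000000410008269018081a00000000004200000000000000000000200830a050244412000000000180000000000000000000060720000000000000000000000000000000000000288d000000003c120000a88c0c48a001040010002000008200000005028a200040010800000000202a2200000000000000000026084804303811423000000002402e0000000000000000000044000000000000000000000000000000000000000b0a040081b20040021000400000000430380000000000000000000914220000000000000000000000000000000000001821242000200000000000000000000000000000000000006a003000000000000000000059808000000012982025802441092800000000000000000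020031c00000000042048384014c1080000004120164001004040d84040d850000000200200000000000000101000254a0320e002402e11104c0001100000000d015002040060900a000000100bc00000000000000000000000000200040269101a44400420004012a4005e080000005222080010021400000000004838400000000000000000000000a0046244202a2200000000080400000000000000000008d01400000000000000000000000000000000000041092800000004624400009040000240000400001800a88c000000081000160094100bc000000040e42000000000000000000020031c0000244c040c000000046244000000000000000000202a22000000000000000000000000000000000000258024000c7408d0140808000000000000220000000000000000000826900000000000000000000000000000000000004281440010080000000000000000000000000000000000000b0a04000000000000000000182124000000704804288d005980800000000320e00c0000211890522208107082100800000000002400484302420c820000000401000000000000000000000201000419061a44400000000004080000000000000000000212520000000000000000000000000000000000005980800212521000080020800000000269100000000000000000000a00000000000000000000000000000000000000006a003022340400000000000000000000000000000000000033010200000000000000000042814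40000000b0a0412982070480448430240e420005e0800000011104c0000000000000000000384180000000000000000000000000000000000007048040008800000000000000000000000000000000000001821240000000000000000004109280000003301024281441298203c12000000000000000000000000000000000000001298200000000000000000000b0a04000000598080410928288d00000000000000000000288d000000004281447048042580240000002580243301026a00306a00301821240b0a040000001000400028000200080000002010000000000000000000000000a0000000000000000000000000000000000000152c000800020000000000000000000000000000000000000494c00000000000000000002608480000004012a47048042800c64004000000000000000000000000000000000000005000000000000000000000000020400000006106400081b20b0a040000000000000000002580240000000269104c040c00000a00000005028a0a000050151000140020002004624400000004010000000000000000000000000000000000000002402e000000000000000000288d0000000008269004004048384000000000000000000030a050000000598080100bc02008000000004843020c48a00462440001200010020384180000000000000000000000006106400000000010403c1200082690000000400020005e08202a220b0a0414c10860000000000000000009142202402e00a88c05028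a2800c618212400000030a0500b0a040000820000004012a4000000000000000000000014000000000000000000000000000000000000002010000000000000000000120000000000410928005e0803841800000000000000000048430200000020000421189000a88c0000003004a80000c02580240ea0024040d8205160000000000000000000000000152c0000000005028a0b0a0420516000000008d01426084805028a30000000240052220800000000000000044004303802080011104c5980800ea0020000004109280320e00c48a00000006106400000000000000000000000000000000000000494c000000021189020010059808000000006072041201614c108100bc04120163c120000000000000011104c129820000018000050060720107082000000005e0808d0140801000000007048040000000000000000000000003301020a118816009440e420000804040008000000040080420c8212982000000002125200000000000000000008000410708261064000000018081a000000000000000000041906000000000000000000000000000000000000200040014000000000000000000000000000000000000000288d000000000000000000004012a400000002691003000000254a00000000000000000000200800000060900a2234041142300000000ea0022444120808000145844281440010800000000000000000000000002444120000003c12000010084c040c00000033010229600801c8420462440320e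0223404000000000000480000100bc00ea0022580240494c042000000000047500000600025802400000018081a0000000000000000000000000000000000001100000000000d01500826900410000000000440001a44400d015060900a0108001821240000000000000212520384184281441142304838406421800000000b0a043004a804190600000004624400000000000000000000000000a88c6a00305015101001006a003001c8420000000607200212524012a400000000048000000000000000000000440047500004303800000006072000000000000000000040010000000000000000000000000000000000000040100000000000000000000003841800000000a88c54006202000400000000254a288d000040100000903c12000145840000000000001298200100040494c0005e08002002288d00000000000c7401c84252220800000001002000000000000000000000000054006208d01459808020031c420c82082690000000100bc00008200081b200000042814400000000000000000009142220031c00400200000040e4200000000000000000000494c00000000000000000000000000000000000000220000000001a4440004008202a220b0a044040d80a11880000001000204281440494c0000000000c7400000000000000000064218009000008d01400000001c84200000000000000000000001200000000000000000000000000000000000001001002125204040000010400000016009400000000000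000000029600800000000000000000000000000000000000014000012982000000000000000000000000000000000000000000c000000000000000000084000000000000420000180000802008200000000000000000000000000000000000000448a100000000000000000002444120000000081b21a444002402e0000000000000000001008000000000002025400624281440000006a003001b3000000884040d8152c000800200000000000000000000000000a1188000000258024046244108606000000202a2270480400802011104c0212520004080000000000005400620004020462441800000882682118900000004c040c22c28002402e00000042814400000000000000000000000000000000000000220000000000090059808064218000000011104c02002022c2800c48a06a0030107082000000000000448a104040d80914222234044040d804020000000004000200810070480400000048430200000000000000000000000024441240e4207048040d0150211890522208000000420c820020800d015000000022340400000000000000000041092802691002800000000014c108000000000000000000005e080000000000000000000000000000000000000000220000000000000000002580240000001a444001b30005028a0000000002803004a848384020031c008004330102000000000000043038000c7416009441092860900a48430200000010000420031c24441200000000120000000000000000000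000000040080041201600041000101041201640800000000000254a3301021086060000000c48a000000000000000000022c280152c0018212400000000254a00000000000000000050151000000000000000000000000000000000000010040000000064218022c28002010005028a003000000c74000000288d0024441200020800000060900a00000000000000000018081a70480414c1080000000880000000000000000000000320e00000000000000000000000000000000000000003000419060882681070820000003301020000000000000000004000040000000000000000000000000000000000004020000400100000000000000000000000000000000000000008100000000000000000000200800000000010040c000000800800000000000000000030a0500000000430382960080a1188000000008800000048330102182124004080448a100000000000000145846a003026084808826828000000254a00000018081a0212522800c6000000205160000000000000000000000000000240018000114230420c8220516018212400000030a0504c040c10708200000021000000000000000000000004303812982040e42000000000420000000000000000000001b3000000000000000000000000000000000000000800080000006a00300419064040d80040401086062200000000000826900269103004a80000000320e0000000000000000000108000042000522208000000410928000000000000000000448a1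00000000000000000000000000000000000000408001142300101000006000000000430380000000000000000001298200000000000000000000000000000000000000100402800c600000000000000000000000000000000000010020000000000000000000000a000000000004100020400200080000000202a220826900145842080004109280050000000004750000081b200002400000000254a000000000000000000000042483840091422000000160094000000000000000000288d0000000000000000000000000000000000000000008418212410708226084800000001b300000000000000000000000210000000000000000000000000000000000000008010410000000000000000000000000000000000000000400002000000000000000000000840000000200200011000004020088268475000598080000000296008000000000000000000108606000000000000000000000000000000000000024000005e0800000000000000000000000000000000000020200000000000000000000010000800000000800200006008100050151000000000000000000000000000000000000000110000000000000000000000022000000000088020000800040400000000000000000001040000000008004000c00006000000000044000000000600011010001001200040020000000000000000000000000010200000000002691054006202402e0000004012a40200404838400081b2152c0003841800000000000048430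2100bc00008082234042000022118900000000ea0023004a80800800000000010200000000000000000000000004000400a118850151010100020516040000800000030a0500020200081b200000020040000000000000000000008040002691002000200000018081a00000000000000000050151000000000000000000000000000000000000050151000000011104c02402e202a2200014000180024000000000004002014c1080d015000000060900a00000000000000000030a05009142203841800000006072000000000000000000000010200000000000000000000000000000000000026084840e42000a88c61064000000014c1080000000000000000004000800000000000000000000000000000000000004000402800c600000000000000000000000000000000000002402e00000000000000000030a0500000000010200081b22000020000001a444041201602001020001000200420516000000010008008d0145222080000003c120000000000000000000000004420031c4843020000000ea0020000000000000000000320e00000000000000000000000000000000000002800c608d014000c0026084800000040e4200000000000000000000c48a00000000000000000000000000000000000001020006106400000000000000000000000000000000000000269100000000000000000000200400000002004000ea002205160642180060720000108000000000c7400000000000000000041201600000000000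000000000000000000000000041201608001000000000000000000000000000000000000020001000000000000000000048430200000006072000014003841804000400000000000000000000000000000000000020516000000000000000000016009400000040e42024000014c1080000000000000000006106400000000000444c040c00080800000008d014080080420c8230a05004190661064000000000000000a88c01000811423060900a3c12000210000000004750000048004012a400000001008000000000000000000001458408200052220800000011423000000000000000000018081a0000000000000000000000000000000000004012a4100bc04c040c01c842000000420c820000000000000000002960080000000000000000000000000000000000000320e040400000000000000000000000000000000000000040000800000000000000000008200000000002691002100018081a10400005000004190600000001c8420000000000000000003004a80000000000000000000000000000000000000500006421800000000000000000000000000000000000001142300000000000000000000c48a000000060900a0384180018000005000000000000000000000000000000000000001010000000000000000000004012a400000014c10860900a01c84200000000000000000000a88c000000483840100bc04750000000004040001a44405015100005003004a8400080000000540062202a2200400400000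01600940000000000000000000000300000000000000000000000000000000000000200100100020000000000000000000000000000000000000020040000000000000000005222080000000ea00201008011423020031c00000000000000000000000000000000000054006200000000000000000008d0140000003c12000081b222340400000000000000000048430200000020031c11104c020002000000000c74100bc000480009142200202052220800000029600800000000000000000000000000000000000002402e0000000000000000001040000000002118905400623c12000000000000000000000100080000000d0150642180202a220000003004a84120160800100000300100020a1188000000000000000000000000152c0000000000a88c000108040004000000040020296008202a22100080000c0001458400000000000008040000400420031c40e42006072001c84200000064218029600800010200000018081a000000000000000000000000000a0001b3000a11881a4440108606448a1000000011104c0080800000280000000c48a0000000000000000000100002152c0009142200000008020000000000000000000001b300000000000000000000000000000000000000152c00420c820882680084000000002118900000000000000000004c040c0000000000000000000000000000000000000081b222c2800000000000000000000000000000000000001000020000000000000000000a118800000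0202a220804000000280419060021000202000000002234040000000000000000000320e000000000000000000000000000000000000002402e048000000000000000000000000000000000000000000a0000000000000000000001b3000000000001020400200914220d015000000000000000000000000000000000000052220800000000000000000000202000000011104c0d01506421800000000000000000000914220000000269103c120021189000000054006202000200808022340414c10803841800000022c280483840000c740000000090000000000000000000000002040000000000000000000000000000000000001a444016009400000000000000000000000000000000000048430200000000000000000010008000000000020401b30000a88c40001000000000000000000000000000000000000040001000000000000000000048384000000008d0143004a8008400000000000000000000000c000000001a444021189060900a00000022c280108606501510101000152c000c48a0000000088268000000000000000000000000000000000000002100000000000000000000020200000000100bc020031c48384000000000000000000018081a000000223404000c7406072000000011104c0320e00001080ea0020090000802000000000000000000000000000a118800000000180040e420000c740000004000804120160882680c48a0002004400008000000000000448a1022c28002001008001008826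80480000000000400040320e00d01500000004012a4000000000000000000008040014584260848000000204000000000000000000000448a10000000000000000000000000000000000000448a102800c60000000000000000000000000000000000002960080000000000000000000008080000000145840882680800800102000000000000000000000000000000000000000a11880000000000000000000080400000006106400100084c040c000000000000000000100bc0000000080200420c821142300000004c040c01b30040e42018081a20400021189000000010860600000000000000000000000000000000000004190600000000000000000011104c00000000480002004022c2800000000000000000001020000000001086062234042400000000000480000419063004a8205160152c00448a1000000000000000000000000001020000000000014001c84210860600000000a88c0607200d0150420c820100802004000000000000000145840084000ea0021040002800c602020000000030a0500021002800c600000048430200000000000000000047500000000000000000000000000000000000000030a0500000000000000000004012a400000000808047500000400400000000000000000001458400000020000254006216009400000001c8420000444838401600943c1200001020000000000000000000000000038418000000420c82009000205160000000000a002608480000302000100c48a0448a1000000000000040004001000226084822c28041201640400000000047500020031c02402e000000010200000000000000000000000000000000000000202a220000001a444020400002100000000047500000002802691060900a108606000c7400000000000064218014c10809142200804008200008d0140000001000020081b25222080000000320e000000000000000000000000008826804190600050050151001b3002608480000001142304c040c0002040000002960080000000000000000002800c6050000610640000000160094000000000000000000400010000000000000000000000000000000000000000000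
def cA : ℕ := nat_lit 14823197115105139603848349215094212195904596621749873021204328859100309102841024
def cT : ℕ := nat_lit 4125096198583410174486893207368766924360916294205827659641496605549655260993568
def cU : ℕ := nat_lit 22233890386685322083487216536123492208058352002138663972755714762366302981496087
def cO : ℕ := nat_lit 22235700016442199761386877492295511536656168805265215164469239582907391591680032
def cone : ℕ := nat_lit 14823196894653652415146669414780848695537838543044284345601110906110107797522464

/-- the duad or hexad attached to a singular vector -/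
def gm (v : ℕ) : ℕ := pick gmT (nat_lit 24) (nat_lit 16777215) v

def fs (c : ℕ) : ℕ := Nat.shiftRight c (nat_lit 120)
def sn (c : ℕ) : ℕ := Nat.land c (nat_lit 1329227995784915872903807060280344575)
def pr (m p : ℕ) : ℕ := Nat.lor (Nat.shiftLeft m (nat_lit 120)) p
def cmul (c d : ℕ) : ℕ := force (fs c) fun a => force (fs d) fun b => force (sn c) fun p => force (sn d) fun q =>
  force (mm a b) fun m => force (pmul p q) fun r => pr m r
def cgens : List ℕ := [cA, cT, cU, cO]
def evalC (gens : List ℕ) (w : List ℕ) : ℕ :=
  List.rec (motive := fun _ => ℕ) cone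
    (fun i _ ih => force ih fun a => force (getL gens cone i) fun b => cmul b a) w
def cpow (c n : ℕ) : ℕ := Nat.rec (motive := fun _ => ℕ) cone (fun _ ih => force ih fun a => cmul c a) n

theorem cmul_eq (c d : ℕ) : cmul c d = pr (mm (fs c) (fs d)) (pmul (sn c) (sn d)) := by
  simp only [cmul, force_eq]

theorem code_lt (g : Perm Pt) : code g < 2 ^ 120 := by
  unfold code
  exact lt_two_pow_of_testBit fun b hb => ((testBit_bld (fun _ _ => lt_trans (idx_lt _) (by norm_num)) b).1 hb).1

theorem pr_eq (m : ℕ) {p : ℕ} (h : p < 2 ^ 120) : pr m p = 2 ^ 120 * m + p := by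
  change (m <<< 120) ||| p = _
  rw [Nat.shiftLeft_eq, mul_comm, Nat.two_pow_add_eq_or_of_lt h]

theorem fs_eq (c : ℕ) : fs c = c / 2 ^ 120 := Nat.shiftRight_eq_div_pow c 120
theorem sn_eq (c : ℕ) : sn c = c % 2 ^ 120 := Nat.and_two_pow_sub_one_eq_mod c 120

theorem fs_pr (m : ℕ) {p : ℕ} (h : p < 2 ^ 120) : fs (pr m p) = m := by
  rw [pr_eq m h, fs_eq, Nat.mul_add_div (by norm_num), Nat.div_eq_of_lt h, add_zero]

theorem sn_pr (m : ℕ) {p : ℕ} (h : p < 2 ^ 120) : sn (pr m p) = p := by
  rw [pr_eq m h, sn_eq, Nat.mul_add_mod, Nat.mod_eq_of_lt h]

theorem eq_of_fs_sn {c d : ℕ} (h1 : fs c = fs d) (h2 : sn c = sn d) : c = d := by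
  rw [fs_eq, fs_eq] at h1
  rw [sn_eq, sn_eq] at h2
  rw [← Nat.div_add_mod c (2 ^ 120), h1, h2, Nat.div_add_mod]

theorem fs_cone : fs cone = mone := by decide +kernel
theorem sn_cone : sn cone = pone := by decide +kernel
theorem sg_pone : sg pone = 0 := by decide +kernel

theorem sg_lt (p : ℕ) : sg p < 2 := by unfold sg; cases Nat.beq _ _ <;> decide

theorem sg_code (g : Perm Pt) : sg (code g) = 0 ↔ g (pt 23) = pt 23 := by
  unfold sg
  rw [apply_pt g (by norm_num)]
  cases h : Nat.beq (dig (code g) 23) 23
  · refine ⟨fun h => absurd h (by decide), fun e => ?_⟩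
    exact absurd (pt_inj (dig_code_lt g (by norm_num)) (by norm_num) e) (Nat.ne_of_beq_eq_false h)
  · exact ⟨fun _ => by rw [Nat.eq_of_beq_eq_true h], fun _ => rfl⟩

theorem sg_mul {g h : Perm Pt} (hg : g ∈ DD) (hh : h ∈ DD) :
    sg (code (g * h)) % 2 = (sg (code g) + sg (code h)) % 2 := by
  have a := sg_code g
  have b := sg_code h
  have c := sg_code (g * h)
  have := sg_lt (code g)
  have := sg_lt (code h)
  have := sg_lt (code (g * h))
  have h0 : pt 0 ≠ pt 23 := by decide
  rw [Perm.mul_apply] at c
  rcases (mem_DD.1 hg).2 with ⟨a1, a2⟩ | ⟨a1, a2⟩ <;> rcases (mem_DD.1 hh).2 with ⟨b1, b2⟩ | ⟨b1, b2⟩ <;>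
    simp only [a1, a2, b1, h0, iff_true, iff_false] at a b c <;> omega

theorem bet_self : ∀ v < 4096, bet v v = qq v := fun v hv => by
  simpa using allV (by decide +kernel : allP (fun v => Nat.beq (bet v v) (qq v)) 12 0 = true) hv

theorem bb_comm (v w : ℕ) : bb v w = bb w v := by
  have h1 := bb_mod v w
  have h2 := bb_mod w v
  have := bb_lt v w
  have := bb_lt w v
  rw [Nat.xor_comm] at h2
  omega

theorem qq_zero : qq 0 = 0 := by decide +kernel

theorem bb_zero (w : ℕ) : bb 0 w = 0 := by
  have h1 := bb_mod 0 w
  have := bb_lt 0 w
  rw [Nat.zero_xor, qq_zero] at h1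
  omega

theorem bet_zero (w : ℕ) : bet 0 w = 0 := by rw [bet_eq, ap_zero, bb_zero]

variable {G : Type*} [Group G]

namespace HM

variable (X : HM G)

/-- `n` has code `c` -/
def RC (n : G) (c : ℕ) : Prop := X.Rp n (fs c) (sn c)

/-- `g` has vector `v` and code `c` -/
def Rq (g : G) (v c : ℕ) : Prop := v < 4096 ∧ ∃ n, X.RC n c ∧ g = X.s v * n

/-- `c` is a code -/
def Ex (c : ℕ) : Prop := ∃ n, X.RC n c

theorem zz (k : ℕ) : X.z ^ k * X.z ^ k = 1 := by rw [← (Commute.refl X.z).mul_pow, X.z_sq, one_pow]
theorem z_two : X.z ^ 2 = 1 := by rw [pow_two, X.z_sq]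
theorem z_inv : X.z⁻¹ = X.z := inv_eq_of_mul_eq_one_right X.z_sq
theorem zk_inv (k : ℕ) : (X.z ^ k)⁻¹ = X.z ^ k := inv_eq_of_mul_eq_one_right (X.zz k)
theorem zmod {a b : ℕ} (e : a % 2 = b % 2) : X.z ^ a = X.z ^ b := zpow_mod X.z_sq e
theorem modz {a b : ℕ} (e : X.z ^ a = X.z ^ b) : a % 2 = b % 2 := mod_of_zpow X.z_sq X.z_ne e
theorem orderOf_z : orderOf X.z = 2 := orderOf_eq_prime X.z_two X.z_ne
theorem z_cases (k : ℕ) : X.z ^ k = 1 ∨ X.z ^ k = X.z := by
  rcases Nat.mod_two_eq_zero_or_one k with h | h
  · exact Or.inl ((X.zmod (b := 0) h).trans (pow_zero _))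
  · exact Or.inr ((X.zmod (b := 1) h).trans (pow_one _))
theorem zρ : Commute X.z X.ρ := X.rρ.1
theorem ρ_cube : X.ρ ^ 3 = 1 := X.ρ3 ▸ pow_orderOf_eq_one X.ρ
theorem ρ_ne : X.ρ ≠ 1 := fun h => by have := X.ρ3; rw [h, orderOf_one] at this; omega
theorem sz (v k : ℕ) : X.z ^ k * X.s v = X.s v * X.z ^ k := ((X.zs v).pow_left k).eq
theorem sz' (v k : ℕ) (y : G) : X.z ^ k * (X.s v * y) = X.s v * (X.z ^ k * y) := by
  rw [← mul_assoc, X.sz, mul_assoc]

theorem s_zero : X.s 0 = 1 := by
  simpa [bet_zero] using X.s_mul 0 (by norm_num) 0 (by norm_num)

theorem s_sq {v : ℕ} (hv : v < 4096) : X.s v * X.s v = X.z ^ qq v := by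
  rw [X.s_mul v hv v hv, Nat.xor_self, X.s_zero, one_mul, bet_self v hv]

theorem s_inv {v : ℕ} (hv : v < 4096) : (X.s v)⁻¹ = X.s v * X.z ^ qq v := by
  rw [inv_eq_iff_mul_eq_one, ← mul_assoc, X.s_sq hv, X.zz]

theorem s_eq {v w : ℕ} (hv : v < 4096) (hw : w < 4096) {i j : ℕ} (h : X.s v * X.z ^ i = X.s w * X.z ^ j) :
    v = w ∧ i % 2 = j % 2 := by
  have h1 : v = w := by
    refine Nat.eq_of_xor_eq_zero (X.s_inj _ (xor_lt hv hw) ?_)
    have : X.s (v ^^^ w) = X.z ^ (qq w + j + i + bet v w) := by
      rw [eq_mul_inv_iff_mul_eq.2 (X.s_mul v hv w hw).symm, eq_mul_inv_iff_mul_eq.2 h, X.zk_inv, X.zk_inv,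
        mul_assoc (X.s w), ← pow_add, mul_assoc (X.s w), X.sz, ← mul_assoc, X.s_sq hw, ← pow_add, ← pow_add,
        add_assoc (qq w) j]
    rw [this]
    exact X.z_cases _
  subst h1
  exact ⟨rfl, X.modz (mul_left_cancel h)⟩

theorem s_eq' {v w : ℕ} (hv : v < 4096) (hw : w < 4096) (h : X.s v = X.s w) : v = w :=
  (X.s_eq hv hw (i := 0) (j := 0) (by simpa using h)).1

theorem s_comm {v w : ℕ} (hv : v < 4096) (hw : w < 4096) : X.s v * X.s w = X.s w * X.s v * X.z ^ bb v w := by
  have h1 := X.s_sq (xor_lt hv hw)
  have h2 := X.s_mul v hv w hw
  have h3 : X.s v * X.s w * (X.s v * X.s w) = X.z ^ qq (v ^^^ w) := by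
    rw [h2, mul_assoc, ← mul_assoc (X.z ^ _), X.sz, mul_assoc (X.s _) (X.z ^ _), X.zz, mul_one, h1]
  have h4 : X.s w * X.s v = (X.s v)⁻¹ * X.z ^ qq (v ^^^ w) * (X.s w)⁻¹ := by rw [← h3]; group
  rw [h4, X.s_inv hv, X.s_inv hw]
  simp only [mul_assoc, X.sz', ← pow_add]
  rw [X.zmod (b := 0) (by have := bb_mod v w; omega), pow_zero, mul_one]

theorem s_conj {v w : ℕ} (hv : v < 4096) (hw : w < 4096) :
    X.s v * X.s w * (X.s v)⁻¹ = X.s w * X.z ^ bb v w := by
  rw [X.s_comm hv hw, mul_assoc (X.s w), ← X.sz, ← mul_assoc, mul_inv_cancel_right]

theorem π_one : X.π 1 = 1 := by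
  simpa using X.π_mul 1 1 (Commute.one_right _) (Commute.one_right _)

theorem π_pow {g : G} (hg : Commute X.z g) (n : ℕ) : X.π (g ^ n) = X.π g ^ n := by
  induction n with
  | zero => simpa using X.π_one
  | succ n ih => rw [pow_succ, X.π_mul _ _ (hg.pow_right n) hg, ih, pow_succ]

theorem π_inv {g : G} (hg : Commute X.z g) : X.π g⁻¹ = (X.π g)⁻¹ := by
  rw [eq_inv_iff_mul_eq_one, ← X.π_mul _ _ hg.inv_right hg, inv_mul_cancel, X.π_one]

theorem π_zk (k : ℕ) : X.π (X.z ^ k) = 1 := by rw [X.π_pow (Commute.refl _), X.π_z, one_pow]

theorem π_ρ : X.π X.ρ = 1 := code_inj (X.rρ.2.2.1.trans code_one.symm)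

variable {X}

namespace RC

variable {n n' : G} {c d : ℕ}

theorem zc (h : X.RC n c) : Commute X.z n := h.1
theorem ρc (h : X.RC n c) : n * X.ρ * n⁻¹ = X.ρ ^ (1 + sg (sn c)) := h.2.1
theorem code_π (h : X.RC n c) : code (X.π n) = sn c := h.2.2.1
theorem π_eq (h : X.RC n c) : X.π n = perm (sn c) := by rw [← h.code_π, perm_code]
theorem act (h : X.RC n c) {v : ℕ} (hv : v < 4096) :
    n * X.s v * n⁻¹ = X.s (ap (fs c) v) * X.z ^ (sg (sn c) * qq v) := h.2.2.2.2 v hv
theorem inD (h : X.RC n c) : InH DD (sn c) := ⟨_, X.π_mem n h.zc, h.code_π⟩
theorem zk (h : X.RC n c) (k : ℕ) : n * X.z ^ k * n⁻¹ = X.z ^ k := conj_eq_iff_commute.2 (h.zc.pow_left k).symm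

theorem qq_ap (h : X.RC n c) {v : ℕ} (hv : v < 4096) : qq (ap (fs c) v) = qq v := by
  have h1 := X.modz (a := qq (ap (fs c) v)) (b := qq v) (by
    rw [← X.s_sq (ap_lt _ _), ← h.zk, ← X.s_sq hv, cjm, h.act hv, mul_assoc, ← mul_assoc (X.z ^ _), X.sz,
      mul_assoc (X.s _) (X.z ^ _), X.zz, mul_one])
  have := qq_lt v
  have := qq_lt (ap (fs c) v)
  omega

theorem bb_ap (h : X.RC n c) {v w : ℕ} (hv : v < 4096) (hw : w < 4096) :
    bb (ap (fs c) v) (ap (fs c) w) = bb v w := by
  have h1 := bb_mod v w
  have h2 := bb_mod (ap (fs c) v) (ap (fs c) w)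
  rw [← ap_xor, h.qq_ap hv, h.qq_ap hw, h.qq_ap (xor_lt hv hw)] at h2
  have := bb_lt v w
  have := bb_lt (ap (fs c) v) (ap (fs c) w)
  omega

theorem fs_cmul (c d : ℕ) (h : X.RC n c) (h' : X.RC n' d) : fs (cmul c d) = mm (fs c) (fs d) := by
  rw [cmul_eq, fs_pr]
  rw [← h.code_π, ← h'.code_π, pmul_code]; exact code_lt _

theorem sn_cmul (c d : ℕ) (h : X.RC n c) (h' : X.RC n' d) : sn (cmul c d) = pmul (sn c) (sn d) := by
  rw [cmul_eq, sn_pr]
  rw [← h.code_π, ← h'.code_π, pmul_code]; exact code_lt _

theorem mul (h : X.RC n c) (h' : X.RC n' d) : X.RC (n * n') (cmul c d) := by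
  have e : code (X.π (n * n')) = pmul (sn c) (sn d) := by
    rw [X.π_mul _ _ h.zc h'.zc, ← pmul_code, h.code_π, h'.code_π]
  have s := sg_mul (X.π_mem n h.zc) (X.π_mem n' h'.zc)
  rw [← X.π_mul _ _ h.zc h'.zc, e, h.code_π, h'.code_π] at s
  unfold RC
  rw [fs_cmul c d h h', sn_cmul c d h h']
  refine ⟨h.zc.mul_right h'.zc, ?_, e, mm_lt _ _, fun v hv => ?_⟩
  · rw [show n * n' * X.ρ * (n * n')⁻¹ = n * (n' * X.ρ * n'⁻¹) * n⁻¹ by group, h'.ρc, ← conj_pow, h.ρc, ← pow_mul,
      pow_eq_pow_mod _ X.ρ_cube, pow_eq_pow_mod (1 + _) X.ρ_cube]
    have := sg_lt (sn c)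
    have := sg_lt (sn d)
    have := sg_lt (pmul (sn c) (sn d))
    generalize sg (sn c) = a at *
    generalize sg (sn d) = b at *
    generalize sg (pmul (sn c) (sn d)) = k at *
    interval_cases a <;> interval_cases b <;> interval_cases k <;> simp_all
  · rw [show n * n' * X.s v * (n * n')⁻¹ = n * (n' * X.s v * n'⁻¹) * n⁻¹ by group, h'.act hv, cjm, h.zk,
      h.act (ap_lt _ _), h'.qq_ap hv, ap_mm _ _ hv, mul_assoc, ← pow_add, ← add_mul]
    congr 1
    refine X.zmod ?_
    rw [Nat.mul_mod, ← s, ← Nat.mul_mod]

theorem unique (h : X.RC n c) (h' : X.RC n d) : c = d :=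
  eq_of_fs_sn (mat_ext h.2.2.2.1 h'.2.2.2.1 fun _ hv =>
    (X.s_eq (ap_lt _ _) (ap_lt _ _) ((h.act hv).symm.trans (h'.act hv))).1) (h.code_π.symm.trans h'.code_π)

end RC

variable (X)

theorem rc_zk (k : ℕ) : X.RC (X.z ^ k) cone := by
  unfold RC
  rw [fs_cone, sn_cone]
  refine ⟨(Commute.refl _).pow_right k, ?_, by rw [X.π_zk, code_one], mone_lt, fun v hv => ?_⟩
  · rw [sg_pone, conj_eq_iff_commute.2 (X.zρ.pow_left k), add_zero, pow_one]
  · rw [sg_pone, ap_mone hv, zero_mul, pow_zero, mul_one, conj_eq_iff_commute.2 ((X.zs v).pow_left k)]

theorem rc_one : X.RC 1 cone := by simpa using X.rc_zk 0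
theorem rc_z : X.RC X.z cone := by simpa using X.rc_zk 1

theorem rc_ρ : X.RC X.ρ cO := by
  unfold RC
  rw [show fs cO = mO by decide +kernel, show sn cO = pone by decide +kernel]; exact X.rρ

theorem ex_gens : ∀ c ∈ cgens, X.Ex c := by
  intro c hc
  simp only [cgens, List.mem_cons, List.not_mem_nil, or_false] at hc
  unfold Ex RC
  rcases hc with rfl | rfl | rfl | rfl
  · rw [show fs cA = mA by decide +kernel, show sn cA = ca by decide +kernel]; exact X.ra
  · rw [show fs cT = mT by decide +kernel, show sn cT = ct by decide +kernel]; exact X.rt
  · rw [show fs cU = mU by decide +kernel, show sn cU = cu by decide +kernel]; exact X.ru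
  · exact ⟨_, X.rc_ρ⟩

variable {X}

theorem RC.pow {n : G} {c : ℕ} (h : X.RC n c) (k : ℕ) : X.RC (n ^ k) (cpow c k) := by
  induction k with
  | zero => rw [pow_zero]; exact X.rc_one
  | succ k ih =>
    change X.RC _ (force (cpow c k) fun a => cmul c a)
    rw [force_eq, pow_succ']
    exact h.mul ih

theorem RC.mulz {n : G} {c : ℕ} (h : X.RC n c) (k : ℕ) : X.RC (n * X.z ^ k) c := by
  have h1 := X.rc_zk k
  refine ⟨h.zc.mul_right h1.zc, ?_, by rw [X.π_mul _ _ h.zc h1.zc, X.π_zk, mul_one, h.code_π], h.2.2.2.1,
    fun v hv => ?_⟩
  · rw [← h.ρc, show n * X.z ^ k * X.ρ * (n * X.z ^ k)⁻¹ = n * (X.z ^ k * X.ρ * (X.z ^ k)⁻¹) * n⁻¹ by group,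
      conj_eq_iff_commute.2 (X.zρ.pow_left k)]
  · rw [← h.act hv, show n * X.z ^ k * X.s v * (n * X.z ^ k)⁻¹ = n * (X.z ^ k * X.s v * (X.z ^ k)⁻¹) * n⁻¹ by group,
      conj_eq_iff_commute.2 ((X.zs v).pow_left k)]

theorem RC.inv [Finite G] {n : G} {c : ℕ} (h : X.RC n c) : ∃ d, X.RC n⁻¹ d := by
  refine ⟨cpow c (orderOf n - 1), ?_⟩
  have : n⁻¹ = n ^ (orderOf n - 1) := by
    rw [inv_eq_iff_mul_eq_one, ← pow_succ', Nat.sub_add_cancel (orderOf_pos n), pow_orderOf_eq_one]
  rw [this]
  exact h.pow _

theorem Ex.mul {c d : ℕ} (h : X.Ex c) (h' : X.Ex d) : X.Ex (cmul c d) := by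
  obtain ⟨n, h⟩ := h
  obtain ⟨n', h'⟩ := h'
  exact ⟨_, h.mul h'⟩

theorem ex_evalC {gens : List ℕ} (h : ∀ c ∈ gens, X.Ex c) (w : List ℕ) : X.Ex (evalC gens w) := by
  induction w with
  | nil => exact ⟨1, X.rc_one⟩
  | cons i w ih =>
    change X.Ex (force (evalC gens w) fun a => force (getL gens cone i) fun b => cmul b a)
    rw [force_eq, force_eq]
    refine Ex.mul ?_ ih
    rcases getL_mem gens cone i with e | e
    · rw [e]; exact ⟨1, X.rc_one⟩
    · exact h _ e

variable (X) in
theorem ex_of_word (w : List ℕ) {c : ℕ} (h : evalC cgens w = c) : X.Ex c := h ▸ ex_evalC X.ex_gens w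

theorem eq_zero_of_rc {v k : ℕ} (hv : v < 4096) {c : ℕ} (h : X.RC (X.s v * X.z ^ k) c) : v = 0 := by
  have h1 := h.ρc
  rw [← h.code_π, X.π_mul _ _ (X.zs v) (X.rc_zk k).zc, X.π_s, X.π_zk, mul_one, code_one, sg_pone, add_zero,
    pow_one] at h1
  have h2 : Commute (X.s v) X.ρ := by
    simpa using (conj_eq_iff_commute.1 h1).mul_left (X.zρ.pow_left k).inv_left
  have h3 := X.rρ.2.2.2.2 v hv
  rw [conj_eq_iff_commute.2 h2.symm, sg_pone, zero_mul, pow_zero, mul_one] at h3
  have c := allV (by decide +kernel : allP (fun v => bimp (Nat.beq v (ap mO v)) (Nat.beq v 0)) 12 0 = true) hv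
  simp only [bimp_eq_true, beq_iff] at c
  exact c (X.s_eq' hv (ap_lt _ _) h3)

theorem RC.eq_of_cone {n : G} (h : X.RC n cone) : ∃ k : ℕ, n = X.z ^ k := by
  obtain ⟨v, hv, k, rfl⟩ := X.faith n h.zc fun v hv => Or.inl (by
    rw [h.act hv, fs_cone, sn_cone, sg_pone, ap_mone hv, zero_mul, pow_zero, mul_one])
  exact ⟨k, by rw [eq_zero_of_rc hv h, X.s_zero, one_mul]⟩

theorem RC.eq [Finite G] {n n' : G} {c : ℕ} (h : X.RC n c) (h' : X.RC n' c) : ∃ k : ℕ, n' = n * X.z ^ k := by
  obtain ⟨d, hd⟩ := h.inv
  have h1 := hd.mul h'
  rw [(hd.mul h).unique (by rw [inv_mul_cancel]; exact X.rc_one)] at h1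
  obtain ⟨k, e⟩ := h1.eq_of_cone
  exact ⟨k, by rw [← e, mul_inv_cancel_left]⟩

/-- lifting along an induction over the generators -/
theorem lift_ind' {gens : List ℕ} (hex : ∀ g ∈ gens, X.Ex g) (hO : cO ∈ gens) (P : ℕ → Prop) (h1 : P cone)
    (hm : ∀ g ∈ gens, ∀ c, X.Ex c → P c → P (cmul g c)) {g : G} (hg : Commute X.z g)
    (hπ : X.π g ∈ gen (gens.map sn)) : ∃ v < 4096, ∃ n c, X.RC n c ∧ P c ∧ g = X.s v * n := by
  have key : ∀ d ∈ gen (gens.map sn), ∃ n c, X.RC n c ∧ P c ∧ X.π n = d := by
    intro d hd
    refine gen_induction (fun d => ∃ n c, X.RC n c ∧ P c ∧ X.π n = d) ⟨1, _, X.rc_one, h1, X.π_one⟩ ?_ hd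
    rintro g h hg ⟨x, c, x1, x2, rfl⟩
    obtain ⟨c', h2, h3⟩ := List.mem_map.1 hg
    obtain ⟨y, hy⟩ := hex c' h2
    exact ⟨y * x, _, hy.mul x1, hm _ h2 _ ⟨_, x1⟩ x2, by
      rw [X.π_mul _ _ hy.zc x1.zc, hy.π_eq, h3, perm_code]⟩
  obtain ⟨n, c, a1, a2, a3⟩ := key _ hπ
  obtain ⟨v, hv, i, j, e⟩ := X.π_ker (g * n⁻¹) (hg.mul_right a1.zc.inv_right)
    (by rw [X.π_mul _ _ hg a1.zc.inv_right, X.π_inv a1.zc, a3, mul_inv_cancel])
  have : ∀ i, ∃ c, X.RC (X.ρ ^ i * n) c ∧ P c := fun i => by
    induction i with
    | zero => exact ⟨c, by simpa using a1, a2⟩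
    | succ i ih =>
      obtain ⟨c, b1, b2⟩ := ih
      exact ⟨_, by rw [pow_succ', mul_assoc]; exact X.rc_ρ.mul b1, hm _ hO _ ⟨_, b1⟩ b2⟩
  obtain ⟨c', b1, b2⟩ := this i
  refine ⟨v, hv, _, c', b1.mulz j, b2, ?_⟩
  rw [mul_inv_eq_iff_eq_mul.1 e, mul_assoc, mul_assoc, mul_assoc, (a1.zc.pow_left j).eq]

theorem DD_le_cgens : DD ≤ gen (cgens.map sn) := by
  refine DD_le_gen.trans (closure_mono fun g hg => ?_)
  rw [show cgens.map sn = [ca, ct, cu, pone] by decide +kernel]
  simp only [Set.mem_setOf_eq, List.mem_cons, List.not_mem_nil, or_false] at hg ⊢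
  tauto

theorem lift_ind (P : ℕ → Prop) (h1 : P cone) (hm : ∀ g ∈ cgens, ∀ c, X.Ex c → P c → P (cmul g c))
    {g : G} (hg : Commute X.z g) : ∃ v < 4096, ∃ n c, X.RC n c ∧ P c ∧ g = X.s v * n :=
  lift_ind' X.ex_gens (by simp [cgens]) P h1 hm hg (DD_le_cgens (X.π_mem g hg))

theorem exists_rq {g : G} (hg : Commute X.z g) : ∃ v c, X.Rq g v c := by
  obtain ⟨v, hv, n, c, h, -, e⟩ := lift_ind (fun _ => True) trivial (fun _ _ _ _ _ => trivial) hg
  exact ⟨v, c, hv, n, h, e⟩

namespace Rq

variable {g h : G} {v w c d : ℕ}

theorem lt (h : X.Rq g v c) : v < 4096 := h.1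
theorem ex (h : X.Rq g v c) : X.Ex c := by obtain ⟨-, n, h, -⟩ := h; exact ⟨n, h⟩
theorem zc (h : X.Rq g v c) : Commute X.z g := by
  obtain ⟨-, n, h, rfl⟩ := h
  exact (X.zs v).mul_right h.zc
theorem code_π (h : X.Rq g v c) : code (X.π g) = sn c := by
  obtain ⟨-, n, h, rfl⟩ := h
  rw [X.π_mul _ _ (X.zs v) h.zc, X.π_s, one_mul, h.code_π]

theorem mulz (h : X.Rq g v c) (k : ℕ) : X.Rq (g * X.z ^ k) v c := by
  obtain ⟨hv, n, h, rfl⟩ := h
  exact ⟨hv, _, h.mulz k, mul_assoc _ _ _⟩

theorem mul (h1 : X.Rq g v c) (h2 : X.Rq h w d) : X.Rq (g * h) (v ^^^ ap (fs c) w) (cmul c d) := by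
  obtain ⟨hv, n, h1, rfl⟩ := h1
  obtain ⟨hw, n', h2, rfl⟩ := h2
  refine ⟨xor_lt hv (ap_lt _ _), _, (h1.mul h2).mulz (bet v (ap (fs c) w) + sg (sn c) * qq w), ?_⟩
  rw [show X.s v * n * (X.s w * n') = X.s v * (n * X.s w * n⁻¹) * (n * n') by group, h1.act hw, ← mul_assoc (X.s v),
    X.s_mul _ hv _ (ap_lt _ _), mul_assoc (X.s _), ← pow_add, mul_assoc, ((h1.mul h2).zc.pow_left _).eq]

theorem act (h : X.Rq g v c) (hw : w < 4096) :
    g * X.s w * g⁻¹ = X.s (ap (fs c) w) * X.z ^ (sg (sn c) * qq w + bb v (ap (fs c) w)) := by
  obtain ⟨hv, n, h, rfl⟩ := h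
  rw [show X.s v * n * X.s w * (X.s v * n)⁻¹ = X.s v * (n * X.s w * n⁻¹) * (X.s v)⁻¹ by group, h.act hw, cjm,
    X.s_conj hv (ap_lt _ _), conj_eq_iff_commute.2 ((X.zs v).pow_left _).symm, mul_assoc, ← pow_add, add_comm]

theorem unique [Finite G] (h1 : X.Rq g v c) (h2 : X.Rq g w d) : v = w ∧ c = d := by
  obtain ⟨hv, n, h1, e1⟩ := h1
  obtain ⟨hw, n', h2, e2⟩ := h2
  obtain ⟨d', hd⟩ := h2.inv
  have e : n * n'⁻¹ = X.s (v ^^^ w) * X.z ^ (qq v + bet v w) := by
    rw [show n * n'⁻¹ = (X.s v)⁻¹ * (X.s v * n) * n'⁻¹ by group, ← e1, e2, ← mul_assoc, mul_inv_cancel_right,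
      X.s_inv hv, mul_assoc, X.sz, ← mul_assoc, X.s_mul _ hv _ hw, mul_assoc, ← pow_add, add_comm]
  obtain rfl : v = w := Nat.eq_of_xor_eq_zero (eq_zero_of_rc (xor_lt hv hw) (e ▸ h1.mul hd))
  obtain rfl : n = n' := mul_left_cancel (e1.symm.trans e2)
  exact ⟨rfl, h1.unique h2⟩

theorem eq [Finite G] (h1 : X.Rq g v c) (h2 : X.Rq h v c) : ∃ k : ℕ, h = g * X.z ^ k := by
  obtain ⟨hv, n, h1, rfl⟩ := h1
  obtain ⟨-, n', h2, rfl⟩ := h2
  obtain ⟨k, rfl⟩ := h1.eq h2
  exact ⟨k, (mul_assoc _ _ _).symm⟩

end Rq

theorem RC.rq {n : G} {c : ℕ} (h : X.RC n c) : X.Rq n 0 c := ⟨by norm_num, n, h, by rw [X.s_zero, one_mul]⟩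

theorem Rq.rc {n : G} {c : ℕ} (h : X.Rq n 0 c) : X.RC n c := by
  obtain ⟨-, n, h, rfl⟩ := h
  rwa [X.s_zero, one_mul]

variable (X) in
theorem rq_s {v : ℕ} (hv : v < 4096) : X.Rq (X.s v) v cone := ⟨hv, 1, X.rc_one, (mul_one _).symm⟩

variable (X) in
theorem rq_one : X.Rq 1 0 cone := X.rc_one.rq

theorem Rq.eq_of_cone {g : G} {v : ℕ} (h : X.Rq g v cone) : ∃ k : ℕ, g = X.s v * X.z ^ k := by
  obtain ⟨-, n, h, rfl⟩ := h
  obtain ⟨k, rfl⟩ := h.eq_of_cone
  exact ⟨k, rfl⟩

theorem Ex.ind [Finite G] (P : ℕ → Prop) (h1 : P cone) (hm : ∀ g ∈ cgens, ∀ c, X.Ex c → P c → P (cmul g c))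
    {c : ℕ} (h : X.Ex c) : P c := by
  obtain ⟨n, h⟩ := h
  obtain ⟨v, hv, n', c', a, b, e⟩ := lift_ind P h1 hm h.zc
  rwa [(h.rq.unique ⟨hv, n', a, e⟩).2]

theorem exists_rc [Finite G] {n : G} (h1 : Commute X.z n) (h2 : n * X.ρ * n⁻¹ = X.ρ ∨ n * X.ρ * n⁻¹ = X.ρ ^ 2) :
    ∃ c, X.RC n c := by
  obtain ⟨v, c, hv, m, h, rfl⟩ := exists_rq h1
  have h3 : ∃ i, X.s v * X.ρ * (X.s v)⁻¹ = X.ρ ^ i := by
    have h4 := h.ρc
    rw [show X.s v * m * X.ρ * (X.s v * m)⁻¹ = X.s v * (m * X.ρ * m⁻¹) * (X.s v)⁻¹ by group, h4, ← conj_pow] at h2
    have := sg_lt (sn c)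
    have r4 : ∀ x : G, x ^ 3 = 1 → x = (x ^ (1 + 1)) ^ 2 := fun x hx => by
      rw [← pow_mul, show (1 + 1) * 2 = 3 + 1 from rfl, pow_succ, hx, one_mul]
    interval_cases sg (sn c)
    · rcases h2 with h2 | h2
      · exact ⟨1, by simpa using h2⟩
      · exact ⟨2, by simpa using h2⟩
    · rw [r4 (X.s v * X.ρ * (X.s v)⁻¹) (by rw [conj_pow, X.ρ_cube]; simp)]
      rcases h2 with h2 | h2 <;> rw [h2]
      · exact ⟨2, rfl⟩
      · exact ⟨4, by rw [← pow_mul]⟩
  obtain ⟨i, h3⟩ := h3
  have h4 : X.Rq (X.s v * X.ρ * (X.s v * X.z ^ qq v)) _ _ := ((X.rq_s hv).mul X.rc_ρ.rq).mul ((X.rq_s hv).mulz _)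
  rw [← X.s_inv hv, h3] at h4
  have h5 := (h4.unique (X.rc_ρ.pow i).rq).1
  rw [ap_zero, Nat.xor_zero, show fs (cmul cone cO) = mO by decide +kernel] at h5
  have c := allV (by decide +kernel : allP (fun v => bimp (Nat.beq v (ap mO v)) (Nat.beq v 0)) 12 0 = true) hv
  simp only [bimp_eq_true, beq_iff] at c
  rw [c (Nat.eq_of_xor_eq_zero h5), X.s_zero, one_mul]
  exact ⟨_, h⟩

theorem Ex.ind' [Finite G] {gens : List ℕ} (hex : ∀ g ∈ gens, X.Ex g) (hO : cO ∈ gens) (P : ℕ → Prop)
    (h1 : P cone) (hm : ∀ g ∈ gens, ∀ c, X.Ex c → P c → P (cmul g c)) {n : G} {c : ℕ} (h : X.RC n c)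
    (hπ : X.π n ∈ gen (gens.map sn)) : P c := by
  obtain ⟨v, hv, n', c', a, b, e⟩ := lift_ind' hex hO P h1 hm h.zc hπ
  rwa [(h.rq.unique ⟨hv, n', a, e⟩).2]

theorem Ex.fs_cmul {c d : ℕ} (h : X.Ex c) (h' : X.Ex d) : fs (cmul c d) = mm (fs c) (fs d) := by
  obtain ⟨n, h⟩ := h
  obtain ⟨n', h'⟩ := h'
  exact RC.fs_cmul c d h h'

theorem Ex.sn_cmul {c d : ℕ} (h : X.Ex c) (h' : X.Ex d) : sn (cmul c d) = pmul (sn c) (sn d) := by
  obtain ⟨n, h⟩ := h
  obtain ⟨n', h'⟩ := h'
  exact RC.sn_cmul c d h h'

theorem Ex.inD {c : ℕ} (h : X.Ex c) : InH DD (sn c) := by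
  obtain ⟨n, h⟩ := h
  exact h.inD

theorem Ex.gm_ap [Finite G] {c : ℕ} (h : X.Ex c) {v : ℕ} (hv : v < 4096) :
    gm (ap (fs c) v) = mapp (sn c) (gm v) := by
  have hl : ∀ v, gm v = mask (unmask (gm v)) := fun v =>
    (mask_unmask (Nat.lt_succ_of_le Nat.and_le_right : gm v < 16777215 + 1)).symm
  refine Ex.ind (X := X) (fun c => ∀ v < 4096, gm (ap (fs c) v) = mapp (sn c) (gm v)) (fun v hv => ?_)
    (fun g hg c hc ih v hv => ?_) h v hv
  · rw [fs_cone, sn_cone, ap_mone hv, ← code_one, hl v, mapp_code, one_smul]
  · have e := X.ex_gens g hg
    have k := allL_eq_true.1 (by decide +kernel : allL (fun g => force (fs g) fun m => force (sn g) fun p =>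
      allP (fun v => Nat.beq (gm (ap m v)) (mapp p (gm v))) 12 0) cgens = true) g hg
    simp only [force_eq] at k
    rw [e.fs_cmul hc, e.sn_cmul hc, ap_mm _ _ hv, beq_iff.1 (allV k (ap_lt _ _)), ih v hv, ← e.inD.code_perm,
      ← hc.inD.code_perm, hl v, pmul_code, mapp_code, mapp_code, mapp_code, mul_smul]

theorem exists_lift {d : Perm Pt} (hd : d ∈ DD) : ∃ n c, X.RC n c ∧ X.π n = d := by
  refine gen_induction (fun d => ∃ n c, X.RC n c ∧ X.π n = d) ⟨1, _, X.rc_one, X.π_one⟩ ?_ (DD_le_cgens hd)
  rintro g h hg ⟨x, c, x1, rfl⟩
  obtain ⟨c', h2, h3⟩ := List.mem_map.1 hg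
  obtain ⟨y, hy⟩ := X.ex_gens c' h2
  exact ⟨y * x, _, hy.mul x1, by rw [X.π_mul _ _ hy.zc x1.zc, hy.π_eq, h3, perm_code]⟩

variable (X)

/-- the extraspecial group -/
def EE : Subgroup G where
  carrier := {g | ∃ v < 4096, ∃ k : ℕ, g = X.s v * X.z ^ k}
  one_mem' := ⟨0, by norm_num, 0, by simp [X.s_zero]⟩
  mul_mem' := by
    rintro _ _ ⟨v, hv, i, rfl⟩ ⟨w, hw, j, rfl⟩
    refine ⟨_, xor_lt hv hw, bet v w + (i + j), ?_⟩
    rw [mul_assoc, X.sz', ← mul_assoc, X.s_mul _ hv _ hw, mul_assoc, ← pow_add, ← pow_add]
  inv_mem' := by
    rintro _ ⟨v, hv, i, rfl⟩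
    exact ⟨v, hv, i + qq v, by rw [mul_inv_rev, X.zk_inv, X.s_inv hv, X.sz', ← pow_add]⟩

/-- the preimage of a group of permutations -/
def pre (K : Subgroup (Perm Pt)) : Subgroup G where
  carrier := {g | Commute X.z g ∧ X.π g ∈ K}
  one_mem' := ⟨Commute.one_right _, by rw [X.π_one]; exact one_mem _⟩
  mul_mem' := fun ha hb => ⟨ha.1.mul_right hb.1, by rw [X.π_mul _ _ ha.1 hb.1]; exact mul_mem ha.2 hb.2⟩
  inv_mem' := fun ha => ⟨ha.1.inv_right, by rw [X.π_inv ha.1]; exact inv_mem ha.2⟩

theorem mem_EE {g : G} : g ∈ X.EE ↔ ∃ v < 4096, ∃ k : ℕ, g = X.s v * X.z ^ k := Iff.rfl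
theorem mem_pre {K : Subgroup (Perm Pt)} {g : G} : g ∈ X.pre K ↔ Commute X.z g ∧ X.π g ∈ K := Iff.rfl
theorem s_mem {v : ℕ} (hv : v < 4096) : X.s v ∈ X.EE := ⟨v, hv, 0, by simp⟩
theorem z_mem : X.z ∈ X.EE := ⟨0, by norm_num, 1, by simp [X.s_zero]⟩
theorem z_EE {g : G} (h : g ∈ X.EE) : Commute X.z g := by
  obtain ⟨v, -, k, rfl⟩ := h
  exact (X.zs v).mul_right ((Commute.refl _).pow_right k)
theorem π_EE {g : G} (h : g ∈ X.EE) : X.π g = 1 := by
  obtain ⟨v, -, k, rfl⟩ := h
  rw [X.π_mul _ _ (X.zs v) (X.rc_zk k).zc, X.π_s, X.π_zk, mul_one]
theorem EE_le_pre (K : Subgroup (Perm Pt)) : X.EE ≤ X.pre K := fun _ h =>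
  ⟨X.z_EE h, by rw [X.π_EE h]; exact one_mem _⟩
theorem rq_EE {g : G} (h : g ∈ X.EE) : ∃ v, X.Rq g v cone := by
  obtain ⟨v, hv, k, rfl⟩ := h
  exact ⟨v, (X.rq_s hv).mulz k⟩
theorem pre_DD : X.pre DD = 𝒞[X.z] := by
  ext g
  rw [mem_cent_iff, mem_pre]
  exact ⟨fun h => h.1.symm, fun h => ⟨h.symm, X.π_mem g h.symm⟩⟩
theorem pre_mono {K L : Subgroup (Perm Pt)} (h : K ≤ L) : X.pre K ≤ X.pre L := fun _ a => ⟨a.1, h a.2⟩

theorem s_commute_iff {v w : ℕ} (hv : v < 4096) (hw : w < 4096) : Commute (X.s v) (X.s w) ↔ bb v w = 0 := by
  rw [commute_iff_eq, X.s_comm hv hw, mul_eq_left]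
  have := bb_lt v w
  refine ⟨fun h => ?_, fun h => by rw [h, pow_zero]⟩
  have := X.modz (b := 0) (h.trans (pow_zero _).symm)
  omega

theorem es : ES X.EE X.z where
  z_mem := X.z_mem
  z_ne := X.z_ne
  z_sq := X.z_sq
  z_comm := fun _ => X.z_EE
  cen := by
    rintro _ ⟨v, hv, k, rfl⟩ h
    have c := allV (by decide +kernel : allP (fun v => bor (Nat.beq v 0)
      (anyR (fun i => Nat.beq (bb v (Nat.pow 2 i)) 1) 12)) 12 0 = true) hv
    simp only [bor_eq_true, beq_iff, anyR_eq_true] at c
    rcases c with rfl | ⟨i, hi, c⟩
    · rw [X.s_zero, one_mul]; exact X.z_cases k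
    · have hi' : 2 ^ i < 4096 := (Nat.pow_lt_pow_right (by norm_num) hi : 2 ^ i < 2 ^ 12)
      have h1 : Commute (X.s v) (X.s (2 ^ i)) := by
        simpa using (h _ (X.s_mem hi')).mul_left ((X.zs _).pow_left k).inv_left
      exact absurd (((X.s_commute_iff hv hi').1 h1).symm.trans c) (by norm_num)
  comm := by
    rintro _ ⟨v, hv, i, rfl⟩ _ ⟨w, hw, j, rfl⟩
    have e : X.s v * X.z ^ i * (X.s w * X.z ^ j) = X.s w * X.z ^ j * (X.s v * X.z ^ i) * X.z ^ bb v w := by
      simp only [mul_assoc, X.sz', ← pow_add]
      rw [← mul_assoc, X.s_comm hv hw, mul_assoc, mul_assoc, ← pow_add]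
      congr 3; omega
    rcases X.z_cases (bb v w) with h | h <;> rw [h] at e
    · exact Or.inl (by rw [commute_iff_eq, e, mul_one])
    · exact Or.inr e
  nonab := ⟨X.s 1, X.s_mem (by norm_num), fun h => absurd (X.s_inj 1 (by norm_num) (Or.inl h)) one_ne_zero,
    fun h => absurd (X.s_inj 1 (by norm_num) (Or.inr h)) one_ne_zero⟩

theorem conj_EE {g e : G} (hg : Commute X.z g) (he : e ∈ X.EE) : g * e * g⁻¹ ∈ X.EE := by
  obtain ⟨v, hv, k, rfl⟩ := he
  obtain ⟨w, c, h⟩ := exists_rq hg
  rw [cjm, h.act hv, conj_eq_iff_commute.2 (hg.pow_left k).symm, mul_assoc, ← pow_add]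
  exact ⟨_, ap_lt _ _, _, rfl⟩

theorem norm_EE {g : G} (hg : Commute X.z g) : g ∈ 𝒩(X.EE) :=
  mem_normalizer_iff.2 fun e => ⟨X.conj_EE hg, fun h => by simpa [mul_assoc] using X.conj_EE hg.inv_right h⟩

end HM

theorem card_of_param {K : Subgroup G} {n : ℕ} (f : ℕ → G) (h1 : ∀ i < n, ∀ j < n, f i = f j → i = j)
    (h2 : ∀ g, g ∈ K ↔ ∃ i < n, f i = g) : Nat.card K = n := by
  rw [← Nat.card_congr (Equiv.ofBijective (fun i : Fin n => (⟨f i, (h2 _).2 ⟨i, i.2, rfl⟩⟩ : K))
    ⟨fun i j e => Fin.ext (h1 _ i.2 _ j.2 (congrArg Subtype.val e)), fun g => ?_⟩), Nat.card_fin]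
  obtain ⟨i, hi, e⟩ := (h2 g).1 g.2
  exact ⟨⟨i, hi⟩, Subtype.ext e⟩

namespace HM

variable (X : HM G)

theorem card_EE : Nat.card X.EE = 8192 := by
  refine card_of_param (fun i => X.s (i % 4096) * X.z ^ (i / 4096)) (fun i hi j hj e => ?_) fun g => ?_
  · have := X.s_eq (Nat.mod_lt _ (by norm_num)) (Nat.mod_lt _ (by norm_num)) e
    omega
  · refine ⟨?_, fun ⟨i, _, e⟩ => ⟨_, Nat.mod_lt _ (by norm_num), _, e.symm⟩⟩
    rintro ⟨v, hv, k, rfl⟩
    refine ⟨v + 4096 * (k % 2), by omega, ?_⟩
    rw [show (v + 4096 * (k % 2)) % 4096 = v by omega, X.zmod (b := k) (by omega)]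

theorem card_ker [Finite G] : Nat.card (X.pre ⊥) = 24576 := by
  refine card_of_param (fun i => X.s (i % 4096) * X.ρ ^ (i / 8192) * X.z ^ (i / 4096)) (fun i hi j hj e => ?_)
    fun g => ?_
  · have a : ∀ i, X.Rq (X.s (i % 4096) * X.ρ ^ (i / 8192) * X.z ^ (i / 4096)) (i % 4096) (cpow cO (i / 8192)) :=
      fun i => Rq.mulz ⟨Nat.mod_lt _ (by norm_num), _, X.rc_ρ.pow _, rfl⟩ _
    obtain ⟨b1, b2⟩ := (a i).unique (e ▸ a j)
    have b3 := (by decide +kernel : ∀ i < 3, ∀ j < 3, cpow cO i = cpow cO j → i = j) (i / 8192) (by omega)
      (j / 8192) (by omega) b2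
    simp only [b1, b3] at e
    have := X.modz (mul_left_cancel e)
    omega
  · constructor
    · rintro ⟨h1, h2⟩
      obtain ⟨v, hv, i, j, rfl⟩ := X.π_ker g h1 (mem_bot.1 h2)
      refine ⟨v + 4096 * (j % 2) + 8192 * (i % 3), by omega, ?_⟩
      rw [show (v + 4096 * (j % 2) + 8192 * (i % 3)) % 4096 = v by omega, X.zmod (b := j) (by omega),
        show (v + 4096 * (j % 2) + 8192 * (i % 3)) / 8192 = i % 3 by omega, ← pow_eq_pow_mod _ X.ρ_cube]
    · rintro ⟨i, -, rfl⟩
      refine mul_mem (mul_mem (X.EE_le_pre _ (X.s_mem (Nat.mod_lt _ (by norm_num)))) (pow_mem ?_ _))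
        (pow_mem (X.EE_le_pre _ X.z_mem) _)
      exact ⟨X.zρ, by rw [X.π_ρ]; exact one_mem _⟩

/-- the homomorphism to the permutations -/
def πh (K : Subgroup (Perm Pt)) : X.pre K →* K where
  toFun g := ⟨X.π g, g.2.2⟩
  map_one' := Subtype.ext X.π_one
  map_mul' a b := Subtype.ext (X.π_mul _ _ a.2.1 b.2.1)

theorem πh_surj {K : Subgroup (Perm Pt)} (h : K ≤ DD) : Function.Surjective (X.πh K) := fun d => by
  obtain ⟨n, c, h1, h2⟩ := exists_lift (X := X) (h d.2)
  exact ⟨⟨n, h1.zc, h2 ▸ d.2⟩, Subtype.ext h2⟩

theorem card_pre [Finite G] {K : Subgroup (Perm Pt)} (h : K ≤ DD) :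
    Nat.card (X.pre K) = 24576 * Nat.card K := by
  rw [← (X.πh K).ker.card_mul_index, index_ker, MonoidHom.range_eq_top.2 (X.πh_surj h), card_top, ← X.card_ker,
    show (X.πh K).ker = (X.pre ⊥).subgroupOf (X.pre K) from ?_,
    Nat.card_congr (subgroupOfEquivOfLe (X.pre_mono bot_le)).toEquiv]
  ext g
  rw [MonoidHom.mem_ker, mem_subgroupOf, mem_pre, mem_bot, Subtype.ext_iff]
  exact ⟨fun a => ⟨g.2.1, a⟩, fun a => a.2⟩

theorem card_H [Finite G] : Nat.card 𝒞[X.z] = 21799895040 := by
  rw [← X.pre_DD, X.card_pre le_rfl, card_DD]

theorem pre_le {gens : List ℕ} {K : Subgroup G} (hE : X.EE ≤ K) (hρ : X.ρ ∈ K)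
    (hg : ∀ c ∈ gens, ∃ n ∈ K, Commute X.z n ∧ code (X.π n) = c) : X.pre (gen gens) ≤ K := by
  rintro g ⟨h1, h2⟩
  have key : ∀ d ∈ gen gens, ∃ n ∈ K, Commute X.z n ∧ X.π n = d := by
    intro d hd
    refine gen_induction (fun d => ∃ n ∈ K, Commute X.z n ∧ X.π n = d)
      ⟨1, one_mem _, Commute.one_right _, X.π_one⟩ ?_ hd
    rintro g h hg' ⟨x, x1, x2, rfl⟩
    obtain ⟨y, y1, y2, y3⟩ := hg _ hg'
    exact ⟨y * x, mul_mem y1 x1, y2.mul_right x2, by rw [X.π_mul _ _ y2 x2, code_inj y3]⟩
  obtain ⟨n, a1, a2, a3⟩ := key _ h2
  obtain ⟨v, hv, i, j, e⟩ := X.π_ker (g * n⁻¹) (h1.mul_right a2.inv_right)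
    (by rw [X.π_mul _ _ h1 a2.inv_right, X.π_inv a2, a3, mul_inv_cancel])
  rw [mul_inv_eq_iff_eq_mul.1 e]
  exact mul_mem (mul_mem (mul_mem (hE (X.s_mem hv)) (pow_mem hρ _)) (pow_mem (hE X.z_mem) _)) a1

/-- a 2-element of the kernel lies in the extraspecial group -/
theorem mem_EE_of_pow [Finite G] {g : G} (h1 : Commute X.z g) (h2 : X.π g = 1) {k : ℕ} (h3 : g ^ 2 ^ k = 1) :
    g ∈ X.EE := by
  obtain ⟨v, hv, i, j, rfl⟩ := X.π_ker g h1 h2
  have := X.EE.normal_subgroupOf_iff_le_normalizer (K := X.pre ⊥) (X.EE_le_pre _) |>.2 fun g hg => X.norm_EE hg.1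
  have hc : (X.EE.subgroupOf (X.pre ⊥)).index = 3 := by
    have := (X.EE.subgroupOf (X.pre ⊥)).card_mul_index
    rw [X.card_ker, Nat.card_congr (subgroupOfEquivOfLe (X.EE_le_pre _)).toEquiv, X.card_EE] at this
    omega
  set g : X.pre ⊥ := ⟨_, h1, h2 ▸ one_mem _⟩ with hg
  have a1 : (QuotientGroup.mk g : _ ⧸ X.EE.subgroupOf (X.pre ⊥)) ^ 3 = 1 := by
    rw [← hc]; exact pow_card_eq_one'
  have a2 : (QuotientGroup.mk g : _ ⧸ X.EE.subgroupOf (X.pre ⊥)) ^ 2 ^ k = 1 := by
    rw [← QuotientGroup.mk_pow, show g ^ 2 ^ k = 1 from Subtype.ext h3]; rfl
  have a3 := pow_gcd_eq_one.2 ⟨a1, a2⟩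
  rw [Nat.Coprime.gcd_eq_one (Nat.Coprime.pow_right _ (by norm_num)), pow_one, QuotientGroup.eq_one_iff] at a3
  exact a3

end HM

end

end CA.J4

theorem CA.J4.realizeEqnsJ4Base : True := by
  have := @CA.J4.cone.eq_1
  have := @CA.J4.cone.eq_def
  have := @CA.J4.cone.congr_simp
  have := @CA.J4.cU.eq_1
  have := @CA.J4.cU.eq_def
  have := @CA.J4.cU.congr_simp
  have := @CA.J4.fs.eq_1
  have := @CA.J4.fs.eq_def
  have := @CA.J4.fs.congr_simp
  have := @CA.J4.cpow.eq_1
  have := @CA.J4.cpow.eq_def
  have := @CA.J4.cpow.congr_simp
  have := @CA.J4.sn.eq_1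
  have := @CA.J4.sn.eq_def
  have := @CA.J4.sn.congr_simp
  have := @CA.J4.cgens.eq_1
  have := @CA.J4.cgens.eq_def
  have := @CA.J4.cgens.congr_simp
  have := @CA.J4.HM.RC.eq_1.{0}
  have := @CA.J4.HM.RC.eq_def.{0}
  have := @CA.J4.HM.RC.congr_simp.{0}
  have := @CA.J4.gm.eq_1
  have := @CA.J4.gm.eq_def
  have := @CA.J4.gm.congr_simp
  have := @CA.J4.cA.eq_1
  have := @CA.J4.cA.eq_def
  have := @CA.J4.cA.congr_simp
  have := @CA.J4.evalC.eq_1
  have := @CA.J4.evalC.eq_def
  have := @CA.J4.evalC.congr_simp
  have := @CA.J4.gmT.eq_1
  have := @CA.J4.gmT.eq_def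
  have := @CA.J4.gmT.congr_simp
  have := @CA.J4.HM.pre.eq_1.{0}
  have := @CA.J4.HM.pre.eq_def.{0}
  have := @CA.J4.HM.pre.congr_simp.{0}
  have := @CA.J4.cO.eq_1
  have := @CA.J4.cO.eq_def
  have := @CA.J4.cO.congr_simp
  have := @CA.J4.HM.EE.eq_1.{0}
  have := @CA.J4.HM.EE.eq_def.{0}
  have := @CA.J4.HM.EE.congr_simp.{0}
  have := @CA.J4.HM.Rq.eq_1.{0}
  have := @CA.J4.HM.Rq.eq_def.{0}
  have := @CA.J4.HM.Rq.congr_simp.{0}
  have := @CA.J4.pr.eq_1
  have := @CA.J4.pr.eq_def
  have := @CA.J4.pr.congr_simp
  have := @CA.J4.HM.πh.eq_1.{0}
  have := @CA.J4.HM.πh.eq_def.{0}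
  have := @CA.J4.HM.πh.congr_simp.{0}
  have := @CA.J4.cT.eq_1
  have := @CA.J4.cT.eq_def
  have := @CA.J4.cT.congr_simp
  have := @CA.J4.HM.Ex.eq_1.{0}
  have := @CA.J4.HM.Ex.eq_def.{0}
  have := @CA.J4.HM.Ex.congr_simp.{0}
  have := @CA.J4.cmul.eq_1
  have := @CA.J4.cmul.eq_def
  have := @CA.J4.cmul.congr_simp
  trivial
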