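import Cfsg.Agent.J4.Base
import Cfsg.Agent.Lin.Basic

/-! Linear maps preserving the decomposable vectors of the exterior square in dimension five. -/

set_option autoImplicit false
set_option maxRecDepth 100000
set_option linter.unusedSectionVars false

namespace CA.J4

open CA.M24 CA.Fi CA.FG Cfsg Subgroup Equiv
open scoped commutatorElement Pointwise

noncomputable section

def wcT : ℕ := nat_lit 0x47264de4a96d6cdf48d273ab6eac7b59e1fc0f0387d671ebaaad9ce347d1b35b52a3789911c0011c0037c985bd287ddb09de30bbea8d7f18f1f80f1f80d7f18bbea89de307ddb05bd2837c9811c00264df000466edfd48964af6fb89262e7fd9c1b40f679fd0306beebd98a247f5bb5912237c991180037898118007f9b859920bfab899a20f7b98d1b00f7b98d1b00bfab899a207f9b85992037898118004a96f6edfe00045244d4cfb7bebfea85251a16c0fabafdef3eb0285946147f9bb5bd2a35091114005b5287f5b81140035490df738fb7a895610b1680fb7a8df738b1680956107f5b85b52835490114006cdf748966244d500044edff3c9b62a56d181240fcfb7d8b26b4695902047ddb35992235491110007d1b0591203509011000fd3b0d9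320b529091200fd3b0d9320b5290912007d1b05912035090110008d277af6fecfb7dedff400043224ca4294960dc0fd3b7df73ebfabd9de34701835250a3288910c009ce30beeb8def38fcfb010c0032c8852d0870d80fcfb0def38beeb89ce3070d8052d0832c8810c00ab6ef89266ebfedc9b64224cb0004262dc940940fb7afd9326bbead99a247258b5010232c8910800baaa898a20faba8d8b2032888108007298850900faba8d8b20baaa898a2072988509003288810800c7b5fe7fde85255a56d44294b62dca00041204c0f7b9fd7f1eb5295956147298b52d0a3008110400d6718f679894610b469052508725881040030480f6798d6718b46909461072588525083048010400e1fc7c1b46a16c58124460dc340942204c100040f1f87d1b06b16859120470d83509023048110000f0380d0300b02809020070180501003008010000f0380d0300b02809020070180501003008010000f03c7f67defabedfcff4fd3f3fb7eaf7bd9f1fc0000070641e0a82d0cc340d0330b42a0781901c00e1f80e7f98ebfa8edfb0edfb0ebfa8e7f98e1f8001c0007c180bc280dc300dc300bc2807c1801c00d675fd0346def7dd8b64df77bd9362d7f59d1b400641f000060ec3d088240f43b0902207c1901800c7b18c1b00cfb38c9b20cfb38c9b20c7b18c1b0007818018000f83809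8200f838098200781801800baaefbeefeb02c5b46d4bfafbbbeeab52d1b16c00a82f0ec3e00005044140f83b0bc2a0501101400ab6a8af6b8a1680a5690af6b8ab6a8a5690a16800b4280f43801400054100f4380b42805410014009ce7798a6694655902449de7399a6295651912400cc370882604415000040dc330982205411010008d2308922085210812008d2308922085210812000d0300902005010010000d0300902005010010007d1f77f5fe7f9fd7ddf4701c3725ca729c970dc00d0370f43e0f83d0dc34000030240a0280900c006cdb06edb86edb86cdb060d8062d8862d8860d800cc300ec380ec380cc3000c0002c0802c0800c005b56f591665bd6d599645254b5014252d49509400b42f090260bc2d098240240b0000202c09008004a928489204a92848920429084090042908409000a828088200a8280882002808008000280800800378df37cde350d5354d4328cb32cca300c1304c00781f07c1e05015054140280b02c0a00001004002649826498244902449022488224882048020480064180641804410044100240802408004000040011c4711846114451104410c4310842104411004001c0701806014050100400c0300802004010000000000000000000000000000000000000000000000000000000000000000000000000000000000000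
def spT : ℕ := nat_lit 0x2efb3c000000000000abc000028f00000000000000000000000000026f000000000093c0000000000000000000000000000000000000000008bc0000000000000020f00000000000000000000bb8000000000000002ceab80000000000000028e000000000000000000009b80000000000000024e00000000000000000000000000000000000000008b80000000000000020e00000bb400b340000000000000000000000000000000000000000000000000000002ad0028d000009b40000000000009340000000000000000000000000000000000000000000022d00000000000020d002ec0000000000002cc0000000000000000000000000000000000000000002ac00000000000028c0026c00000000000024c00000000000000000000000000000000000000000022c00000000000020c002eb00000b2c000000000000000000000000000aac00000000028b000000000000000000000000000000000000000000000000000026b0000092c0000000000000000000000000008ac00000000020b00000ba80000000002ca0000000000000000000000000aa800000000028a0000000000000000000000000000000000000000000009a800000000024a00000000000000000000000008a800000000020a00000000000000000000ba40000000b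24000000000000000000000000000002a900000002890000000000000000000000000000009a400000009240000000000000000000000000000022900000002090000000000000000000000000002e800000002c80000000000000000000000000002a800000002880000000000000000000000000002680000000248000000000000000000000000000228000000020800367d1c000000000000c9c000030700000000000000000000000000000000000000000000000000000000000000000000000000000000000000000000000000000026791c00000000000089c00002070000000000d9800003460000000000c9800003060000000000000000000000000000000000000000000000000000000000000000000000000000000000000000009980000246000000000089800002060000000000000000000000000000000000000000d9400d14000000000000003250030500000000000000000000000000000000000000000000000000000000000099400914000000000000002250020500000000000000000000000000000000000000000000000000003640034400000000000032400304000000000000000000000000000000000000000000000000000026400244000000000000224002040000000000000000000000000000000000000000000000000000000000000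0000000000000000000e8f8300000000000000000000c8f0300000000000000000000a8e830000000000000000000088e0300000000000000000000000000000000000000000000000000000000000000000000000000000000000000000000000e8b82000000000000000c8b02000000000000000a8a8200000000000000088a0200000000000000000000000000000000000000000000000000000000000000000000000000000000000000000000000000000000000000000000000000000000000000000000f0781d0701b0681906010016751c00598000014649c00001074980000106594005140000164001440012500105001240010468d830000000000689820000048d030000048902000000000028c832888270581505013048110400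

/-- the wedge product of two vectors of dimension five -/
def wc (u v : ℕ) : ℕ := pick wcT 10 1023 (Nat.add (Nat.mul 32 u) v)
/-- the points on a decomposable vector -/
def sp (x : ℕ) : ℕ := force (pick spT 10 1023 x) fun c => bif' (Nat.beq c 0) 0 (force (Nat.land c 31) fun a =>
  force (Nat.shiftRight c 5) fun b => Nat.lor (Nat.pow 2 a) (Nat.lor (Nat.pow 2 b) (Nat.pow 2 (Nat.xor a b))))
/-- decomposable vectors -/
def Dc (x : ℕ) : Bool := bne' (pick spT 10 1023 x) 0
def st (p x : ℕ) : Bool := tb (sp x) p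

theorem wc_lt (u v : ℕ) : wc u v < 1024 := Nat.lt_succ_of_le Nat.and_le_right
theorem all10 {f : ℕ → Bool} (h : allP f 10 0 = true) {v : ℕ} (hv : v < 1024) : f v = true := allP_zero h v hv
theorem xor_lt10 {a b : ℕ} (ha : a < 1024) (hb : b < 1024) : a ^^^ b < 1024 := Nat.xor_lt_two_pow (n := 10) ha hb
theorem xor_lt5 {a b : ℕ} (ha : a < 32) (hb : b < 32) : a ^^^ b < 32 := Nat.xor_lt_two_pow (n := 5) ha hb
theorem wc_comm : ∀ a < 32, ∀ b < 32, wc a b = wc b a := by decide +kernel
theorem wc_self : ∀ a < 32, wc a a = 0 := by decide +kernel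
theorem wc_zero : ∀ a < 32, wc 0 a = 0 := by decide +kernel
theorem Dc_zero : ¬ Dc 0 = true := by decide +kernel
theorem st_wc : ∀ p < 32, ∀ u < 32, wc p u ≠ 0 → st p (wc p u) = true := by decide +kernel

theorem wc_xor {a b c : ℕ} (ha : a < 32) (hb : b < 32) (hc : c < 32) : wc (a ^^^ b) c = wc a c ^^^ wc b c := by
  have := (by decide +kernel : allR (fun a => allR (fun b => allR (fun c =>
    Nat.beq (wc (Nat.xor a b) c) (Nat.xor (wc a c) (wc b c))) 32) 32) 32 = true)
  simp only [allR_eq_true, beq_iff] at this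
  exact this a ha b hb c hc

theorem wc_xor' {a b c : ℕ} (ha : a < 32) (hb : b < 32) (hc : c < 32) : wc c (a ^^^ b) = wc c a ^^^ wc c b := by
  rw [wc_comm c hc _ (xor_lt5 ha hb), wc_xor ha hb hc, wc_comm a ha c hc, wc_comm b hb c hc]

theorem eq_wc {x p q : ℕ} (hx : x < 1024) (hp : p < 32) (hq : q < 32) (a : st p x = true) (b : st q x = true)
    (h : p ≠ q) : x = wc p q := by
  have := all10 (by decide +kernel : allP (fun x => force (sp x) fun m => bor (Nat.beq m 0) (allR (fun p => bimp (tb m p)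
    (allR (fun q => bimp (tb m q) (bor (Nat.beq p q) (Nat.beq x (wc p q)))) 32)) 32)) 10 0 = true) hx
  simp only [force_eq, bor_eq_true, beq_iff, allR_eq_true, bimp_eq_true] at this
  exact ((this.resolve_left fun e => by simp [st, e] at a) p hp a q hq b).resolve_left h

theorem mem_sp {q r s : ℕ} (hq : q < 32) (hr : r < 32) (hs : s < 32) (h : st s (wc q r) = true) :
    s = q ∨ s = r ∨ s = q ^^^ r := by
  have := (by decide +kernel : allR (fun q => allR (fun r => force (sp (wc q r)) fun m => allR (fun s => bimp (tb m s)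
    (bor (Nat.beq s q) (bor (Nat.beq s r) (Nat.beq s (Nat.xor q r))))) 32) 32) 32 = true)
  simp only [allR_eq_true, force_eq, bimp_eq_true, bor_eq_true, beq_iff] at this
  exact this q hq r hr s hs h

theorem adj {x y : ℕ} (hx : x < 1024) (hy : y < 1024) (a : Dc x = true) (b : Dc y = true) (h : x ≠ y) :
    Dc (x ^^^ y) = true ↔ ∃ p < 32, st p x = true ∧ st p y = true := by
  have := all10 (by decide +kernel : allP (fun x => bimp (Dc x) (force (sp x) fun m => allP (fun y => bimp (Dc y)
    (bor (Nat.beq x y) (force (sp y) fun n => force (Nat.land m n) fun k => Nat.beq (bif' (Dc (Nat.xor x y)) 1 0)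
      (bif' (anyR (tb k) 32) 1 0)))) 10 0)) 10 0 = true) hx
  simp only [force_eq, bimp_eq_true] at this
  have := all10 (this a) hy
  simp only [force_eq, bimp_eq_true, bor_eq_true, beq_iff, bif'_eq, anyR_eq_true, tb_eq_true] at this
  have := (this b).resolve_left h
  have e : ∀ p, Nat.testBit (Nat.land (sp x) (sp y)) p = true ↔ st p x = true ∧ st p y = true := fun p => by
    change Nat.testBit (_ &&& _) p = true ↔ _
    simp [st]
  simp only [e] at this
  change Dc (Nat.xor x y) = true ↔ _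
  split_ifs at this <;> simp_all

attribute [local irreducible] wc sp Dc st ap

theorem star4 {a b c d : ℕ} (ha : a < 1024) (hb : b < 1024) (hc : c < 1024) (hd : d < 1024) (a1 : Dc a = true)
    (b1 : Dc b = true) (c1 : Dc c = true) (d1 : Dc d = true) (ab : Dc (a ^^^ b) = true) (ac : Dc (a ^^^ c) = true)
    (bc : Dc (b ^^^ c) = true) (ad : Dc (a ^^^ d) = true) (bd : Dc (b ^^^ d) = true) (cd : Dc (c ^^^ d) = true)
    (n1 : d ≠ a ^^^ b) (n2 : d ≠ a ^^^ c) (n3 : d ≠ b ^^^ c) (n4 : d ≠ b ^^^ a ^^^ c) {p : ℕ} (hp : p < 32)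
    (pa : st p a = true) (pb : st p b = true) : st p c = true := by
  have ne : ∀ {x y}, Dc (x ^^^ y) = true → x ≠ y := fun e f => Dc_zero (by rwa [f, Nat.xor_self] at e)
  by_contra pc
  obtain ⟨q, hq, qa, qc⟩ := (adj ha hc a1 c1 (ne ac)).1 ac
  obtain ⟨r, hr, rb, rc⟩ := (adj hb hc b1 c1 (ne bc)).1 bc
  have uq : ∀ {s}, s < 32 → st s a = true → st s b = true → s = p := fun hs e f => by_contra fun n =>
    ne ab ((eq_wc ha hs hp e pa n).trans (eq_wc hb hs hp f pb n).symm)
  have pq : p ≠ q := fun e => pc (e ▸ qc)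
  have pr : p ≠ r := fun e => pc (e ▸ rc)
  obtain rfl := eq_wc hc hq hr qc rc fun e => pq (uq hq qa (e ▸ rb)).symm
  have ea := eq_wc ha hp hq pa qa pq
  have eb := eq_wc hb hp hr pb rb pr
  by_cases pd : st p d = true
  · obtain ⟨s, hs, sc, sd⟩ := (adj hc hd c1 d1 (ne cd)).1 cd
    have e := eq_wc hd hp hs pd sd fun e => pc (e ▸ sc)
    rcases mem_sp hq hr hs sc with rfl | rfl | rfl
    exacts [ne ad (ea.trans e.symm), ne bd (eb.trans e.symm), n1 (by rw [e, wc_xor' hq hr hp, ← ea, ← eb])]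
  · obtain ⟨s, hs, sa, sd⟩ := (adj ha hd a1 d1 (ne ad)).1 ad
    obtain ⟨u, hu, ub, ud⟩ := (adj hb hd b1 d1 (ne bd)).1 bd
    have e := eq_wc hd hs hu sd ud fun e => pd (uq hs sa (e ▸ ub) ▸ sd)
    rcases (mem_sp hp hq hs (ea ▸ sa)).resolve_left fun f => pd (f ▸ sd) with rfl | rfl <;>
      rcases (mem_sp hp hr hu (eb ▸ ub)).resolve_left fun f => pd (f ▸ ud) with rfl | rfl
    · exact ne cd e.symm
    · exact n2 (by rw [e, wc_xor' hp hr hq, ← wc_comm p hp _ hq, ← ea])
    · exact n3 (by rw [e, wc_xor hp hq hr, ← eb])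
    · exact n4 (by rw [e, wc_xor hp hq hu, wc_xor' hp hr hp, wc_xor' hp hr hq, wc_self p hp, Nat.zero_xor,
        ← wc_comm p hp _ hq, ← ea, ← eb, Nat.xor_assoc])

def ot (i k : ℕ) : ℕ := wc (2 ^ i) (2 ^ if k < i then k else k + 1)

set_option synthInstance.maxSize 2000 in
theorem chow {f : ℕ → ℕ} (lt : ∀ x < 1024, f x < 1024) (add : ∀ x < 1024, ∀ y < 1024, f (x ^^^ y) = f x ^^^ f y)
    (hD : ∀ x < 1024, Dc (f x) = Dc x) (inj : ∀ x < 1024, f x = 0 → x = 0) :
    ∃ m, (∀ u, ap m u < 32) ∧ ∀ u < 32, ∀ v < 32, f (wc u v) = wc (ap m u) (ap m v) := by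
  have f0 : f 0 = 0 := by simpa using add 0 (by norm_num) 0 (by norm_num)
  have l : ∀ i k, ot i k < 1024 := fun _ _ => wc_lt _ _
  have d2 : ∀ {x y}, x < 1024 → y < 1024 → Dc (x ^^^ y) = true → Dc (f x ^^^ f y) = true := fun a b e => by
    rwa [← add _ a _ b, hD _ (xor_lt10 a b)]
  have n2 : ∀ {x y}, x < 1024 → y < 1024 → x ≠ y → f x ≠ f y := fun a b e h =>
    e (Nat.eq_of_xor_eq_zero (inj _ (xor_lt10 a b) (by rw [add _ a _ b, h, Nat.xor_self])))
  have c := (by decide +kernel : ∀ i < 5, ∀ k < 4, Dc (ot i k) = true ∧ ∀ j < 4, k ≠ j → Dc (ot i k ^^^ ot i j) = true ∧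
    ∀ n < 4, ot i n ≠ ot i k ^^^ ot i j ∧ (n = 2 ∨ ot i n ≠ ot i 1 ^^^ ot i 0 ^^^ ot i (5 - n)) ∧
      (n = 3 ∨ ot i n ≠ ot i 1 ^^^ ot i 0 ^^^ ot i (5 - n)))
  have s : ∀ i < 5, ∃ p < 32, ∀ k < 4, st p (f (ot i k)) = true := fun i hi => by
    have d1 : ∀ k < 4, Dc (f (ot i k)) = true := fun k hk => (hD _ (l i k)).trans (c i hi k hk).1
    have d3 : ∀ k < 4, ∀ j < 4, k ≠ j → Dc (f (ot i k) ^^^ f (ot i j)) = true := fun k hk j hj e =>
      d2 (l i k) (l i j) ((c i hi k hk).2 j hj e).1
    have d4 : ∀ k < 4, ∀ j < 4, k ≠ j → ∀ n < 4, f (ot i n) ≠ f (ot i k) ^^^ f (ot i j) := fun k hk j hj e n hn =>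
      add _ (l i k) _ (l i j) ▸ n2 (l i n) (xor_lt10 (l _ _) (l _ _)) (((c i hi k hk).2 j hj e).2 n hn).1
    have d5 := ((c i hi 0 (by norm_num)).2 1 (by norm_num) (by norm_num)).2
    obtain ⟨p, hp, a, b⟩ := (adj (lt _ (l i 0)) (lt _ (l i 1)) (d1 0 (by norm_num)) (d1 1 (by norm_num))
      fun e => Dc_zero (by simpa [e] using d3 0 (by norm_num) 1 (by norm_num) (by norm_num))).1
      (d3 0 (by norm_num) 1 (by norm_num) (by norm_num))
    have k : ∀ n < 4, 2 ≤ n → ot i n ≠ ot i 1 ^^^ ot i 0 ^^^ ot i (5 - n) → st p (f (ot i (5 - n))) = true :=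
      fun n hn h2 e => star4 (lt _ (l i 0)) (lt _ (l i 1)) (lt _ (l i _)) (lt _ (l i n)) (d1 0 (by omega)) (d1 1 (by omega))
        (d1 _ (by omega)) (d1 _ hn) (d3 0 (by omega) 1 (by omega) (by omega)) (d3 0 (by omega) _ (by omega) (by omega))
        (d3 1 (by omega) _ (by omega) (by omega)) (d3 0 (by omega) _ hn (by omega)) (d3 1 (by omega) _ hn (by omega))
        (d3 _ (by omega) _ hn (by omega)) (d4 0 (by omega) 1 (by omega) (by omega) n hn)
        (d4 0 (by omega) _ (by omega) (by omega) n hn) (d4 1 (by omega) _ (by omega) (by omega) n hn)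
        (by rw [← add _ (l _ _) _ (l _ _), ← add _ (xor_lt10 (l _ _) (l _ _)) _ (l _ _)]
            exact n2 (l _ _) (xor_lt10 (xor_lt10 (l _ _) (l _ _)) (l _ _)) e) hp a b
    refine ⟨p, hp, fun n hn => ?_⟩
    interval_cases n
    exacts [a, b, k 3 (by omega) (by omega) ((d5 3 (by omega)).2.1.resolve_left (by omega)),
      k 2 (by omega) (by omega) ((d5 2 (by omega)).2.2.resolve_left (by omega))]
  choose! p hp s using s
  have s' : ∀ i < 5, ∀ j < 5, i ≠ j → st (p i) (f (wc (2 ^ i) (2 ^ j))) = true := fun i hi j hj e => by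
    obtain ⟨k, hk, a⟩ := (by decide +kernel : ∀ i < 5, ∀ j < 5, i ≠ j → ∃ k < 4, wc (2 ^ i) (2 ^ j) = ot i k) i hi j hj e
    exact a ▸ s i hi k hk
  have p5 : ∀ {i}, i < 5 → 2 ^ i < 32 := fun h => (Nat.pow_lt_pow_right (by norm_num) h : _ < 2 ^ 5)
  have b : ∀ i < 5, ∀ j < 5, f (wc (2 ^ i) (2 ^ j)) = wc (p i) (p j) := fun i hi j hj => by
    rcases eq_or_ne i j with rfl | e
    · rw [wc_self _ (p5 hi), wc_self _ (hp i hi), f0]
    refine eq_wc (lt _ (wc_lt _ _)) (hp i hi) (hp j hj) (s' i hi j hj e) (wc_comm _ (p5 hj) _ (p5 hi) ▸ s' j hj i hi e.symm)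
      fun h => ?_
    obtain ⟨k, hk, n, hn, a1, a2⟩ := (by decide +kernel : ∀ i < 5, ∀ j < 5, i ≠ j → ∃ k < 4, ∃ n < 4, ot i k ≠ ot j n ∧
      ¬ Dc (ot i k ^^^ ot j n) = true) i hi j hj e
    refine a2 ?_
    rw [← hD _ (xor_lt10 (l _ _) (l _ _)), add _ (l _ _) _ (l _ _)]
    exact (adj (lt _ (l _ _)) (lt _ (l _ _)) ((hD _ (l _ _)).trans (c i hi k hk).1) ((hD _ (l _ _)).trans (c j hj n hn).1)
      (n2 (l _ _) (l _ _) a1)).2 ⟨_, hp i hi, s i hi k hk, h ▸ s j hj n hn⟩
  obtain ⟨m, e, g⟩ : ∃ m, (∀ i < 5, ap m (2 ^ i) = p i) ∧ ∀ u, ap m u < 32 := by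
    have e : ∀ i < 12, col (bl fun i => if i < 5 then p i else 0) i = if i < 5 then p i else 0 := fun i hi =>
      col_bl (fun i _ => by split_ifs with h; exacts [(hp i h).trans (by norm_num), by norm_num]) hi
    refine ⟨bl fun i => if i < 5 then p i else 0, fun i hi => by
      rw [ap_two_pow _ (by omega), e _ (by omega), if_pos hi], fun u => ?_⟩
    rw [ap_eq]
    refine xorSel_ind (· < 32) (by norm_num) (fun _ _ => xor_lt5) _ ?_ _ _
    simp [cols, e, hp]
  refine ⟨m, g, fun u hu v hv => ?_⟩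
  refine xor_induction (n := 5) (fun u => f (wc u v) = wc (ap m u) (ap m v)) ?_ (fun a b ha hb h1 h2 => ?_)
    (fun i hi => ?_) u hu
  · rw [ap_zero, wc_zero _ hv, wc_zero _ (g v), f0]
  · rw [ap_xor, wc_xor ha hb hv, wc_xor (g _) (g _) (g _), add _ (wc_lt _ _) _ (wc_lt _ _), h1, h2]
  refine xor_induction (n := 5) (fun v => f (wc (2 ^ i) v) = wc (ap m (2 ^ i)) (ap m v)) ?_ (fun a b ha hb h1 h2 => ?_)
    (fun j hj => ?_) v hv
  · rw [ap_zero, wc_comm _ (p5 hi) _ (by norm_num), wc_comm _ (g _) _ (by norm_num), wc_zero _ (p5 hi), wc_zero _ (g _), f0]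
  · rw [ap_xor, wc_xor' ha hb (p5 hi), wc_xor' (g _) (g _) (g _), add _ (wc_lt _ _) _ (wc_lt _ _), h1, h2]
  · rw [e i hi, e j hj, b i hi j hj]

abbrev V5 : Type := Fin 5 → ZMod 2
abbrev SL5 : Type := Matrix.SpecialLinearGroup (Fin 5) (ZMod 2)

/-- the vector with a given code -/
def cv (a : ℕ) : V5 := fun i => (bit a i : ℕ)
/-- the code of a vector -/
def vc (u : V5) : ℕ := (u 0).val + 2 * (u 1).val + 4 * (u 2).val + 8 * (u 3).val + 16 * (u 4).val
/-- the wedge product of two vectors -/
def wv (u v : V5) : ℕ := wc (vc u) (vc v)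

theorem cv_vc : ∀ u, cv (vc u) = u := by decide +kernel
theorem vc_lt : ∀ u, vc u < 32 := by decide +kernel
theorem vc_cv : ∀ a < 32, vc (cv a) = a := by decide +kernel
theorem vc_add : ∀ u v, vc (u + v) = vc u ^^^ vc v := by decide +kernel
theorem cv_xor : ∀ a < 32, ∀ b < 32, cv (a ^^^ b) = cv a + cv b := by decide +kernel

theorem wv_single : ∀ i : Fin 5, ∃ v < 32, ∃ w < 32, wc (vc (Pi.single i 1)) v ≠ 0 ∧
    wc (vc (Pi.single i 1)) w ≠ 0 ∧ wc (vc (Pi.single i 1)) v ≠ wc (vc (Pi.single i 1)) w := by decide +kernel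

theorem exists_wv {x : ℕ} (h : ∃ u < 32, ∃ v < 32, x = wc u v) : ∃ u v, x = wv u v := by
  obtain ⟨u, hu, v, hv, e⟩ := h
  exact ⟨cv u, cv v, by rw [wv, vc_cv u hu, vc_cv v hv, e]⟩

attribute [local irreducible] vc cv

open Matrix in
theorem exists_SL5 {G : Type*} [Group G] {α : ℕ → G} {A : Subgroup G} (hA : ∀ g, g ∈ A ↔ ∃ x < 1024, α x = g)
    (add : ∀ x < 1024, ∀ y < 1024, α (x ^^^ y) = α x * α y) (inj : ∀ x < 1024, ∀ y < 1024, α x = α y → x = y)
    (cls : ∀ x < 1024, ∀ y < 1024, IsConj (α x) (α y) → Dc y = Dc x) :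
    ∃ θ : 𝒩(A) →* SL5, (∀ (n : 𝒩(A)) u v, n * α (wv u v) * (n : G)⁻¹ = α (wv ((θ n).1 *ᵥ u) ((θ n).1 *ᵥ v))) ∧
      θ.ker = (𝒞(A)).subgroupOf _ := by
  have a0 : α 0 = 1 := by simpa using add 0 (by norm_num) 0 (by norm_num)
  have ex : ∀ n : 𝒩(A), ∃ M : Matrix (Fin 5) (Fin 5) (ZMod 2), ∀ u v,
      n * α (wv u v) * (n : G)⁻¹ = α (wv (M *ᵥ u) (M *ᵥ v)) := fun n => by
    choose! f f1 f2 using fun x (hx : x < 1024) => (hA _).1 (conj_mem_of_mem_norm n.2 ((hA _).2 ⟨x, hx, rfl⟩))
    obtain ⟨m, m1, m2⟩ := chow f1 (fun x hx y hy => inj _ (f1 _ (xor_lt10 hx hy)) _ (xor_lt10 (f1 _ hx) (f1 _ hy)) (by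
      rw [add _ (f1 _ hx) _ (f1 _ hy), f2 _ hx, f2 _ hy, f2 _ (xor_lt10 hx hy), add _ hx _ hy, cjm]))
      (fun x hx => cls x hx _ (f1 x hx) (isConj_iff.2 ⟨n, (f2 x hx).symm⟩)) fun x hx e => inj x hx 0 (by norm_num) (by
        have := f2 x hx
        rwa [e, a0, eq_comm, conj_eq_one_iff, ← a0] at this)
    refine ⟨LinearMap.toMatrix' ((AddMonoidHom.mk' (fun u => cv (ap m (vc u))) fun u v => by
      rw [vc_add, ap_xor, cv_xor _ (m1 _) _ (m1 _)]).toZModLinearMap 2), fun u v => ?_⟩
    rw [LinearMap.toMatrix'_mulVec, LinearMap.toMatrix'_mulVec, wv, ← f2 _ (wc_lt _ _), m2 _ (vc_lt u) _ (vc_lt v), wv]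
    exact congrArg α (congrArg₂ wc (vc_cv _ (m1 _)).symm (vc_cv _ (m1 _)).symm)
  have uq : ∀ (n : G) (M M' : Matrix (Fin 5) (Fin 5) (ZMod 2)), (∀ u v, n * α (wv u v) * n⁻¹ = α (wv (M *ᵥ u) (M *ᵥ v))) →
      (∀ u v, n * α (wv u v) * n⁻¹ = α (wv (M' *ᵥ u) (M' *ᵥ v))) → M = M' := fun n M M' h h' => by
    refine Matrix.ext_of_mulVec_single fun i => ?_
    obtain ⟨v, hv, w, hw, c1, c2, c3⟩ := wv_single i
    rw [← vc_cv v hv, ← vc_cv w hw] at *
    generalize cv v = v, cv w = w at *
    generalize (Pi.single i 1 : V5) = u at *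
    have k : ∀ v, wv u v ≠ 0 → st (vc (M *ᵥ u)) (wv (M *ᵥ u) (M *ᵥ v)) = true ∧
        st (vc (M' *ᵥ u)) (wv (M *ᵥ u) (M *ᵥ v)) = true := fun v e => by
      have e1 : wv (M *ᵥ u) (M *ᵥ v) ≠ 0 := fun f => e (inj _ (wc_lt _ _) _ (by norm_num) (by
        have := h u v
        rwa [f, a0, conj_eq_one_iff, ← a0] at this))
      have e2 := inj _ (wc_lt _ _) _ (wc_lt _ _) ((h u v).symm.trans (h' u v))
      exact ⟨st_wc _ (vc_lt _) _ (vc_lt _) e1, by rw [wv, e2]; exact st_wc _ (vc_lt _) _ (vc_lt _) (e2 ▸ e1)⟩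
    rw [← cv_vc (M *ᵥ u), ← cv_vc (M' *ᵥ u)]
    refine congrArg cv (by_contra fun e => c3 (inj _ (wc_lt _ _) _ (wc_lt _ _) ((MulAut.conj n).injective ?_)))
    exact (h u v).trans ((congrArg α ((eq_wc (wc_lt _ _) (vc_lt _) (vc_lt _) (k v c1).1 (k v c1).2 e).trans
      (eq_wc (wc_lt _ _) (vc_lt _) (vc_lt _) (k w c2).1 (k w c2).2 e).symm)).trans (h u w).symm)
  choose M hM using ex
  let β : 𝒩(A) →* Matrix (Fin 5) (Fin 5) (ZMod 2) :=
    { toFun := M
      map_one' := uq _ _ _ (hM 1) fun u v => by simp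
      map_mul' := fun l m => uq _ _ _ (hM (l * m)) fun u v => by
        rw [← mulVec_mulVec, ← mulVec_mulVec, ← hM, ← hM, coe_mul]; group }
  refine ⟨MonoidHom.mk' (fun l => ⟨β l, ((by decide : ∀ c : ZMod 2, c = 0 ∨ c = 1) _).resolve_left
    ((isUnit_iff_isUnit_det _).1 ((Group.isUnit l).map β)).ne_zero⟩) fun l m => Subtype.ext (map_mul β l m), hM,
    Subgroup.ext fun n => ⟨fun e => mem_cent_subgroup_iff.2 fun g hg => ?_, fun e => Subtype.ext (uq _ _ _ (hM n)
      fun u v => ?_)⟩⟩
  · obtain ⟨x, hx, rfl⟩ := (hA g).1 hg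
    refine xor_induction (n := 10) (fun x => Commute (n : G) (α x)) (a0 ▸ Commute.one_right _)
      (fun a b ha hb h1 h2 => add a ha b hb ▸ h1.mul_right h2) (fun i hi => ?_) x hx
    obtain ⟨u, v, e'⟩ := exists_wv ((by decide +kernel : ∀ i < 10, ∃ u < 32, ∃ v < 32, 2 ^ i = wc u v) i hi)
    rw [e']
    have := hM n u v
    rw [show M n = 1 from congrArg Subtype.val e, one_mulVec, one_mulVec] at this
    exact conj_eq_iff_commute.1 this
  · simpa [wv] using conj_eq_iff_commute.2 (mem_cent_subgroup_iff.1 e _ ((hA _).2 ⟨_, wc_lt _ _, rfl⟩))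

theorem card_SL5 : Nat.card SL5 = 9999360 :=
  (one_mul _).symm.trans ((Cfsg.Agent.Lin.card_SL (ZMod.card 2) 5 (by norm_num)).trans (by decide +kernel))

end

end CA.J4

theorem CA.J4.realizeEqnsJ4Chow : True := by
  have := @CA.J4.wc.eq_1
  have := @CA.J4.wc.eq_def
  have := @CA.J4.wc.congr_simp
  have := @CA.J4.cv.eq_1
  have := @CA.J4.cv.eq_def
  have := @CA.J4.cv.congr_simp
  have := @CA.J4.wv.eq_1
  have := @CA.J4.wv.eq_def
  have := @CA.J4.wv.congr_simp
  have := @CA.J4.vc.eq_1
  have := @CA.J4.vc.eq_def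
  have := @CA.J4.vc.congr_simp
  have := @CA.J4.sp.eq_1
  have := @CA.J4.sp.eq_def
  have := @CA.J4.sp.congr_simp
  have := @CA.J4.st.eq_1
  have := @CA.J4.st.eq_def
  have := @CA.J4.st.congr_simp
  have := @CA.J4.ot.eq_1
  have := @CA.J4.ot.eq_def
  have := @CA.J4.ot.congr_simp
  have := @CA.J4.V5.eq_1
  have := @CA.J4.V5.eq_def
  have := @CA.J4.V5.congr_simp
  have := @CA.J4.Dc.eq_1
  have := @CA.J4.Dc.eq_def
  have := @CA.J4.Dc.congr_simp
  have := @CA.J4.SL5.eq_1
  have := @CA.J4.SL5.eq_def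
  have := @CA.J4.SL5.congr_simp
  have := @CA.J4.wcT.eq_1
  have := @CA.J4.wcT.eq_def
  have := @CA.J4.wcT.congr_simp
  have := @CA.J4.spT.eq_1
  have := @CA.J4.spT.eq_def
  have := @CA.J4.spT.congr_simp
  trivial
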