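import Cfsg.Agent.J4.T
import Cfsg.Agent.Blk.ZCor

/-! The involution is fused inside the elementary abelian group of order 2048. -/

set_option autoImplicit false
set_option maxRecDepth 100000
set_option linter.unusedSectionVars false

namespace CA.J4

open CA.M24 CA.Fi CA.FG Cfsg Subgroup Equiv
open scoped commutatorElement Pointwise

noncomputable section

def c2B : ℕ := nat_lit 6645006373272415228608110747703656537941195713992708567946600083820090337887319
def c2C : ℕ := nat_lit 22604169607925857618588817291481688520560805833570046850439112051902692328510583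
def invW : List (ℕ × List ℕ) := [(nat_lit 5370735891352410835932996573372185748290280711945442233516635795107095248996384, []), (nat_lit 5833827825264378968128876744886231872339546202623599211182316846727305776695328, [1, 1, 1, 0]), (nat_lit 1702303628934876147648483191974364872185954089616172530555699210198615320528928, [0, 0, 1, 2]), (nat_lit 2165548156960506192716119740740632284333296666498653122527883643996254182148128, [0, 0, 1, 0, 1, 0, 1, 2]), (nat_lit 6645006373272415228608110747703656537941195713992708567946600083820090337887319, []), (nat_lit 15793507361071564909504396520695249263161040231623699940130732012492154795496544, [0, 1, 1, 1, 0, 1, 0, 1, 0, 0]), (nat_lit 6738975518432950585673569663453109535602405996975042033657404415153757027928119, [2, 0, 1, 1, 3]), (nat_lit 18065469498609945739365868435542208831813329957538869368001778558319741350545440, [0, 0, 0, 1, 0, 1, 0, 0, 1, 1, 1, 2]), (nat_lit 18623750744991533722763997352177672355207653347762112828504092983626174653630496,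 [0, 0, 0, 0, 1, 1, 1, 0, 1, 2, 0]), (nat_lit 21865835328075805187806228563475736706557659005794277446371551899479608079255584, [0, 0, 1, 0, 0, 1, 1, 2, 0, 1]), (nat_lit 21865835138324949039201165182570038878812901221363252093166640955497077625948192, [1, 1, 0, 1, 0, 0, 0]), (nat_lit 18623750934742389871368815605632560297403797539178903268627539699504659928549408, [0, 0, 0, 1, 1, 2, 0, 1, 0, 2]), (nat_lit 18065469308805186152472076903403015256791625519290577660604741877414309946034208, [0, 0, 0, 1, 1, 2, 0, 1]), (nat_lit 3113092709359956030404193982462508087057808365085630428340027281919479440835671, [0, 0, 0, 1, 1, 2, 0, 1, 0, 2]), (nat_lit 19904791182025834279289943555484913049465284905085470713463877385012628412208224, [0, 0, 0, 0, 0, 1, 0, 0, 0, 1]), (nat_lit 2975930070418173128822518983946740894006459435608688378788848734687604393478199, [2, 0, 0, 0, 1, 0, 0, 1, 3]), (nat_lit 18449729570150199569598550837166587556359470021223913182710188263784615482852416,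 [0, 0, 0, 1, 0, 1, 1, 0, 0, 0]), (nat_lit 5827291391802631860146739618850657359794825686121045816811697334549589604209783, [0, 0, 1, 0, 0, 1]), (nat_lit 2165548408921439275771284531650281719053600262542801270763329502113543120586784, [1, 1, 0, 1, 1, 0, 1, 1, 1]), (nat_lit 1702303376973943064593563672186982279888237537152450397253527588872543993432096, [1, 1, 0, 1, 1, 0, 1, 1, 0]), (nat_lit 4329018478987282613721508122318524037946657953357473896305497215147924215923799, [0, 0, 1, 0, 0, 3]), (nat_lit 4321052641423941341989083187720007463567557872959207492562614783397774379488352, [0, 0, 0, 0, 1, 1, 0, 1, 1]), (nat_lit 4423211599620264013477153127806861562432093990889390202315315919452882378786871, [0, 0, 0, 1, 1]), (nat_lit 5833828077171375702804166960231086207810569259139113476869202246606294321563680, [0, 1, 0, 1, 1, 0, 1, 1, 2]), (nat_lit 797614799778616903751399269317832910071227663343257285882802008217743387624535, [0, 1, 1, 1, 0, 1, 1, 2]), (nat_lit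 790059483745859538750956184419988363351046872184128138833882292762900731827296, [1, 0, 1, 0, 1, 1, 0, 1, 1]), (nat_lit 22604169607925857618588817291481688520560805833570046850439112051902692328510583, []), (nat_lit 659771233679518320901087812603560433517713050164565264222052737528233936914487, [0, 1, 1, 1, 2, 0, 3]), (nat_lit 5370736143259407570608041661266230198212690179105395185194814931053619566446624, [1, 1, 0, 1, 0, 0, 1]), (nat_lit 12740954040567882466948764376394561654627399263937359654291541521681472670438519, [2, 0, 0, 0, 1, 0, 1, 3]), (nat_lit 18634273927753361582450623674526720123636831902619226212254779803269698273973367, [2, 0, 1, 2, 0, 1, 1, 1, 0, 3]), (nat_lit 1601093076562244399698169850723722937291283385404416608340950482300515823717536, [0, 0, 0, 0, 0, 0, 1, 0, 0, 2]), (nat_lit 29262335873160319078771379726998296951112981623949160065900030812240536260351095, [2, 0, 1, 1, 0, 1, 1, 2]), (nat_lit 9440761883595495280299650294377577206041723116027250650870238317036647577850999,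 [1, 0, 0, 0, 1, 1, 1, 0, 3, 3]), (nat_lit 1607813271603053513477287849887064412399077003030915955978061739721584170666039, [0, 1, 2, 0, 1, 0, 0, 1, 2]), (nat_lit 14823196704848892828253123153763921962938721140705753463919460323571568161687584, [0, 0, 1, 0, 1, 2]), (nat_lit 15207644279589760866650856603337068806485475054484374484125447431715436608193600, [0, 1, 0, 0, 1, 0, 0, 1, 2, 0]), (nat_lit 18460479237270702216015960837169792910763994426821918796723292736920121886413943, [0, 0, 0, 1, 1, 2, 0, 1, 0, 1, 3]), (nat_lit 18449729385953108889472455576653757804999432282235572212005936132711152122692672, [0, 1, 0, 1, 0, 0, 0, 1, 0]), (nat_lit 15207644081589177492944038250248815977517138522568612954941753069899803573453888, [0, 0, 0, 0, 0, 1, 1, 0, 1, 2, 0]), (nat_lit 1600777098171417028205906454678980042186130069217988629548196496562332955087991, [2, 0, 1, 1, 2, 0, 0]), (nat_lit 18456375577456840965883432023921967595032597973227849548404432969287780893002912,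 [0, 1, 1, 1, 0, 1, 0, 1, 2]), (nat_lit 5825999965436055456975359901383339968419615042893693033524604779703910548966560, [0, 0, 1, 0, 1, 0, 1, 0, 0]), (nat_lit 659901161024831828216686551840559577806990551033388019469690915974584905925696, [0, 0, 1, 0, 1, 1]), (nat_lit 790120375883544814944917349940703667554024104435841407825962797340525104008375, [0, 0, 0, 1, 0, 1, 2]), (nat_lit 2071288910644144586440841468157224248290214541187042292871566894236276292225079, [0, 0, 1, 0]), (nat_lit 3113357813439970456624087718286552593211816650304062096827232514064201141094432, [0, 0, 0, 0, 1, 1, 1, 0, 0]), (nat_lit 18631585734268200630690759266975549716962875374025324485703078430302372115844256, [0, 0, 1, 0, 0, 0, 1, 0, 1, 0]), (nat_lit 2071288742892604918231832782867040722919636455520257921246754365217251332884535, [0, 0, 0, 1, 0, 0, 2]), (nat_lit 1607813217635968753975616958210003287830050334763910802120120081738136302028855, [2, 0, 1, 0, 0, 3, 2]), (nat_lit 6643901124400038342595385252768808316243018553360197447568899830507669926610976,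 [0, 0, 0, 1, 0, 1, 0, 0, 0, 1, 2]), (nat_lit 4422478497177546076934711245343506849033055933882273687454382906966886561514560, [1, 0, 0, 1, 2, 0, 1, 2, 0, 1]), (nat_lit 4322033102455732725511337013726183555646105007815571242822119310434508602412215, [0, 1, 1, 1, 0]), (nat_lit 24572617435890500347294474060789012633409877565668353617765127813410575124335799, [1, 0, 1, 1, 0, 0, 0, 2, 3]), (nat_lit 14014599833783818029735558762210902355962639662293765727247916992580600198139063, [1, 1, 2, 0, 0, 0, 1, 0, 1, 3]), (nat_lit 6738244769917088644391595839303987200429304909193981723733794848172453101995072, [0, 0, 0, 0, 0, 0, 1, 0, 0, 0, 0]), (nat_lit 15797363662044972236265112689442459769076227932515073559676331550912963958344887, [1, 1, 1, 0, 0, 0, 1, 1, 3]), (nat_lit 28683491464897693563359348386024843266285220808943355331909493312118861956451511, [1, 0, 1, 1, 0, 0, 3, 3]), (nat_lit 10483703969266389847536313162128428927945599215522461924593642639216369070050487,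 [1, 1, 1, 2, 0, 1, 1, 0, 2]), (nat_lit 1702234757172188236585782594990335173551648965824215696647263389830892402934871, [0, 0, 1, 0, 1, 1, 0, 1, 0, 2]), (nat_lit 4327982916616415316524328860937665163417313260002822582006914279622648420010016, [1, 0, 0, 1, 1, 1, 0, 1, 0]), (nat_lit 2975666522733857390645882728561342489566150551701046345964659588462340025254976, [0, 1, 1, 1, 0, 1, 1]), (nat_lit 19907219117364535714210658263995742709069617003747438267146300216001837170494647, [1, 1, 1, 2, 0, 1, 1]), (nat_lit 797440475276387897491179454686748351407858110087684659299823696463712868272160, [1, 0, 1, 0, 1, 1, 2]), (nat_lit 14826815265499509067803041252518121090501798138042438940993989516173535256675415, [2, 0, 1, 1, 0, 1, 2, 3]), (nat_lit 18069880589813082026792936926465563762485800303112556046076351600989126365709399, [2, 0, 1, 0, 1, 1]), (nat_lit 14826815258604510935202922017915200423921494235553524722600996247345409073251415, [2, 0, 1, 1, 0, 1, 0, 1, 1]),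 (nat_lit 1702234777924595665092191180482850431217635826359796782309892325102068575667287, [1, 1, 2, 0, 0, 0, 1, 1, 1, 3]), (nat_lit 18069880624315082001600884570743794220745490730944392828394510424297661748380759, [1, 1, 1, 0, 0, 2]), (nat_lit 2165029571382464240508555132692678177145826395585740343428103531083830709617751, [1, 0, 0, 1, 2, 0, 1, 3, 2]), (nat_lit 2165029523023048387776088948452402586498118614664338909636674204709844023411799, [0, 0, 0, 1, 2, 0, 1, 3])]
def BC : ℕ := nat_lit 660713245493534809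
def eC : ℕ := nat_lit 0x13501702c10e01f13d10602403811a12100311203000b12911c03e00512703611412f00d01113310802a13b01902210003511712c00e11f03d00612413801a02110301213010b02901c13e10502713601402f10d11103300812a03b119122000
def sC : ℕ := nat_lit 81724938497634390174097645477561779617792
def sB : ℕ := nat_lit 49005977792015604034249870895746297888768
def sX : ℕ := nat_lit 130681729291275114051961435941644206604288
def BB : ℕ := nat_lit 2954226265985275695133
def eB : ℕ := nat_lit 0x502520622600a02a20922922120102200222e20e02d00d00102120222200e02e20d22d22520502600622a20a02900900c02c20f22f00302320022022820802b00b22720702400400802820b22b00702720422422c20c02f00f223203020000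
def JB : ℕ := nat_lit 0xffffffffffffffff
def RMB : ℕ := nat_lit 0x33cc33cc33cc33cc0f0ff0f00f0ff0f09999666699996666a55aa55aa55aa55a66996699996699665a5aa5a5a5a55a5acccc33333333ccccf00ff00f0ff00ff0aa55aa5555aa55aa96966969696996960000ffffffff00003cc33cc3c33cc33cff00ff00ff00ff00c3c33c3cc3c33c3c5555aaaa5555aaaa699669966996699655aa55aa55aa55aa6969969669699696ffff0000ffff0000c33cc33cc33cc33c00ff00ffff00ff003c3cc3c3c3c33c3caaaa55555555aaaa9669966969966996cc33cc3333cc33ccf0f00f0f0f0ff0f066669999999966665aa55aa5a55aa55a9966996699669966a5a55a5aa5a55a5a3333cccc3333cccc0ff00ff00ff00ff03c3c3c3c3c3c3c3c00ffff0000ffff009669699696696996aaaaaaaaaaaaaaaa696969699696969655aaaa55aa5555aac33c3cc33cc3c33cffffffff00000000a5a5a5a55a5a5a5a99666699669999660ff0f00ff00f0ff033333333ccccccccf0f0f0f0f0f0f0f0cc3333cccc3333cc5aa5a55a5aa5a55a66666666666666665a5a5a5a5a5a5a5a6699996666999966f00f0ff0f00f0ff0cccccccccccccccc0f0f0f0ff0f0f0f033cccc33cc3333cca55a5aa55aa5a55a9999999966666666c3c3c3c33c3c3c3cff0000ff00ffff00699696699669699655555555aaaaaaaa9696969696969696aa5555aaaa5555aa3cc3c33c3cc3c33c0000000000000000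
def v0X : ℕ := nat_lit 51
def cenW : List (List ℕ) := [[], [3], [3, 3], [0, 0, 2, 1, 0, 0, 2, 1], [0, 0, 2, 1, 0, 0, 2, 1, 3], [0, 0, 2, 1, 0, 0, 2, 1, 3, 3]]
def BK : ℕ := nat_lit 156011468128688
def BZ : ℕ := nat_lit 14511235280372144
def BF : ℕ := nat_lit 727321698613969302028720
def eX : ℕ := nat_lit 0x400d01b01400e00701701801c01300300a01601900f00600200b01d01200800101101e01a01500500c01001f009000
def w2B : List ℕ := [0, 2, 1, 0, 0, 1, 0, 0, 1, 1, 0, 0, 0, 1, 0, 1, 0, 3]
def w2C : List ℕ := [2, 0, 1, 1, 0, 1, 1, 1, 0, 0, 0, 0, 1, 0, 1, 1, 0, 3, 3]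

/-- the exponent of the involution in a commutator -/
def phz (v c e : ℕ) : ℕ := force (ap (fs c) e) fun y =>
  Nat.land (Nat.add (Nat.add (Nat.add (bet e y) (Nat.mul (sg (sn c)) (qq e))) (bb v y)) (qq e)) 1

theorem pick12_lt (L i : ℕ) : pick L 12 4095 i < 4096 := Nat.lt_succ_of_le Nat.and_le_right

theorem phz_mod (v c e : ℕ) :
    phz v c e % 2 = (bet e (ap (fs c) e) + (sg (sn c) * qq e + bb v (ap (fs c) e)) + qq e) % 2 := by
  rw [phz, force_eq]
  change ((_ + _ * _ + _ + _) &&& 1) % 2 = _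
  rw [Nat.and_one_is_mod]; omega

variable {G : Type*} [Group G]

namespace HM

variable {X : HM G}

theorem Rq.conj_s {y : G} {v c e : ℕ} (h : X.Rq y v c) (he : e < 4096) :
    X.s e * y * (X.s e)⁻¹ = X.s (e ^^^ ap (fs c) e) * X.z ^ phz v c e * y := by
  rw [X.s_inv he, show X.s e * y * (X.s e * X.z ^ qq e) = X.s e * (y * X.s e * y⁻¹) * (y * X.z ^ qq e * y⁻¹) * y by
    group, h.act he, conj_eq_iff_commute.2 (h.zc.pow_left _).symm, ← mul_assoc, X.s_mul _ he _ (ap_lt _ _),
    mul_assoc (X.s _), mul_assoc (X.s _), ← pow_add, ← pow_add, X.zmod (phz_mod v c e)]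

theorem Rq.conj_s' {y : G} {v c e : ℕ} [Finite G] (h : X.Rq y v c) (he : e < 4096) :
    X.Rq (X.s e * y * (X.s e)⁻¹) (e ^^^ ap (fs c) e ^^^ v) c := by
  have := ((X.rq_s (xor_lt he (ap_lt (fs c) e))).mulz (phz v c e)).mul h
  rwa [← h.conj_s he, fs_cone, ap_mone h.lt, h.ex.cone_mul] at this

theorem Rq.commute_s {y : G} {v c w : ℕ} (h : X.Rq y v c) (hw : w < 4096) (h1 : ap (fs c) w = w)
    (h2 : (sg (sn c) * qq w + bb v w) % 2 = 0) (k : ℕ) : Commute y (X.s w * X.z ^ k) := by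
  refine Commute.mul_right (conj_eq_iff_commute.1 ?_) (h.zc.symm.pow_right k)
  rw [h.act hw, h1, X.zmod (b := 0) h2, pow_zero, mul_one]

variable [Finite G]

theorem Rq.conj {y n : G} {v c a d : ℕ} (h : X.Rq y v c) (hn : X.RC n a) (hd : X.Ex d) (e : cmul a c = cmul d a) :
    X.Rq (n * y * n⁻¹) (ap (fs a) v) d := by
  obtain ⟨hv, m, h, rfl⟩ := h
  refine ⟨ap_lt _ _, _, (hn.conj h hd e).mulz (sg (sn a) * qq v), ?_⟩
  rw [cjm, hn.act hv, mul_assoc, ((hn.conj h hd e).zc.pow_left _).eq]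

theorem Rq.sq_fix {y : G} {v c : ℕ} (h : X.Rq y v c) (e : y * y = 1) : ap (fs c) v = v ∧ cmul c c = cone :=
  have := (h.mul h).unique (e ▸ X.rq_one)
  ⟨(Nat.eq_of_xor_eq_zero this.1).symm, this.2⟩

variable (X)

theorem conj_root {v : ℕ} (hv : v < 4096) : ∃ h, Commute X.z h ∧ ∃ k : ℕ,
    h * X.s v * h⁻¹ = X.s (getL [0, 1, 7, 11] 0 (olab v)) * X.z ^ k := by
  refine orb_ind (fun v r => ∃ h, Commute X.z h ∧ ∃ k : ℕ, h * X.s v * h⁻¹ = X.s r * X.z ^ k)
    (fun v => ⟨1, Commute.one_right _, 0, by simp⟩) ?_ v hv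
  rintro m hm v hv r ⟨h, h1, k, e⟩
  obtain ⟨c, hc, rfl⟩ := (by decide +kernel : ∀ m ∈ [mA, mT, mU, mO], ∃ c ∈ cgens, fs c = m) m hm
  obtain ⟨n, hn⟩ := X.ex_gens c hc
  refine ⟨h * n, h1.mul_right hn.zc, k + sg (sn c) * qq v, ?_⟩
  rw [show h * n * X.s v * (h * n)⁻¹ = h * (n * X.s v * n⁻¹) * h⁻¹ by group, hn.act hv, cjm, e,
    conj_eq_iff_commute.2 (h1.pow_left _).symm, mul_assoc, ← pow_add]

theorem conj_of_olab {v w : ℕ} (hv : v < 4096) (hw : w < 4096) (e : olab v = olab w) (i : ℕ) :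
    ∃ h, Commute X.z h ∧ ∃ k : ℕ, h * (X.s v * X.z ^ i) * h⁻¹ = X.s w * X.z ^ k := by
  obtain ⟨a, a1, k, a2⟩ := X.conj_root hv
  obtain ⟨b, b1, l, b2⟩ := X.conj_root hw
  refine ⟨b⁻¹ * a, b1.inv_right.mul_right a1, l + k + i, ?_⟩
  have c : ∀ j, b⁻¹ * X.z ^ j * b⁻¹⁻¹ = X.z ^ j := fun j => conj_eq_iff_commute.2 (b1.inv_right.pow_left _).symm
  rw [← e, ← mul_inv_eq_iff_eq_mul, X.zk_inv] at b2
  rw [show b⁻¹ * a * (X.s v * X.z ^ i) * (b⁻¹ * a)⁻¹ = b⁻¹ * (a * X.s v * a⁻¹ * (a * X.z ^ i * a⁻¹)) * b⁻¹⁻¹ by group,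
    a2, conj_eq_iff_commute.2 (a1.pow_left _).symm, ← b2, mul_assoc _ (X.z ^ l), ← pow_add, mul_assoc _ (X.z ^ _),
    ← pow_add, cjm, c]
  congr 1; group

theorem EE_conj_V {y : G} (h : y ∈ X.EE) (e : y * y = 1) : ∃ h, Commute X.z h ∧ h * y * h⁻¹ ∈ X.V := by
  obtain ⟨v, hv, i, rfl⟩ := h
  have h1 : qq v = 0 := by
    rw [mul_assoc, X.sz', X.zz, mul_one, X.s_sq hv] at e
    have := X.modz (b := 0) (e.trans (pow_zero _).symm)
    have := qq_lt v
    omega
  have c := allV (by decide +kernel : allP (fun v => bimp (Nat.beq (qq v) 0)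
    (anyL (fun x => Nat.beq (olab v) (olab (ap mW x))) [0, 1, 4])) 12 0 = true) hv
  simp only [bimp_eq_true, beq_iff, anyL_eq_true] at c
  obtain ⟨x, -, c⟩ := c h1
  obtain ⟨h, a, k, b⟩ := X.conj_of_olab hv (ap_lt _ _) c i
  exact ⟨h, a, b ▸ mul_mem (X.s_W x) (pow_mem X.z_mem_V _)⟩

theorem ex_cX : X.Ex cX := X.ex_ygens cX (by simp [ygens])

/-- normal forms of the involutions commuting with the involution -/
theorem inv_nf {y : G} (hy : Commute X.z y) (e : y * y = 1) : ∃ h, Commute X.z h ∧ (h * y * h⁻¹ ∈ X.V ∨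
    X.Rq (h * y * h⁻¹) v0X cX ∨ X.RC (h * y * h⁻¹) c2B ∨ X.RC (h * y * h⁻¹) c2C) := by
  have tr : ∀ {a : G} (P : G → Prop), Commute X.z a → (∃ h, Commute X.z h ∧ P (h * (a * y * a⁻¹) * h⁻¹)) →
      ∃ h, Commute X.z h ∧ P (h * y * h⁻¹) := by
    rintro a P ha ⟨h, h1, h2⟩
    exact ⟨h * a, h1.mul_right ha, by rwa [show h * a * y * (h * a)⁻¹ = h * (a * y * a⁻¹) * h⁻¹ by group]⟩
  obtain ⟨a, ha, h⟩ := sylow_Jsub Nat.prime_two X.T_sylH (Q := zpowers y) (pGrp_of_forall_pow Nat.prime_two (k := 1)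
    fun x hx => by rcases (mem_zpowers_iff_of_sq e).1 hx with rfl | rfl <;> simp [pow_two, e])
    (zpowers_le.2 (mem_cent_iff.2 hy.symm))
  refine tr (fun y => y ∈ X.V ∨ X.Rq y v0X cX ∨ X.RC y c2B ∨ X.RC y c2C) (mem_cent_iff.1 ha).symm ?_
  obtain ⟨v, c, h1, h2⟩ := X.rq_T (h (conj_mem_conjg a (mem_zpowers y)))
  have e1 : a * y * a⁻¹ * (a * y * a⁻¹) = 1 := by rw [← cjm, e]; simp
  clear tr h hy e
  generalize a * y * a⁻¹ = y at *
  have tr : ∀ {a : G} (P : G → Prop), Commute X.z a → (∃ h, Commute X.z h ∧ P (h * (a * y * a⁻¹) * h⁻¹)) →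
      ∃ h, Commute X.z h ∧ P (h * y * h⁻¹) := by
    rintro a P ha ⟨h, h1, h2⟩
    exact ⟨h * a, h1.mul_right ha, by rwa [show h * a * y * (h * a)⁻¹ = h * (a * y * a⁻¹) * h⁻¹ by group]⟩
  have k := InT.all (by decide +kernel : TL.all (fun c => bimp (Nat.beq (cmul c c) cone) (bor (Nat.beq c cone)
    (anyL (fun r => band (Nat.beq r.1 c) (force (evalC cgens r.2) fun a => force (cmul a c) fun b =>
      anyL (fun d => Nat.beq b (cmul d a)) [cX, c2B, c2C])) invW))) = true) h2
  simp only [bimp_eq_true, beq_iff, bor_eq_true, anyL_eq_true, band_eq_true, force_eq] at k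
  rcases k (h1.sq_fix e1).2 with rfl | ⟨r, -, -, d, hd, k⟩
  · obtain ⟨h, a, b⟩ := X.EE_conj_V h1.mem_EE e1
    exact ⟨h, a, Or.inl b⟩
  obtain ⟨n, hn⟩ := ex_evalC X.ex_gens r.2
  have hd' : X.Ex d := by
    simp only [List.mem_cons, List.not_mem_nil, or_false] at hd
    rcases hd with rfl | rfl | rfl
    exacts [X.ex_cX, X.ex_of_word w2B (by decide +kernel), X.ex_of_word w2C (by decide +kernel)]
  refine tr (fun y => y ∈ X.V ∨ X.Rq y v0X cX ∨ X.RC y c2B ∨ X.RC y c2C) hn.zc ?_
  have h3 := h1.conj hn hd' k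
  have e2 : n * y * n⁻¹ * (n * y * n⁻¹) = 1 := by rw [← cjm, e1]; simp
  clear tr h1 k e1
  generalize n * y * n⁻¹ = y at *
  generalize ap _ v = v at *
  have f := (h3.sq_fix e2).1
  have out : ∀ S, allP (fun v => bimp (Nat.beq (ap (fs d) v) v) (force (ap S v) fun e =>
      Nat.beq (Nat.xor (Nat.xor e (ap (fs d) e)) v) 0)) 12 0 = true → ∃ h, Commute X.z h ∧ X.RC (h * y * h⁻¹) d := by
    intro S hS
    have c := allV hS h3.lt
    simp only [bimp_eq_true, beq_iff, force_eq] at c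
    have := h3.conj_s' (ap_lt S v)
    rw [show ap S v ^^^ ap (fs d) (ap S v) ^^^ v = 0 from c f] at this
    exact ⟨_, X.zs _, this.rc⟩
  simp only [List.mem_cons, List.not_mem_nil, or_false] at hd
  rcases hd with rfl | rfl | rfl
  · have hq : qq v = 0 := by
      obtain ⟨hv, m, hm, rfl⟩ := h3
      have a := hm.act hv
      rw [f, show sg (sn cX) = 0 by decide +kernel, zero_mul, pow_zero, mul_one, conj_eq_iff_commute] at a
      rw [mul_assoc, ← mul_assoc m, a.eq, mul_assoc, X.sq_uc (k := 1) (by norm_num)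
        ((by decide +kernel : cX = uc 1) ▸ hm), mul_one, X.s_sq hv] at e2
      have := X.modz (b := 0) (e2.trans (pow_zero _).symm)
      have := qq_lt v
      omega
    have c := allV (by decide +kernel : allP (fun v => bimp (Nat.beq (ap (fs cX) v) v) (bimp (Nat.beq (qq v) 0)
      (bor (tb FM0 v) (anyL (fun w => force (evalC cgens w) fun a => band (Nat.beq (cmul a cX) (cmul cX a))
        (force (Nat.xor (ap (fs a) v) v0X) fun u => force (ap sX u) fun e =>
          Nat.beq (Nat.xor (Nat.xor e (ap (fs cX) e)) (ap (fs a) v)) v0X)) cenW)))) 12 0 = true) h3.lt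
    simp only [bimp_eq_true, beq_iff, force_eq, bor_eq_true, tb_eq_true, anyL_eq_true, band_eq_true] at c
    rcases c f hq with c | ⟨w, -, c1, c2⟩
    · obtain ⟨x, -, rfl⟩ := FM0_spec h3.lt c
      exact ⟨1, Commute.one_right _, Or.inl (by
        simpa using mem_V_of (k := 1) (by norm_num) ((by decide +kernel : cX = uc 1) ▸ h3))⟩
    · obtain ⟨n, hn⟩ := ex_evalC X.ex_gens w
      have := (h3.conj hn X.ex_cX c1).conj_s' (ap_lt sX (Nat.xor (ap (fs (evalC cgens w)) v) v0X))
      rw [show _ ^^^ _ ^^^ _ = v0X from c2] at this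
      generalize ap sX _ = e at this
      refine ⟨X.s e * n, (X.zs _).mul_right hn.zc, Or.inr (Or.inl ?_)⟩
      rwa [show X.s e * n * y * (X.s e * n)⁻¹ = X.s e * (n * y * n⁻¹) * (X.s e)⁻¹ by group]
  · obtain ⟨h, a, b⟩ := out sB (by decide +kernel)
    exact ⟨h, a, Or.inr (Or.inr (Or.inl b))⟩
  · obtain ⟨h, a, b⟩ := out sC (by decide +kernel)
    exact ⟨h, a, Or.inr (Or.inr (Or.inr b))⟩

/-- the subgroup of the extraspecial group over the span of the first `k` columns -/
def SB (B k : ℕ) : Subgroup G where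
  carrier := {g | ∃ x < 2 ^ k, ∃ j : ℕ, g = X.s (ap B x) * X.z ^ j}
  one_mem' := ⟨0, by positivity, 0, by simp [X.s_zero]⟩
  mul_mem' := by
    rintro _ _ ⟨v, hv, i, rfl⟩ ⟨w, hw, j, rfl⟩
    refine ⟨_, Nat.xor_lt_two_pow hv hw, bet (ap B v) (ap B w) + (i + j), ?_⟩
    rw [mul_assoc, X.sz', ← mul_assoc, X.s_mul _ (ap_lt _ _) _ (ap_lt _ _), mul_assoc, ← pow_add, ← pow_add, ap_xor]
  inv_mem' := by
    rintro _ ⟨v, hv, i, rfl⟩
    exact ⟨v, hv, i + qq (ap B v), by rw [mul_inv_rev, X.zk_inv, X.s_inv (ap_lt _ _), X.sz', ← pow_add]⟩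

theorem mem_SB {B k : ℕ} {g : G} : g ∈ X.SB B k ↔ ∃ x < 2 ^ k, ∃ j : ℕ, g = X.s (ap B x) * X.z ^ j := Iff.rfl
theorem SB_le (B k : ℕ) : X.SB B k ≤ X.EE := fun _ ⟨_, _, j, e⟩ => ⟨_, ap_lt _ _, j, e⟩
theorem z_mem_SB (B k : ℕ) : X.z ∈ X.SB B k := ⟨0, by positivity, 1, by simp [X.s_zero]⟩

theorem card_SB {B k : ℕ} (h : allP (fun x => bimp (Nat.beq (ap B x) 0) (Nat.beq x 0)) k 0 = true) :
    Nat.card (X.SB B k) = 2 ^ k * 2 := by
  have p : 0 < 2 ^ k := by positivity
  refine card_of_param (fun i => X.s (ap B (i % 2 ^ k)) * X.z ^ (i / 2 ^ k)) (fun i hi j hj e => ?_) fun g => ?_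
  · obtain ⟨a, b⟩ := X.s_eq (ap_lt _ _) (ap_lt _ _) e
    have c := allP_zero h _ (Nat.xor_lt_two_pow (Nat.mod_lt i p) (Nat.mod_lt j p))
    simp only [bimp_eq_true, beq_iff] at c
    have c := Nat.eq_of_xor_eq_zero (c (by rw [ap_xor, a, Nat.xor_self]))
    have := Nat.div_lt_of_lt_mul hi
    have := Nat.div_lt_of_lt_mul hj
    have d : i / 2 ^ k = j / 2 ^ k := by
      generalize i / 2 ^ k = a at *
      generalize j / 2 ^ k = b at *
      omega
    rw [← Nat.div_add_mod i (2 ^ k), ← Nat.div_add_mod j (2 ^ k), c, d]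
  · refine ⟨?_, fun ⟨i, _, e⟩ => ⟨_, Nat.mod_lt _ p, _, e.symm⟩⟩
    rintro ⟨v, hv, j, rfl⟩
    have := Nat.mod_lt j (show 0 < 2 by norm_num)
    refine ⟨v + 2 ^ k * (j % 2), by nlinarith, ?_⟩
    rw [Nat.add_mul_mod_self_left, Nat.mod_eq_of_lt hv, Nat.add_mul_div_left _ _ p, Nat.div_eq_of_lt hv, zero_add,
      X.zmod (Nat.mod_mod _ _)]

theorem SB_comm {B k C l : ℕ} (h : allP (fun x => force (ap B x) fun v =>
    allP (fun y => Nat.beq (bb v (ap C y)) 0) l 0) k 0 = true) : ∀ a ∈ X.SB B k, ∀ b ∈ X.SB C l, Commute a b := by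
  rintro _ ⟨x, hx, i, rfl⟩ _ ⟨y, hy, j, rfl⟩
  have := allP_zero h x hx
  rw [force_eq] at this
  have c := (X.s_commute_iff (ap_lt _ _) (ap_lt _ _)).2 (beq_iff.1 (allP_zero this y hy))
  exact (c.mul_right ((X.zs _).symm.pow_right _)).mul_left
    (((X.zs _).mul_right ((Commute.refl _).pow_right _)).pow_left _)

theorem SB_sq {B k : ℕ} (h : allP (fun x => Nat.beq (qq (ap B x)) 0) k 0 = true) : ∀ a ∈ X.SB B k, a * a = 1 := by
  rintro _ ⟨x, hx, i, rfl⟩
  rw [mul_assoc, X.sz', X.zz, mul_one, X.s_sq (ap_lt _ _), beq_iff.1 (allP_zero h x hx), pow_zero]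

variable {X} in
theorem Rq.cent_SB {y : G} {v c B k : ℕ} (hy : X.Rq y v c) (h : allP (fun x => force (ap B x) fun w =>
    band (Nat.beq (ap (fs c) w) w) (Nat.beq ((sg (sn c) * qq w + bb v w) % 2) 0)) k 0 = true) :
    X.SB B k ≤ 𝒞[y] := by
  rintro _ ⟨x, hx, i, rfl⟩
  have := allP_zero h x hx
  simp only [force_eq, band_eq_true, beq_iff] at this
  exact mem_cent_iff.2 (hy.commute_s (ap_lt _ _) this.1 this.2 i).symm

theorem card_le_SF' {A : Subgroup G} (hz : X.z ∉ A) : Nat.card ↥(A ⊓ X.EE) ≤ (X.SF A).card := by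
  classical
  rw [← SetLike.coe_sort_coe, Nat.card_coe_set_eq]
  refine le_trans (Set.ncard_le_ncard (t := (X.SF A).image fun v => if X.s v ∈ A then X.s v else X.s v * X.z) ?_) ?_
  · rintro _ ⟨hg, v, hv, k, rfl⟩
    refine Finset.mem_coe.2 (Finset.mem_image.2 ⟨v, X.mem_SF.2 ⟨hv, k, hg⟩, ?_⟩)
    rcases X.z_cases k with h | h <;> rw [h] at hg ⊢
    · rw [mul_one] at hg ⊢; exact if_pos hg
    · exact if_neg fun a => hz ((A.mul_mem_cancel_left a).1 hg)
  · rw [Set.ncard_coe_finset]; exact Finset.card_image_le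

theorem key5 {A B : Subgroup G} (hB : ∀ b ∈ B, b * b = 1) (hBA : B ≤ A)
    (hc : ∀ b ∈ B, ∀ a ∈ A, Commute b a) (h : 32 ≤ (X.SR B).card) : (X.SR A).card ≤ 32 ∧ (X.SF A).card ≤ 2 := by
  have h1 := (ci_SR (X := X) (fun a ha b hb => hc a ha b (hBA hb)) hB).five h
  have h2 : ∀ d ∈ G5, ∃ b ∈ B, ∃ v, X.Rq b v d := fun d hd =>
    (X.mem_SR.1 (h1 ▸ List.mem_toFinset.2 ((by decide +kernel : ∀ d ∈ G5, d ∈ cone :: B5) d hd))).2
  constructor
  · refine le_trans (Finset.card_le_card fun c hc' => List.mem_toFinset.2 ?_) (List.toFinset_card_le (cone :: B5))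
    obtain ⟨a, g, hg, v, b⟩ := X.mem_SR.1 hc'
    have k := InT.all (by decide +kernel : TL.all (fun c => bimp (allL (fun d => cmS d c) G5)
      (memL c (cone :: B5))) = true) a
    simp only [bimp_eq_true, allL_eq_true, memL_eq_true] at k
    refine k fun d hd => ?_
    obtain ⟨x, hx, w, e⟩ := h2 d hd
    exact e.cmS b (hc x hx g hg)
  · refine le_trans (Finset.card_le_card fun v hv => List.mem_toFinset.2 ?_) (List.toFinset_card_le [0, 2835])
    obtain ⟨a, k, b⟩ := X.mem_SF.1 hv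
    have c := allV (by decide +kernel : allP (fun v => bimp (allL (fun d => Nat.beq (ap (fs d) v) v) G5)
      (memL v [0, 2835])) 12 0 = true) a
    simp only [bimp_eq_true, allL_eq_true, memL_eq_true, beq_iff] at c
    refine c fun d hd => ?_
    obtain ⟨x, hx, w, e⟩ := h2 d hd
    exact (e.fix a (hc x hx _ b)).1

theorem frame {y g : G} (e : g * X.z * g⁻¹ = y) {F : Subgroup G} (hF : F ≤ 𝒞[y]) (hp : F ≤ X.EE) :
    ∃ k, k * y * k⁻¹ = X.z ∧ F :^ k ≤ X.T := by
  have h1 : F :^ g⁻¹ ≤ 𝒞[X.z] := by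
    rw [conjg_le_iff, inv_inv, conjg_cent1, e]; exact hF
  obtain ⟨h, hh, a⟩ := sylow_Jsub Nat.prime_two X.T_sylH (pGrp_of_forall_pow Nat.prime_two (k := 2) fun x hx => by
    obtain ⟨b, hb, rfl⟩ := mem_conjg'.1 hx
    rw [conj_pow, show 2 ^ 2 = 4 from rfl, X.es.pow_four (hp hb)]; simp) h1
  refine ⟨h * g⁻¹, ?_, conjg_mul F _ _ ▸ a⟩
  rw [← e, show h * g⁻¹ * (g * X.z * g⁻¹) * (h * g⁻¹)⁻¹ = h * X.z * h⁻¹ by group,
    conj_eq_iff_commute.2 (mem_cent_iff.1 hh)]

omit X [Finite G] in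
theorem conjg_comm' {A B : Subgroup G} (h : ∀ a ∈ A, ∀ b ∈ B, Commute a b) (k : G) :
    ∀ a ∈ A :^ k, ∀ b ∈ B :^ k, Commute a b := fun a ha b hb => by
  obtain ⟨a, ha', rfl⟩ := mem_conjg'.1 ha
  obtain ⟨b, hb', rfl⟩ := mem_conjg'.1 hb
  exact commute_conj_iff.2 (h a ha' b hb')

omit X [Finite G] in
theorem conjg_sq {A : Subgroup G} (h : ∀ a ∈ A, a * a = 1) (k : G) : ∀ a ∈ A :^ k, a * a = 1 := fun a ha => by
  obtain ⟨a, ha', rfl⟩ := mem_conjg'.1 ha
  rw [← cjm, h a ha']; simp

/-- the involution is conjugate to another member of `V` -/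
theorem fused [IsSimpleGroup G] (hG : ¬ IsMulCommutative G) : ∃ g, g * X.z * g⁻¹ ∈ X.V ∧ g * X.z * g⁻¹ ≠ X.z := by
  by_contra H
  push Not at H
  have sq : ∀ g : G, g * X.z * g⁻¹ * (g * X.z * g⁻¹) = 1 := fun g => by rw [← cjm, X.z_sq]; simp
  have bk : ∀ {g h : G}, Commute X.z h → h * (g * X.z * g⁻¹) * h⁻¹ ∈ X.V → g * X.z * g⁻¹ = X.z := fun {g h} a b => by
    have := H (h * g) (by rwa [show h * g * X.z * (h * g)⁻¹ = h * (g * X.z * g⁻¹) * h⁻¹ by group])
    rw [show g * X.z * g⁻¹ = h⁻¹ * (h * g * X.z * (h * g)⁻¹) * h⁻¹⁻¹ by group, this,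
      conj_eq_iff_commute.2 a.inv_right.symm]
  have HE : ∀ g, g * X.z * g⁻¹ ∈ X.EE → g * X.z * g⁻¹ = X.z := fun g hg => by
    obtain ⟨h, a, b⟩ := X.EE_conj_V hg (sq g)
    exact bk a b
  obtain ⟨g0, c0, n0⟩ := CA.Blk.exists_fused_of_simple hG X.orderOf_z
  obtain ⟨h, hh, nf⟩ := X.inv_nf c0 (sq g0)
  have nf := nf.resolve_left fun a => n0 (bk hh a)
  obtain ⟨g, e⟩ : ∃ g, g * X.z * g⁻¹ = h * (g0 * X.z * g0⁻¹) * h⁻¹ := ⟨h * g0, by group⟩
  have n1 : h * (g0 * X.z * g0⁻¹) * h⁻¹ ≠ X.z := fun a => n0 (bk hh (by rw [a]; exact X.z_mem_V))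
  generalize h * (g0 * X.z * g0⁻¹) * h⁻¹ = y at *
  have P : ∀ {k : G}, k * y * k⁻¹ = X.z → ∀ {v c : ℕ}, X.Rq y v c → ∀ e < 4096, ∀ j, j % 2 = phz v c e % 2 →
      k * (X.s (e ^^^ ap (fs c) e) * X.z ^ j) * k⁻¹ ∈ X.EE → X.s (e ^^^ ap (fs c) e) * X.z ^ j = 1 := by
    intro k hk v c hy f hf j hj a
    have b : k * X.s f * g * X.z * (k * X.s f * g)⁻¹ = k * (X.s (f ^^^ ap (fs c) f) * X.z ^ j) * k⁻¹ * X.z := by
      rw [X.zmod hj]
      nth_rewrite 3 [← hk]
      rw [← cjm, ← hy.conj_s hf, ← e]; group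
    have := HE _ (b ▸ mul_mem a X.z_mem)
    rwa [b, mul_eq_right, conj_eq_one_iff] at this
  have Z : ∀ {k : G}, k * y * k⁻¹ = X.z → k * X.z * k⁻¹ ∉ X.EE := fun {k} hk a =>
    n1 (by simpa using hk.trans (HE k a).symm)
  have Y : ∀ {k : G} {F : Subgroup G}, k * y * k⁻¹ = X.z → F ≤ X.EE → X.z ∉ F :^ k := fun {k F} hk hF a => by
    rw [← hk, conj_mem_conjg_iff] at a
    exact n1 (e ▸ HE g (e ▸ hF a))
  rcases nf with hy | hy | hy
  · obtain ⟨k, hk, hT⟩ := X.frame e (hy.cent_SB (B := BF) (k := 7) (by decide +kernel)) (X.SB_le _ _)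
    have le : X.SB BZ 5 ≤ X.SB BF 7 := by
      rintro _ ⟨x, hx, j, rfl⟩
      exact ⟨x, by omega, j, by rw [(by decide +kernel : ∀ x < 2 ^ 5, ap BZ x = ap BF x) x hx]⟩
    have h1 := X.card_le_SR hT
    have h2 := X.card_le_SR ((conjg_mono k le).trans hT)
    have h3 : Nat.card ↥(X.SB BZ 5 :^ k ⊓ X.EE) ≤ 2 := by
      have one : ∀ x < 16, ∀ j, k * (X.s (ap BZ x) * X.z ^ j) * k⁻¹ ∈ X.EE → X.s (ap BZ x) * X.z ^ j = 1 := by
        intro x hx j a
        obtain ⟨b1, b2⟩ := (by decide +kernel : ∀ x < 16, ∀ j < 2, ap BZ x = pick eX 12 4095 (x + 16 * j) ^^^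
          ap (fs cX) (pick eX 12 4095 (x + 16 * j)) ∧ j % 2 = phz v0X cX (pick eX 12 4095 (x + 16 * j)) % 2)
          x hx (j % 2) (Nat.mod_lt _ (by norm_num))
        rw [b1] at a ⊢
        exact P hk hy _ (pick12_lt _ _) j (by omega) a
      by_contra c
      rw [← SetLike.coe_sort_coe, Nat.card_coe_set_eq, not_le, Set.two_lt_ncard (Set.toFinite _)] at c
      obtain ⟨a, ha, b, hb, c, hc, ab, ac, bc⟩ := c
      have two : ∀ a ∈ X.SB BZ 5 :^ k ⊓ X.EE, ∀ b ∈ X.SB BZ 5 :^ k ⊓ X.EE, a ≠ 1 → b ≠ 1 → a = b := by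
        intro a ha b hb a1 b1
        have hab := mul_mem ha.2 hb.2
        have sa := conjg_sq (X.SB_sq (B := BZ) (k := 5) (by decide +kernel)) k b hb.1
        obtain ⟨_, ⟨x, hx, i, rfl⟩, rfl⟩ := mem_conjg'.1 ha.1
        obtain ⟨_, ⟨x', hx', i', rfl⟩, rfl⟩ := mem_conjg'.1 hb.1
        have c1 : ¬ x < 16 := fun c => a1 (by rw [one x c i ha.2]; simp)
        have c2 : ¬ x' < 16 := fun c => b1 (by rw [one x' c i' hb.2]; simp)
        have e1 : X.s (ap BZ x) * X.z ^ i * (X.s (ap BZ x') * X.z ^ i') =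
            X.s (ap BZ (x ^^^ x')) * X.z ^ (bet (ap BZ x) (ap BZ x') + (i + i')) := by
          rw [mul_assoc, X.sz', ← mul_assoc, X.s_mul _ (ap_lt _ _) _ (ap_lt _ _), mul_assoc, ← pow_add, ← pow_add,
            ap_xor]
        rw [← cjm, e1] at hab
        have := one _ ((by decide +kernel : ∀ x < 2 ^ 5, ∀ x' < 2 ^ 5, ¬ x < 16 → ¬ x' < 16 → x ^^^ x' < 16)
          x hx x' hx' c1 c2) _ hab
        rw [← mul_left_inj, sa, ← cjm, e1, this]; simp
      by_cases a1 : a = 1
      · exact bc (two b hb c hc (a1 ▸ Ne.symm ab) (a1 ▸ Ne.symm ac))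
      · by_cases b1 : b = 1
        · exact ac (two a ha c hc a1 (b1 ▸ Ne.symm bc))
        · exact ab (two a ha b hb a1 b1)
    rw [card_conjg, X.card_SB (by decide +kernel)] at h1 h2
    obtain ⟨a, b⟩ := X.key5 (conjg_sq (X.SB_sq (by decide +kernel)) k) (conjg_mono k le)
      (conjg_comm' (X.SB_comm (by decide +kernel)) k) (by nlinarith)
    have := X.card_le_SF (X.SB BF 7 :^ k)
    nlinarith
  · obtain ⟨k, hk, hT⟩ := X.frame e (hy.rq.cent_SB (B := BB) (k := 6) (by decide +kernel)) (X.SB_le _ _)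
    have h1 := X.card_le_SR hT
    have h2 := X.card_le_SF' (Y hk (X.SB_le BB 6))
    rw [card_conjg, X.card_SB (by decide +kernel)] at h1
    by_cases h3 : 32 ≤ (X.SR (X.SB BB 6 :^ k)).card
    · obtain ⟨a, b⟩ := X.key5 (conjg_sq (X.SB_sq (by decide +kernel)) k) le_rfl
        (conjg_comm' (X.SB_comm (by decide +kernel)) k) h3
      nlinarith
    classical
    set S := (Finset.range 64).filter fun x => k * (X.s (ap BB x) * X.z ^ bit JB x) * k⁻¹ ∈ X.EE with hS
    have bad : ∀ x < 64, ∀ j, k * (X.s (ap BB x) * X.z ^ j) * k⁻¹ ∈ X.EE → x ≠ 0 → j % 2 = bit JB x % 2 := by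
      intro x hx j a x0
      obtain ⟨b1, b2, b3⟩ := (by decide +kernel : ∀ x < 64, ap BB x = pick eB 12 4095 x ^^^
        ap (fs c2B) (pick eB 12 4095 x) ∧ (bit JB x + 1) % 2 = phz 0 c2B (pick eB 12 4095 x) % 2 ∧
        (ap BB x = 0 → x = 0)) x hx
      by_contra c
      have := P hk hy.rq _ (pick12_lt _ _) j (by omega) (b1 ▸ a)
      rw [← b1, ← X.s_zero, ← mul_one (X.s 0), ← pow_zero X.z] at this
      exact x0 (b3 (X.s_eq (ap_lt _ _) (by norm_num) this).1)
    have h4 : Nat.card ↥(X.SB BB 6 :^ k ⊓ X.EE) ≤ (S.erase 0).card + 1 := by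
      rw [← SetLike.coe_sort_coe, Nat.card_coe_set_eq]
      refine le_trans (Set.ncard_le_ncard (t := insert 1 ((S.erase 0).image
        fun x => k * (X.s (ap BB x) * X.z ^ bit JB x) * k⁻¹ : Finset G)) ?_) ?_
      · rintro _ ⟨a, b⟩
        obtain ⟨_, ⟨x, hx, j, rfl⟩, rfl⟩ := mem_conjg'.1 a
        by_cases x0 : x = 0
        · subst x0
          rw [ap_zero, X.s_zero, one_mul] at b ⊢
          rcases X.z_cases j with c | c <;> rw [c] at b ⊢
          · simp
          · exact absurd b (Z hk)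
        · have e1 := X.zmod (bad x hx j b x0)
          rw [e1] at b ⊢
          exact Or.inr (Finset.mem_coe.2 (Finset.mem_image.2 ⟨x, Finset.mem_erase.2 ⟨x0, Finset.mem_filter.2
            ⟨Finset.mem_range.2 hx, b⟩⟩, rfl⟩))
      · refine (Set.ncard_insert_le _ _).trans ?_
        rw [Set.ncard_coe_finset]
        exact Nat.succ_le_succ Finset.card_image_le
    have rel : ∀ x ∈ S.erase 0, ∀ y ∈ S.erase 0, x ≠ y → x ^^^ y ∈ S.erase 0 ∧ tb RMB (64 * x + y) = true := by
      intro x hx y hy xy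
      obtain ⟨x0, hx⟩ := Finset.mem_erase.1 hx
      obtain ⟨y0, hy⟩ := Finset.mem_erase.1 hy
      obtain ⟨hx, a⟩ := Finset.mem_filter.1 hx
      obtain ⟨hy, b⟩ := Finset.mem_filter.1 hy
      rw [Finset.mem_range] at hx hy
      have c := mul_mem a b
      have l : x ^^^ y < 64 := Nat.xor_lt_two_pow (n := 6) hx hy
      have n : x ^^^ y ≠ 0 := fun h => xy (Nat.eq_of_xor_eq_zero h)
      rw [← cjm, mul_assoc (X.s _), X.sz', ← mul_assoc (X.s _), X.s_mul _ (ap_lt _ _) _ (ap_lt _ _),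
        mul_assoc (X.s _), ← pow_add, ← pow_add, ← ap_xor] at c
      have d := bad _ l _ c n
      refine ⟨Finset.mem_erase.2 ⟨n, Finset.mem_filter.2 ⟨Finset.mem_range.2 l, X.zmod d ▸ c⟩⟩, ?_⟩
      exact (by decide +kernel : ∀ x < 64, ∀ y < 64, (bet (ap BB x) (ap BB y) + (bit JB x + bit JB y)) % 2 =
        bit JB (x ^^^ y) % 2 → tb RMB (64 * x + y) = true) x hx y hy d
    obtain ⟨x, hx, w, hw, xw⟩ := Finset.one_lt_card.1 (show 1 < (S.erase 0).card by nlinarith)
    obtain ⟨u, hu, nu⟩ := Finset.exists_mem_notMem_of_card_lt_card (s := {x, w, x ^^^ w}) (t := S.erase 0)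
      (lt_of_le_of_lt Finset.card_le_three (by nlinarith))
    simp only [Finset.mem_insert, Finset.mem_singleton, not_or] at nu
    have lt : ∀ x ∈ S.erase 0, x < 64 ∧ x ≠ 0 := fun x hx =>
      ⟨Finset.mem_range.1 (Finset.mem_filter.1 (Finset.mem_of_mem_erase hx)).1, (Finset.mem_erase.1 hx).1⟩
    have c := allR_eq_true.1 (allR_eq_true.1 (by decide +kernel : allR (fun x => allR (fun w =>
      bor (Nat.beq x 0) (bor (Nat.beq w 0) (bor (Nat.beq x w) (bimp (tb RMB (64 * x + w)) (allR (fun u =>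
        bimp (tb RMB (64 * x + u)) (bimp (tb RMB (64 * w + u)) (bimp (tb RMB (64 * (x ^^^ w) + u))
          (memL u [0, x, w, x ^^^ w])))) 64))))) 64) 64 = true) x (lt x hx).1) w (lt w hw).1
    simp only [bor_eq_true, beq_iff, bimp_eq_true, allR_eq_true, memL_eq_true, List.mem_cons, List.not_mem_nil,
      or_false, (lt x hx).2, (lt w hw).2, xw, false_or] at c
    have := c (rel x hx w hw xw).2 u (lt u hu).1 (rel x hx u hu (Ne.symm nu.1)).2 (rel w hw u hu (Ne.symm nu.2.1)).2
      (rel _ (rel x hx w hw xw).1 u hu (Ne.symm nu.2.2)).2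
    exact this.elim (lt u hu).2 fun h => h.elim nu.1 fun h => h.elim nu.2.1 nu.2.2
  · obtain ⟨k, hk, hT⟩ := X.frame e (hy.rq.cent_SB (B := BC) (k := 5) (by decide +kernel)) (X.SB_le _ _)
    have h1 := X.card_le_SR hT
    have h2 := (ci_SR (X := X) (conjg_comm' (X.SB_comm (B := BC) (k := 5) (C := BC) (l := 5) (by decide +kernel)) k)
      (conjg_sq (X.SB_sq (by decide +kernel)) k)).card_le
    rw [show X.SB BC 5 :^ k ⊓ X.EE = ⊥ from ?_, card_conjg, X.card_SB (by decide +kernel), card_bot] at h1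
    · omega
    rw [eq_bot_iff]
    rintro _ ⟨a, b⟩
    obtain ⟨_, ⟨x, hx, j, rfl⟩, rfl⟩ := mem_conjg'.1 a
    obtain ⟨b1, b2⟩ := (by decide +kernel : ∀ x < 2 ^ 5, ∀ j < 2, ap BC x = pick eC 12 4095 (x + 32 * j) ^^^
      ap (fs c2C) (pick eC 12 4095 (x + 32 * j)) ∧ j % 2 = phz 0 c2C (pick eC 12 4095 (x + 32 * j)) % 2)
      x hx (j % 2) (Nat.mod_lt _ (by norm_num))
    rw [b1] at b ⊢
    rw [P hk hy.rq _ (pick12_lt _ _) j (by omega) b]
    simp

end HM

end

end CA.J4

theorem CA.J4.realizeEqnsJ4Fus : True := by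
  have := @CA.J4.v0X.eq_1
  have := @CA.J4.v0X.eq_def
  have := @CA.J4.v0X.congr_simp
  have := @CA.J4.eB.eq_1
  have := @CA.J4.eB.eq_def
  have := @CA.J4.eB.congr_simp
  have := @CA.J4.w2C.eq_1
  have := @CA.J4.w2C.eq_def
  have := @CA.J4.w2C.congr_simp
  have := @CA.J4.sC.eq_1
  have := @CA.J4.sC.eq_def
  have := @CA.J4.sC.congr_simp
  have := @CA.J4.RMB.eq_1
  have := @CA.J4.RMB.eq_def
  have := @CA.J4.RMB.congr_simp
  have := @CA.J4.c2C.eq_1
  have := @CA.J4.c2C.eq_def
  have := @CA.J4.c2C.congr_simp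
  have := @CA.J4.JB.eq_1
  have := @CA.J4.JB.eq_def
  have := @CA.J4.JB.congr_simp
  have := @CA.J4.BK.eq_1
  have := @CA.J4.BK.eq_def
  have := @CA.J4.BK.congr_simp
  have := @CA.J4.c2B.eq_1
  have := @CA.J4.c2B.eq_def
  have := @CA.J4.c2B.congr_simp
  have := @CA.J4.eC.eq_1
  have := @CA.J4.eC.eq_def
  have := @CA.J4.eC.congr_simp
  have := @CA.J4.BC.eq_1
  have := @CA.J4.BC.eq_def
  have := @CA.J4.BC.congr_simp
  have := @CA.J4.eX.eq_1
  have := @CA.J4.eX.eq_def
  have := @CA.J4.eX.congr_simp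
  have := @CA.J4.phz.eq_1
  have := @CA.J4.phz.eq_def
  have := @CA.J4.phz.congr_simp
  have := @CA.J4.cenW.eq_1
  have := @CA.J4.cenW.eq_def
  have := @CA.J4.cenW.congr_simp
  have := @CA.J4.w2B.eq_1
  have := @CA.J4.w2B.eq_def
  have := @CA.J4.w2B.congr_simp
  have := @CA.J4.sB.eq_1
  have := @CA.J4.sB.eq_def
  have := @CA.J4.sB.congr_simp
  have := @CA.J4.BF.eq_1
  have := @CA.J4.BF.eq_def
  have := @CA.J4.BF.congr_simp
  have := @CA.J4.BZ.eq_1
  have := @CA.J4.BZ.eq_def
  have := @CA.J4.BZ.congr_simp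
  have := @CA.J4.BB.eq_1
  have := @CA.J4.BB.eq_def
  have := @CA.J4.BB.congr_simp
  have := @CA.J4.invW.eq_1
  have := @CA.J4.invW.eq_def
  have := @CA.J4.invW.congr_simp
  have := @CA.J4.sX.eq_1
  have := @CA.J4.sX.eq_def
  have := @CA.J4.sX.congr_simp
  have := @CA.J4.HM.SB.eq_1.{0}
  have := @CA.J4.HM.SB.eq_def.{0}
  have := @CA.J4.HM.SB.congr_simp.{0}
  trivial
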