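import Cfsg.Agent.J4.Vec

/-! Identification of the twelve-dimensional module. -/

set_option autoImplicit false
set_option maxRecDepth 100000

namespace CA.J4

open CA.M24

noncomputable section

def mA : ℕ := nat_lit 11151734060756045488764251322083419300577282
def mB : ℕ := nat_lit 11151733731410195402100737922506804625997825
def mT : ℕ := nat_lit 3103377457941306711748043395441259638092800
def mU : ℕ := nat_lit 16726920029664359459575662596568960645197825
def mO : ℕ := nat_lit 16728281443780384816347054812392448369144378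
def mC : ℕ := nat_lit 5260127618559637475705208125727046432432129
def mCi : ℕ := nat_lit 43561548863424351278460618649147592220673
def invT : ℕ := nat_lit 0xaab6676de3b972c622d2daf6186ff597af60841f3500e5484e3e73596afa9398c1e30958f2b4821f913c86ceaf6b6217f15eff39092a287279fb45cde814c3b09b45a46c179cdf2eaee75c0e857624d2558134cb7f0d0163ae781d12badcc22d84c7cc167b8caa59f16e60f6450375417a5c919db0db0f8342a3c4906e887c551ffeb8fb32d6bcb3e64941e5bfb5377fb8aca475a73167c5458d39a41de36be314c70528856f7dab8107843752328b86d3b4cf2a972ff198e03791126e27428b0a5e0cf0bc4cba37dfbacda51c2c7396fa3d6eb033a65bc961f7ee9a9c47588efddaeefd5974956f427f6c851a7b11bcf92320dcbb2b93dc3bf3e8052a9d01601b95b6512a751cef963adc7413f48a086a376d10cf76cf415f1ca412c19c2870a824eaee651ed84bbd029fe80375a205d8832b67b370f1b18abe85d4368aad66ec479c9e39358306b4dea14425f9cff9354a8b4d160ae33bd58f45e0d8f13aacc5b7b2f8baee1e3ee562bfb403910c27b2b37940c1f429d022fa79c83dcb5f95b8f8a1a48ad687166a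fe97f656217718f04f6eb7b861fceaedaf3da302f8d75a465ddf24b16c01a3ff8037fd24cb9456028762e3d124c6c4341cd14b34a39945bf5f14e182657b41c579f6a266967477bc153a3e68a91818490b609c8f3b36d13d1313869353bb40bf5fd3d33526f1df36b60a11768f2c5b7174fa3a888d40aa50617ba2764219b0f6417fa420411eb32b3eade061ea728e0a65be764669ed3a220ff01d5476ba3ea03c4afd5e08e743dcca898a8ea3ba68d3c921b99c0b7577478be51b3732f01a1e8756acb2989ef573c02c3f82696daeae02a7198db2598191c0d42deef642a856f4fc5684ae7c2b6b2701c8f813c53c3169588e3cc804aa525347bbd78debd10857e900c6d49cbc6c790489a63a4c1d066546c575bf49f2d02ef9231743b7ac196680a3e8a4793c6723f4d8cf7555f47ed9e11512043a3e3865360e82025019af4ec1f1adf529a6250844fd21b9b3699eb933043723143437a574fdb4a9c60b8a4b34b023e211cd72b2ab301289dd36db8a3476bfec5ff76cac5de294265039186261f8824e1150a8e3c5dac11bbf51909972683a1aa59dd3c53e97f5ff2366e9b01897a1b02af6e3a7c3d4c978809b35fe88130d11cd53ad1438a034d6ee7de91f062512e0fd23be74f4601a48a2af1e158c5f696e377ea7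3350e3eccb4eea9b2fc0a16e4193174f39d97e9ea4cf9beb4bcb6586ef050c2ec7cd4dcb7089a990fd47037c332747faa82e478155cee6314e25a6f241645c35464343a964f787f03eda8fdcd6d722a1213bd5f825056c7df029ad271808928896f210b7e571ce08ce43ad5eea4f85ce7491cb146dc4ce595155c7c290383d66fb8096372e52d7dfa3273c67db95e6e85afe9598468e29b7f7badc0ec9d527ef04c3773d122a0e1e7d05532be6b59e2d106e2dc4b6048c794b9360bde56aa28fe623b77b5f84835cf6f87718b4d0365427771a1f4f2679afcd9c295b221610655bb5215d07c5eaf3c39c75f4c0b06a1a2c83fa4be69bbf67f02b3e096c1044bdfd47ef1d22b2e122a319c8a87b3e609b1b5bfd187dca2f0b48cb248b7624e26185aff0599295977a54fcf29b3caebfb925506485cf8184ed09b381c52ef4ca56e0ea84c759cd49bf69dd81f0fc2010421ea644ce0f6fb549c3ba146116d8f0a7d6d52d5e41ac8d8339e2736629194f8d8e6a12d0f84010b777b2922f62c7ae55f211a30d33ca31c96880446dbe9f558d26671d0092555cce00aabff00400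
def fixB : List ℕ := [0, 1, 570, 571, 1024, 1025, 1594, 1595, 2048, 2049, 2618, 2619, 3072, 3073, 3642, 3643]
def kerB : List ℕ := [0, 7, 10, 13, 18, 21, 24, 31, 34, 37, 40, 47, 48, 55, 58, 61, 67, 68, 73, 78, 81, 86, 91, 92, 97, 102, 107, 108, 115, 116, 121, 126, 131, 132, 137, 142, 145, 150, 155, 156, 161, 166, 171, 172, 179, 180, 185, 190, 192, 199, 202, 205, 210, 213, 216, 223, 226, 229, 232, 239, 240, 247, 250, 253, 259, 260, 265, 270, 273, 278, 283, 284, 289, 294, 299, 300, 307, 308, 313, 318, 320, 327, 330, 333, 338, 341, 344, 351, 354, 357, 360, 367, 368, 375, 378, 381, 384, 391, 394, 397, 402, 405, 408, 415, 418, 421, 424, 431, 432, 439, 442, 445, 451, 452, 457, 462, 465, 470, 475, 476, 481, 486, 491, 492, 499, 500, 505, 510, 514, 517, 520, 527, 528, 535, 538, 541, 544, 551, 554, 557, 562, 565, 568, 575, 577, 582, 587, 588, 595, 596, 601, 606, 611, 612, 617, 622, 625, 630, 635, 636, 641, 646, 651, 652, 659, 660, 665, 670,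 675, 676, 681, 686, 689, 694, 699, 700, 706, 709, 712, 719, 720, 727, 730, 733, 736, 743, 746, 749, 754, 757, 760, 767, 769, 774, 779, 780, 787, 788, 793, 798, 803, 804, 809, 814, 817, 822, 827, 828, 834, 837, 840, 847, 848, 855, 858, 861, 864, 871, 874, 877, 882, 885, 888, 895, 898, 901, 904, 911, 912, 919, 922, 925, 928, 935, 938, 941, 946, 949, 952, 959, 961, 966, 971, 972, 979, 980, 985, 990, 995, 996, 1001, 1006, 1009, 1014, 1019, 1020]

/-- pack twelve columns -/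
def pk (c0 c1 c2 c3 c4 c5 c6 c7 c8 c9 c10 c11 : ℕ) : ℕ := (Nat.lor (Nat.lor (Nat.lor (Nat.lor (Nat.lor (Nat.lor (Nat.lor (Nat.lor (Nat.lor (Nat.lor (Nat.lor (Nat.shiftLeft c0 (nat_lit 0)) (Nat.shiftLeft c1 (nat_lit 12))) (Nat.shiftLeft c2 (nat_lit 24))) (Nat.shiftLeft c3 (nat_lit 36))) (Nat.shiftLeft c4 (nat_lit 48))) (Nat.shiftLeft c5 (nat_lit 60))) (Nat.shiftLeft c6 (nat_lit 72))) (Nat.shiftLeft c7 (nat_lit 84))) (Nat.shiftLeft c8 (nat_lit 96))) (Nat.shiftLeft c9 (nat_lit 108))) (Nat.shiftLeft c10 (nat_lit 120))) (Nat.shiftLeft c11 (nat_lit 132)))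

theorem pk_eq (c0 c1 c2 c3 c4 c5 c6 c7 c8 c9 c10 c11 : ℕ) : pk c0 c1 c2 c3 c4 c5 c6 c7 c8 c9 c10 c11 =
    bl (getL [c0, c1, c2, c3, c4, c5, c6, c7, c8, c9, c10, c11] 0) := by
  simp only [bl, orr, Nat.zero_or]
  rfl

/-- iteration -/
def itr (g : ℕ → ℕ) (n v : ℕ) : ℕ := Nat.rec (motive := fun _ => ℕ) v (fun _ ih => force ih g) n

theorem itr_succ (g : ℕ → ℕ) (n v : ℕ) : itr g (n + 1) v = g (itr g n v) := force_eq _ _

/-- sum of the first `n` iterates -/
def trc (g : ℕ → ℕ) (n : ℕ) : ℕ → ℕ :=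
  Nat.rec (motive := fun _ => ℕ → ℕ) (fun _ => 0) (fun _ ih v => Nat.xor v (force (g v) ih)) n

theorem trc_succ (g : ℕ → ℕ) (n v : ℕ) : trc g (n + 1) v = v ^^^ trc g n (g v) := by
  change Nat.xor v (force (g v) (trc g n)) = _
  rw [force_eq]; rfl

/-- the polynomial with coefficients the bits of `y`, applied to `v` -/
def pol (g : ℕ → ℕ) (n : ℕ) : ℕ → ℕ → ℕ :=
  Nat.rec (motive := fun _ => ℕ → ℕ → ℕ) (fun _ _ => 0)
    (fun _ ih y v => Nat.xor (Nat.mul (Nat.land y 1) v) (force (g v) (ih (Nat.shiftRight y 1)))) n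

theorem pol_ind (P : ℕ → Prop) (h0 : P 0) (hx : ∀ a b, P a → P b → P (a ^^^ b)) (g : ℕ → ℕ)
    (hg : ∀ a, P a → P (g a)) (n y v : ℕ) (hv : P v) : P (pol g n y v) := by
  induction n generalizing y v with
  | zero => exact h0
  | succ n ih =>
    change P (Nat.xor (Nat.mul (Nat.land y 1) v) (force (g v) (pol g n (Nat.shiftRight y 1))))
    rw [force_eq]
    refine hx _ _ ?_ (ih _ _ (hg _ hv))
    change P ((y &&& 1) * v)
    rw [Nat.and_one_is_mod]
    rcases Nat.mod_two_eq_zero_or_one y with e | e <;> rw [e]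
    · rwa [zero_mul]
    · rwa [one_mul]

variable {W : Type*} [AddCommGroup W]

/-- `φ` acts on coordinates as the function `g` -/
def ActF (f : ℕ → W) (φ : AddMonoid.End W) (g : ℕ → ℕ) : Prop :=
  ∀ v < 4096, g v < 4096 ∧ φ (f v) = f (g v)

/-- `φ` acts on coordinates as the matrix `m` -/
abbrev Act (f : ℕ → W) (φ : AddMonoid.End W) (m : ℕ) : Prop := ActF f φ (ap m)

/-- coordinates -/
structure Co (f : ℕ → W) : Prop where
  xor : ∀ a b, f (a ^^^ b) = f a + f b
  inj : ∀ v < 4096, f v = 0 → v = 0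
  surj : ∀ w, ∃ v < 4096, f v = w

section
variable {f : ℕ → W} {φ ψ : AddMonoid.End W} {g h : ℕ → ℕ}

theorem zero_of_xor (hf : ∀ a b, f (a ^^^ b) = f a + f b) : f 0 = 0 := by simpa using hf 0 0

theorem Co.zero (hf : Co f) : f 0 = 0 := zero_of_xor hf.xor

theorem Co.two (hf : Co f) (w : W) : w + w = 0 := by
  obtain ⟨v, -, rfl⟩ := hf.surj w
  rw [← hf.xor, Nat.xor_self, hf.zero]

theorem Co.eq (hf : Co f) {a b : ℕ} (ha : a < 4096) (hb : b < 4096) (e : f a = f b) : a = b :=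
  Nat.eq_of_xor_eq_zero (hf.inj _ (xor_lt ha hb) (by rw [hf.xor, e, hf.two]))

theorem ActF.mul (h1 : ActF f φ g) (h2 : ActF f ψ h) : ActF f (φ * ψ) fun v => force (h v) g := by
  intro v hv
  simp only [force_eq]
  rw [AddMonoid.End.coe_mul, Function.comp_apply, (h2 v hv).2]
  exact h1 _ (h2 v hv).1

theorem ActF.pow (h1 : ActF f φ g) (n : ℕ) : ActF f (φ ^ n) (itr g n) := by
  induction n with
  | zero => exact fun v hv => ⟨hv, rfl⟩
  | succ n ih =>
    intro v hv
    rw [pow_succ', itr_succ, AddMonoid.End.coe_mul, Function.comp_apply, (ih v hv).2]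
    exact h1 _ (ih v hv).1

theorem ActF.trc (hf : ∀ a b, f (a ^^^ b) = f a + f b) (h1 : ActF f φ g) (n : ℕ) {v : ℕ} (hv : v < 4096) :
    trc g n v < 4096 ∧ f (trc g n v) = ∑ j ∈ Finset.range n, (φ ^ j) (f v) := by
  induction n generalizing v with
  | zero => exact ⟨by norm_num [J4.trc], zero_of_xor hf⟩
  | succ n ih =>
    obtain ⟨a, b⟩ := ih (h1 v hv).1
    rw [trc_succ, hf, Finset.sum_range_succ', b, ← (h1 v hv).2, add_comm]
    exact ⟨xor_lt hv a, rfl⟩

theorem act_of_basis (hf : ∀ a b, f (a ^^^ b) = f a + f b) {m : ℕ}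
    (h : ∀ i < 12, φ (f (2 ^ i)) = f (col m i)) : Act f φ m := by
  intro v hv
  refine ⟨ap_lt _ _, vec_induction (fun v => φ (f v) = f (ap m v)) ?_ ?_ ?_ v hv⟩
  · simp [zero_of_xor hf]
  · intro a b _ _ h1 h2
    rw [hf, ap_xor, hf, map_add, h1, h2]
  · intro i hi
    rw [ap_two_pow _ hi, h i hi]

end

/-- the relations between the five endomorphisms -/
structure Hyp (Ω A B T U : AddMonoid.End W) : Prop where
  two : ∀ w : W, w + w = 0
  card : Nat.card W = 4096
  om : ∀ w, Ω (Ω w) = Ω w + w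
  oA : Commute Ω A
  oB : Commute Ω B
  oT : Commute Ω T
  oU : U * Ω = Ω ^ 2 * U
  A11 : A ^ 11 = 1
  Ane : A ≠ 1
  B5 : B ^ 5 = 1
  BA : B * A = A ^ 4 * B
  T4 : T ^ 4 = 1
  TB : T * B = B ^ 2 * T
  r1 : ∃ i, (A * T) ^ 5 = Ω ^ i
  r2 : ∃ i, (A ^ 2 * T) ^ 7 = Ω ^ i
  UA : U * A = A ^ 10 * U
  UB : Commute U B
  UT : Commute U T
  Uinj : Function.Injective U

/-- the basis -/
def ba (Ω A : AddMonoid.End W) (x c : W) : List W :=
  [x, A x, (A ^ 2) x, (A ^ 3) x, (A ^ 4) x, (A ^ 5) x, (A ^ 6) x, (A ^ 7) x, (A ^ 8) x, (A ^ 9) x, c, Ω c]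

theorem semiconj_pow {φ ψ χ : AddMonoid.End W} (h : φ * ψ = χ * φ) (n : ℕ) (w : W) :
    φ ((ψ ^ n) w) = (χ ^ n) (φ w) :=
  DFunLike.congr_fun ((show SemiconjBy φ ψ χ from h).pow_right n).eq w

theorem exists_fixed (φ : AddMonoid.End W) {p : ℕ} [Fact p.Prime] (hp : φ ^ p = 1) (S : Set W) [Finite S]
    (hS : ∀ w ∈ S, φ w ∈ S) (h1 : Nat.card S % p ≠ 0) (h2 : Nat.card S % p ≠ 1) :
    ∃ w ∈ S, w ≠ 0 ∧ φ w = w := by
  classical
  let F : Function.End S := fun w => ⟨φ w, hS _ w.2⟩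
  have hF : ∀ n (w : S), (((F ^ n) w : S) : W) = (φ ^ n) w := by
    intro n
    induction n with
    | zero => intro w; rfl
    | succ n ih => intro w; rw [pow_succ, pow_succ]; exact ih (F w)
  have := Fintype.ofFinite S
  have key := Equiv.Perm.card_fixedPoints_modEq (f := F) (p := p) (n := 1) (by
    funext w; exact Subtype.ext (by rw [pow_one, hF, hp]; rfl))
  rw [← Nat.card_eq_fintype_card] at key
  by_contra hc
  push Not at hc
  have : Fintype.card (Function.fixedPoints F) ≤ 1 := by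
    rw [Fintype.card_le_one_iff]
    have : ∀ a : Function.fixedPoints F, ((a : S) : W) = 0 := fun a => by
      by_contra h
      exact hc _ a.1.2 h (congrArg Subtype.val a.2)
    exact fun a b => Subtype.ext (Subtype.ext ((this a).trans (this b).symm))
  have hp2 := (Fact.out : p.Prime).two_le
  unfold Nat.ModEq at key
  rw [Nat.mod_eq_of_lt (show Fintype.card (Function.fixedPoints F) < p by omega)] at key
  omega

namespace Hyp

variable {Ω A B T U : AddMonoid.End W}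

theorem om3 (H : Hyp Ω A B T U) : Ω ^ 3 = 1 := by
  ext w
  change Ω (Ω (Ω w)) = w
  rw [H.om, H.om, add_right_comm, H.two, zero_add]

theorem om_pow (H : Hyp Ω A B T U) (i : ℕ) (w : W) :
    (Ω ^ i) w = w ∨ (Ω ^ i) w = Ω w ∨ (Ω ^ i) w = Ω w + w := by
  rw [pow_eq_pow_mod i H.om3]
  have : i % 3 < 3 := Nat.mod_lt _ (by norm_num)
  interval_cases i % 3
  · exact Or.inl rfl
  · exact Or.inr (Or.inl rfl)
  · exact Or.inr (Or.inr (H.om w))

theorem sq (H : Hyp Ω A B T U) : Hyp (Ω ^ 2) A B T U :=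
  { H with
    om := fun w => by
      change Ω (Ω (Ω (Ω w))) = Ω (Ω w) + w
      rw [H.om (Ω (Ω w)), H.om (Ω w), H.om w, add_assoc (Ω w + w), add_comm (Ω w) (Ω w + w), ← add_assoc,
        H.two, zero_add, add_assoc, H.two, add_zero]
    oA := H.oA.pow_left 2
    oB := H.oB.pow_left 2
    oT := H.oT.pow_left 2
    oU := ((show SemiconjBy U Ω (Ω ^ 2) from H.oU).pow_right 2).eq
    r1 := by
      obtain ⟨i, h⟩ := H.r1
      exact ⟨2 * i, by rw [h, ← pow_mul, show 2 * (2 * i) = 3 * i + i by ring, pow_add, pow_mul, H.om3, one_pow, one_mul]⟩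
    r2 := by
      obtain ⟨i, h⟩ := H.r2
      exact ⟨2 * i, by rw [h, ← pow_mul, show 2 * (2 * i) = 3 * i + i by ring, pow_add, pow_mul, H.om3, one_pow, one_mul]⟩ }

theorem fin (H : Hyp Ω A B T U) : Finite W := Nat.finite_of_card_ne_zero (by rw [H.card]; norm_num)

/-- the basic coordinates -/
theorem coord (H : Hyp Ω A B T U) {x c : W} (hx : x ≠ 0) (hx' : ∑ j ∈ Finset.range 11, (A ^ j) x = 0)
    (hc : c ≠ 0) (hc' : A c = c) : ∃ f : ℕ → W, Co f ∧ Act f A mA ∧ f 1 = x ∧ f 1024 = c ∧ f 2048 = Ω c := by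
  set f : ℕ → W := fun v => lin (ba Ω A x c) v 0 with hf
  have h1 : ∀ a b, f (a ^^^ b) = f a + f b := fun a b => lin_xor H.two _ a b 0
  have e1 : f 1 = x := by simp [hf, lin, ba]
  have e2 : f 1024 = c := by simp [hf, lin, ba]
  have e3 : f 2048 = Ω c := by simp [hf, lin, ba]
  have h2 : Act f A mA := by
    have fb : ∀ j < 10, f (2 ^ j) = (A ^ j) x := by
      intro j hj
      interval_cases j <;> simp [hf, lin, ba]
    have p : ∀ n, A ((A ^ n) x) = (A ^ (n + 1)) x := fun n => by rw [pow_succ']; rfl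
    have r : A (Ω c) = Ω c := by
      have := DFunLike.congr_fun H.oA.eq c
      change Ω (A c) = A (Ω c) at this
      rw [← this, hc']
    refine act_of_basis h1 fun i hi => ?_
    by_cases h9 : i < 9
    · rw [fb i (by omega), p, ← fb _ (by omega),
        (by decide +kernel : ∀ i < 9, col mA i = 2 ^ (i + 1)) i h9]
    obtain rfl | rfl | rfl : i = 9 ∨ i = 10 ∨ i = 11 := by omega
    · rw [Finset.sum_range_succ] at hx'
      rw [fb 9 (by omega), p, (eq_neg_of_add_eq_zero_right hx').trans (neg_eq_of_add_eq_zero_left (H.two _)),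
        show col mA 9 = 2 ^ 0 ^^^ 2 ^ 1 ^^^ 2 ^ 2 ^^^ 2 ^ 3 ^^^ 2 ^ 4 ^^^ 2 ^ 5 ^^^ 2 ^ 6 ^^^ 2 ^ 7 ^^^ 2 ^ 8 ^^^ 2 ^ 9
          by decide +kernel]
      simp only [h1, Finset.sum_range_succ, Finset.range_zero, Finset.sum_empty, zero_add]
      rw [fb 0 (by omega), fb 1 (by omega), fb 2 (by omega), fb 3 (by omega), fb 4 (by omega), fb 5 (by omega),
        fb 6 (by omega), fb 7 (by omega), fb 8 (by omega), fb 9 (by omega)]
    · rw [show col mA 10 = 1024 by decide +kernel, show 2 ^ 10 = 1024 from rfl, e2, hc']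
    · rw [show col mA 11 = 2048 by decide +kernel, show 2 ^ 11 = 2048 from rfl, e3, r]
  have h3 : ∀ v < 4096, f v = 0 → v = 0 := by
    have k1 : ∀ v < 1024, f v = 0 → v = 0 := by
      intro v hv h
      by_contra h0
      have c1 : allR (fun v => bor (Nat.beq v 0) (Nat.beq (pol (ap mA) 10 (pick invT 10 1023 v) v) 1)) 1024 = true := by
        decide +kernel
      have c2 := allR_eq_true.1 c1 v hv
      simp only [bor_eq_true, beq_iff, h0, false_or] at c2
      have := pol_ind (fun v => v < 4096 ∧ f v = 0) ⟨by norm_num, zero_of_xor h1⟩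
        (fun a b ha hb => ⟨xor_lt ha.1 hb.1, by rw [h1, ha.2, hb.2, add_zero]⟩) (ap mA)
        (fun a ha => ⟨ap_lt _ _, by rw [← (h2 a ha.1).2, ha.2, map_zero]⟩) 10 (pick invT 10 1023 v) v
        ⟨by omega, h⟩
      rw [c2, e1] at this
      exact hx this.2
    intro v hv h
    have c1 : allP (fun v => force (Nat.xor (ap mA v) v) fun w => band (blt' w 1024)
      (bimp (Nat.beq w 0) (memL v [0, 1024, 2048, 3072]))) 12 0 = true := by decide +kernel
    have c2 := allV c1 hv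
    simp only [force_eq, band_eq_true, blt'_eq_true, bimp_eq_true, beq_iff, memL_eq_true, List.mem_cons,
      List.not_mem_nil, or_false] at c2
    have c3 := c2.2 (k1 _ c2.1 (by
      change f (ap mA v ^^^ v) = 0
      rw [h1, ← (h2 v hv).2, h, map_zero, add_zero]))
    have o1 := H.om c
    rcases c3 with rfl | rfl | rfl | rfl
    · rfl
    · exact absurd (e2 ▸ h) hc
    · rw [e3] at h
      rw [h, map_zero, zero_add] at o1
      exact absurd o1.symm hc
    · rw [show 3072 = 2048 ^^^ 1024 from rfl, h1, e2, e3] at h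
      rw [h, eq_neg_of_add_eq_zero_left h, neg_eq_of_add_eq_zero_left (H.two c),
        eq_neg_of_add_eq_zero_left h, neg_eq_of_add_eq_zero_left (H.two c)] at o1
      exact absurd o1 hc
  refine ⟨f, ⟨h1, h3, fun w => ?_⟩, h2, e1, e2, e3⟩
  have := H.fin
  have hb : Function.Bijective fun v : Fin 4096 => f v := by
    rw [Nat.bijective_iff_injective_and_card, H.card, Nat.card_fin]
    refine ⟨fun a b e => Fin.ext (Nat.eq_of_xor_eq_zero (h3 _ (xor_lt a.2 b.2) ?_)), rfl⟩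
    rw [h1, show f a = f b from e, H.two]
  obtain ⟨v, e⟩ := hb.2 w
  exact ⟨v, v.2, e⟩

theorem exists_c (H : Hyp Ω A B T U) : ∃ c, c ≠ 0 ∧ A c = c := by
  have := H.fin
  have : Fact (Nat.Prime 11) := ⟨by norm_num⟩
  have h : Nat.card (Set.univ : Set W) = 4096 := by rw [Nat.card_univ, H.card]
  obtain ⟨w, -, h⟩ := exists_fixed A H.A11 Set.univ (by simp) (by rw [h]; norm_num) (by rw [h]; norm_num)
  exact ⟨w, h⟩

theorem exists_x (H : Hyp Ω A B T U) : ∃ x, x ≠ 0 ∧ ∑ j ∈ Finset.range 11, (A ^ j) x = 0 ∧ B x = x := by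
  have := H.fin
  obtain ⟨c, hc, hc'⟩ := H.exists_c
  obtain ⟨w, hw⟩ : ∃ w, A w ≠ w := by
    by_contra h
    push Not at h
    exact H.Ane (by ext w; exact h w)
  have h1 : ∑ j ∈ Finset.range 11, (A ^ j) (A w - w) = 0 := by
    have := Finset.sum_range_sub (fun j => (A ^ j) w) 11
    rw [H.A11] at this
    simp only [map_sub]
    refine Eq.trans (Finset.sum_congr rfl fun j _ => ?_) (this.trans (sub_self _))
    rw [pow_succ]; rfl
  obtain ⟨f, hf, hA, -⟩ := H.coord (sub_ne_zero.2 hw) h1 hc hc'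
  have c1 : allP (fun v => Nat.beq (bif' (Nat.beq (trc (ap mA) 11 v) 0) 1 0) (bif' (blt' v 1024) 1 0)) 12 0 = true := by
    decide +kernel
  have c2 : ∀ v < 4096, ∑ j ∈ Finset.range 11, (A ^ j) (f v) = 0 ↔ v < 1024 := by
    intro v hv
    have c3 := allV c1 hv
    obtain ⟨a, b⟩ := hA.trc hf.xor 11 hv
    rw [← b]
    simp only [beq_iff, bif'_eq, blt'_eq_true] at c3
    constructor
    · intro h
      rw [hf.inj _ a h] at c3
      by_contra h'
      simp [h'] at c3
    · intro h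
      by_cases h' : trc (ap mA) 11 v = 0
      · rw [h', hf.zero]
      · simp [h, h'] at c3
  have : Fact (Nat.Prime 5) := ⟨by norm_num⟩
  have hS : Nat.card {w | ∑ j ∈ Finset.range 11, (A ^ j) w = 0} = 1024 := by
    rw [← Nat.card_fin 1024]
    refine (Nat.card_congr (Equiv.ofBijective (fun v : Fin 1024 =>
      (⟨f v, (c2 v (by omega)).2 v.2⟩ : {w | ∑ j ∈ Finset.range 11, (A ^ j) w = 0})) ⟨?_, ?_⟩)).symm
    · exact fun a b e => Fin.ext (hf.eq (by omega) (by omega) (congrArg Subtype.val e))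
    · rintro ⟨w, hw⟩
      obtain ⟨v, hv, rfl⟩ := hf.surj w
      exact ⟨⟨v, (c2 v hv).1 hw⟩, rfl⟩
  obtain ⟨x, h1, h2⟩ := exists_fixed B H.B5 {w | ∑ j ∈ Finset.range 11, (A ^ j) w = 0} (fun w hw => by
    obtain ⟨v, hv, rfl⟩ := hf.surj w
    obtain ⟨y, hy, e⟩ := hf.surj (B (f v))
    have k1 : ∑ j ∈ Finset.range 11, ((A ^ 4) ^ j) (f y) = 0 := by
      rw [e]
      simp only [← semiconj_pow H.BA]
      rw [← map_sum, hw, map_zero]
    obtain ⟨a, b⟩ := (hA.pow 4).trc hf.xor 11 hy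
    have c4 : allP (fun v => bimp (Nat.beq (trc (itr (ap mA) 4) 11 v) 0) (blt' v 1024)) 12 0 = true := by
      decide +kernel
    have c5 := allV c4 hy
    simp only [bimp_eq_true, beq_iff, blt'_eq_true] at c5
    rw [Set.mem_ofPred_eq, ← e]
    exact (c2 y hy).2 (c5 (hf.inj _ a (b.trans k1)))) (by rw [hS]; norm_num) (by rw [hS]; norm_num)
  exact ⟨x, h2.1, h1, h2.2⟩

end Hyp

/-- the matrix of an endomorphism commuting with `A` -/
def omM (y : ℕ) : ℕ := pk y (itr (ap mA) 1 y) (itr (ap mA) 2 y) (itr (ap mA) 3 y) (itr (ap mA) 4 y)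
  (itr (ap mA) 5 y) (itr (ap mA) 6 y) (itr (ap mA) 7 y) (itr (ap mA) 8 y) (itr (ap mA) 9 y) 2048 3072

/-- the candidates for the matrix of `T` on the adapted basis -/
def tN (x0 x5 y : ℕ) : ℕ :=
  force (itr (ap mB) 2 y) fun y1 => force (itr (ap mB) 2 y1) fun y2 => force (itr (ap mB) 2 y2) fun y3 =>
    pk x0 (ap mO x0) x5 (ap mO x5) y (ap mO y) y1 (ap mO y1) y2 (ap mO y2) y3 (ap mO y3)

def tF (N v : ℕ) : ℕ := force (ap mCi v) (ap N)

def tChk (x0 x5 y : ℕ) : Bool := force (tN x0 x5 y) fun N =>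
  bimp (memL (itr (fun v => force (tF N v) (ap mA)) 5 1) [1, 570, 571])
    (bimp (memL (itr (fun v => force (tF N v) (itr (ap mA) 2)) 7 1) [1, 570, 571])
      (bimp (Nat.beq (itr (tF N) 4 1) 1)
        (band (memL x0 [1024, 2048, 3072]) (bimp (Nat.beq x0 1024) (Nat.beq (mm N mCi) mT)))))

theorem tChk_all : allL (fun x0 => allL (fun x5 => allL (fun y => tChk x0 x5 y) kerB) fixB) fixB = true := by
  decide +kernel

theorem col_getL {l : List ℕ} (h : ∀ a ∈ l, a < 4096) {i : ℕ} (hi : i < 12) :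
    col (bl (getL l 0)) i = getL l 0 i :=
  col_bl (fun i _ => by
    rcases getL_mem l 0 i with e | e
    · rw [e]; norm_num
    · exact h _ e) hi

end

end CA.J4

theorem CA.J4.realizeEqnsJ4Mod : True := by
  have := @CA.J4.omM.eq_1
  have := @CA.J4.omM.eq_def
  have := @CA.J4.omM.congr_simp
  have := @CA.J4.tChk.eq_1
  have := @CA.J4.tChk.eq_def
  have := @CA.J4.tChk.congr_simp
  have := @CA.J4.mT.eq_1
  have := @CA.J4.mT.eq_def
  have := @CA.J4.mT.congr_simp
  have := @CA.J4.tF.eq_1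
  have := @CA.J4.tF.eq_def
  have := @CA.J4.tF.congr_simp
  have := @CA.J4.pol.eq_1
  have := @CA.J4.pol.eq_def
  have := @CA.J4.pol.congr_simp
  have := @CA.J4.mO.eq_1
  have := @CA.J4.mO.eq_def
  have := @CA.J4.mO.congr_simp
  have := @CA.J4.trc.eq_1
  have := @CA.J4.trc.eq_def
  have := @CA.J4.trc.congr_simp
  have := @CA.J4.mA.eq_1
  have := @CA.J4.mA.eq_def
  have := @CA.J4.mA.congr_simp
  have := @CA.J4.ba.eq_1.{0}
  have := @CA.J4.ba.eq_def.{0}
  have := @CA.J4.ba.congr_simp.{0}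
  have := @CA.J4.invT.eq_1
  have := @CA.J4.invT.eq_def
  have := @CA.J4.invT.congr_simp
  have := @CA.J4.mB.eq_1
  have := @CA.J4.mB.eq_def
  have := @CA.J4.mB.congr_simp
  have := @CA.J4.ActF.eq_1.{0}
  have := @CA.J4.ActF.eq_def.{0}
  have := @CA.J4.ActF.congr_simp.{0}
  have := @CA.J4.mU.eq_1
  have := @CA.J4.mU.eq_def
  have := @CA.J4.mU.congr_simp
  have := @CA.J4.fixB.eq_1
  have := @CA.J4.fixB.eq_def
  have := @CA.J4.fixB.congr_simp
  have := @CA.J4.mCi.eq_1
  have := @CA.J4.mCi.eq_def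
  have := @CA.J4.mCi.congr_simp
  have := @CA.J4.pk.eq_1
  have := @CA.J4.pk.eq_def
  have := @CA.J4.pk.congr_simp
  have := @CA.J4.Act.eq_1.{0}
  have := @CA.J4.Act.eq_def.{0}
  have := @CA.J4.Act.congr_simp.{0}
  have := @CA.J4.mC.eq_1
  have := @CA.J4.mC.eq_def
  have := @CA.J4.mC.congr_simp
  have := @CA.J4.kerB.eq_1
  have := @CA.J4.kerB.eq_def
  have := @CA.J4.kerB.congr_simp
  have := @CA.J4.itr.eq_1
  have := @CA.J4.itr.eq_def
  have := @CA.J4.itr.congr_simp
  have := @CA.J4.tN.eq_1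
  have := @CA.J4.tN.eq_def
  have := @CA.J4.tN.congr_simp
  trivial
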