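import Cfsg.Agent.J4.Pre

/-! The explicit model of the centraliser of the involution, modulo the involution. -/

set_option autoImplicit false
set_option maxRecDepth 100000

namespace CA.J4

open CA.M24 CA.Fi CA.FG Cfsg Subgroup Equiv
open scoped commutatorElement

noncomputable section

def QT : ℕ := nat_lit 0x177e7ee87ee8e8817ee8e881e88181177ee8e881e8818117e88181178117177e7ee8e881e8818117e88181178117177ee88181178117177e8117177e177e7ee87ee8e881e8818117e88181178117177ee88181178117177e8117177e177e7ee8e88181178117177e8117177e177e7ee88117177e177e7ee8177e7ee87ee8e881177e7ee87ee8e8817ee8e881e88181177ee8e881e8818117e88181178117177e7ee8e881e8818117e88181178117177ee88181178117177e8117177e177e7ee87ee8e881e8818117e88181178117177ee88181178117177e8117177e177e7ee8e88181178117177e8117177e177e7ee88117177e177e7ee8177e7ee87ee8e881177e7ee87ee8e8817ee8e881e88181177ee8e881e8818117e88181178117177e7ee8e881e8818117e88181178117177ee88181178117177e8117177e177e7ee87ee8e881e8818117e88181178117177ee88181178117177e8117177e177e7ee8e88181178117177e8117177e177e7ee88117177e177e7ee8177e7ee87ee8e881e88181178117177e8117177e177e7ee88117177e177e7ee8177e7ee87ee8e8818117177e177e7ee8177e7ee87ee8e881177e7ee87ee8e8817ee8e881e88181178117177e177e7ee8177e7ee87ee8e881177e7ee87ee8e8817ee8e881e8818117177e7ee87ee8e8817ee8e881e88181177ee8e881e8818117e88181178117177e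
def orbL : ℕ := nat_lit 0x937373a557a5a99997a5b191b5918563779199a595a9b173a589c567817f82938fa59161b989919a79859583b54396726999b5567576838ba1a38a724376479197a1819991959146a961818675678353a181a59381867382757383978a976265a5a1698389875387a19a8787729a92b5519b77677387866192829f898795b5c567c575b1a5b19147a5a1b58a916257678991a99295525b67898367728283738591958563a553729245aa87836a7367b54197639a8b925395869383a5879189a1a971b583a59b7272755762778773578da5877287738a77a58b8372916aa1c5b9b1568377826687a5879782997381b1a9728b929957a169a95f55a1a5b5a985777b95b9a16585d576a5a1b5728597626399896593b9638b82457377868f8677b58da9a5678d337f77a182878377737765b9868267827b92b5a39b56958625b9a595a5b5667983939389578f83728a76c9a1938b8a8387778582827775876995a1c5766277967a66a5777b87a5679d999d838b835177a971757a91c1b5b571a56b9195b14f59639682b5778a87978a93a5d556867b838376b1638b728176a9a5a579778b76637b7351735a975176b591898792737927a195916375a5a5a1a58167b5878f969283836196769385637559a57292878157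91a5b5878199a999a19577535356b59381a57166a5a18199a9a1777691c5b1b995898391a5a58795638b878bb19565b9a1a167a1b1958379736f77b171796691935376a562827b9b826685b189a1467192676391a37686839b8771b98b9b938a8b76b98b7377716679a1b5b5b5c553957672738586627377568799a57363969a9767c9779666a19785a1a581878b8a637b8375679756b18ba5a985628366b1878991b57785b1996195a58795a9998a854697739597738a837a92a9a973437b86778371927357a587a531b1b572879b63937ab9777a9391926559a58283669d47a5ada957619981a5958157a1376796777776a5626b8795778999a583826b614661a9558645b1a181b19973938a8b79569181b59a91a1a59175a5775fb58581a5659583a1a98597b5877b77b571a573a57783838172a376726b869555529a73ab926781778b77a9838145a5b563827b86836289838687b5a6b191b19b7a478197a5999977ad79b59189a18f9956528397968699836b778167a59d95766767a5869571a98775a99571859563439677b173a579a59271716151a5b97b664585a9a1998183959171879587978381777b7f8a8e37a162839a91979991b9736b777596b5a9b56a85a98995b5797f628ba6653791b5857395a5a981a1897386b585a58171b16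b51758593a5879777836f76b18fa975855781c5959995b5876771a19195999577a5b5815b81a7978357b999918595a17b8195a177b9479777a999a147a1775377a5536b6b637383258b7b83b57391a17997a5a1a195a5b577878585a589b58172a56db543a583637377b5858191a1c56b91b5a556a9936a8371a5c183358677a661728382625b66a59799a979a181b956b1999157a1529a638189757b5197838395837386a3769275b591518391767372a1777287878687c595939b87768773619a8366b1738d819137a1819591856176859575a79577828bb5699196a9675b679573966382827765b1999597a1767ba25596737263527795a19686978b735379879b87995bb5b995a981b146657b87877167827787835799b5677b86728a56916a878b61778595a581a78777729756b16687876966919591538aa681a39d95997f61b5a195b5a15763a1a1a985a1857375b9c562b547a3828195b17291678b7671937277878b82a189819586a537768ba157839b82736799a1837a67637283a5737287958685c5a585a1a59ba967869679368783727777a58582979b9797a791838693697699a591c5868783937366b1777693b556858979929782817ba1b59197a9a5819191b9679d95c15799979663a966877262826791a1777772628257b5637b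8a8177719575a9479393637b76b9837b776157a5958587868aa14b85a1a59289819171a191439183728a83827789878766a583a161c596a787a19361819166a5a195a58575a3727293717b41c5815695b5a1b5a5898367b1b9a591658d97a5a19577956757576b959581b1a9b17791adc56655538f83a991a947ad62978b7587929a8286479589559156856762737967979397967681a5878282879766957777937193a57d99bda191828577677b5596737383736671858782ae868262a1868b77698b85b59591526b97737b937573967695937165a5776797958b3599a15691a18971b5a563a599b58bb576538695827382978377998996437763878389977376b582a191b1a58b7796428b57b16687679592358995969377bd82b99165a391b1a59565a16799477773728276a1577a92c56785818153876b856771b191969585a57995b553937a767987a5a9b5a7a57175b1a1959b82815191a1b18597b5b1719b95836b638591757b9d726387a1537277778a86a555626777739bae919b7eaba18355a9a1b192836baa837781978666b1875991956287678196a181b573a141b58555a57789678286928a93899683675577b5a9b57b8677c193a141a18ba5a97199957173538386b546c591918b9181a59575a1636a65b1957581958789a1b587a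9879f73a1578293636b5695728377a566b155b1a25b779176b549a17785b1b5a5b56177777a7a758761b9a58ab5a5ada581857b7ba5c5a59585817371a19187b5879383639757a977a5a5c537a1a5b57d95b983668171b9b59d9947b1a59177b98787876799b1c595a9a17791a59553b157939389c9956785636387c973777783838735767286b576a5959962c589ada18185538a9979a995c5856399999127896b737396c575a59971959aa5b1a576b187876391b991878177679691678a7b92867791569189a5c581a557b1917187757b7643a1b18583819377a695436767727687a5a9b1b1838166839b959687777f638295759f8377638b779d777b66a5537191b156b5659171a59976b1ad5576b177877ba1959583a5467b8765ab8a837b73636585b98583c5876387797763879a8267a56d868b9287677345536b8ba197bd81b59591a9939d8372a391a33357978777b1b547779e925b67b187876289637591859183838b838a76a5826393ad73bda1958273679577a191a54b75b5799db5918686b171a191a1b17791a5a597a5777293a1896586a177838b958b9386737b829581797197b1576a67a16763836f8377a581724b6b838382a583829795738d758591c5b57681879b866966679343928391a1877377636f57b567536755a39995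a581837787868b3791837373b156a579899a83aba187b171b186a5b1a1c5a98192a18da9179d83678aa987879a769377a195677297739a779577a343a1668d75a991977b63778b675d7366574573c5919573677a7167b1a1b197b961b589817162a16372678b736781926f87859391b9b19b8273a1839195b1868179b599d59166879a66a17391a1a597b5b1b1958981767779a16591a1817691b16572a1869a8282b98585b59d91578999b56765335b83a5b1816695829373a59b777667837675a5b19547a1976b53a977879a536b76a5a58772979a8f73a18f87778d77a981b5b9a185829d86576b958b527787878371a58b7b976b7b8685929677515ba5ada9a1879b87a76393a5538e27a9936581919b9366a5739595a183a1b1b58181a956c5b1757fb187838b919283777b86479569876373738793b1826b879592857d91c98277927a8b9695978357b5636189b1939357a177adb5957795a9b5b195b9666523579667868ba577879aa1b39d7d9597738b456651b59d7381a5b5a9c19172737383917391a1b992a989c991c1a57276b5a195a595658281719986b57a8a76a591856365734393a5728a838b829381a553876387865ba593877795937599b5b196765b57778f81939787959661a999939773b17e99718577a5a1b5ad959162b54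78767968366a18b8387a537a1918592aa7ba587a571c177959da1a1a5957233a296a577a58da58351617585b5a5826ba1a1a575a5b582c9a1997681766a868557778b82878689637392a593a981c5a24b7b658799719597b98991b5958572536b93a587a9a5919ab195b5a199a586a6b1a9996181a98ab195a956b1828296637b67917bb999c93b658999a9a1a16657b199a5c1a5a176b9a1897aa1469aa64785a9c571a19566bdb19982b566529691959572b576728aa182829a667682151175511281133b634177425377937379618363427b4263954373527562918591713e6b935a8746a97b5287a5469195ad523f76618381b9b57371a5b19595a163518b539362527aa54267536d4ba1999587679fbd679185996a8189698199a573332f83956795717146a9a1b591a9912a7b85918539a53d97c999957391567b32919b735a326a879162738b9963954179667383b153a5a9a187a1b9a991a5b1878b5a83b5437199817bb5a975b9a1852273a599a18965a58b4191914291566733a75776797391b15153a99581b9a179737a8981b9b5b5915285a59587953742976a79a975a1a5a543757575839567726ba591a15f8566835e9987626b878b3399611b5a575f676aa1436297917675b1a9575a738157a19995838599999521a55773836b61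7b8595a17f55b189657581777ea9a5718585a546a585915e999b563b324a97957f9575a563a5a575b5b5a94a9399956591a185ab99c1b573816787425a65a1a5b175a96e9571a56fa16b576ba9a1759ba1678763a5669b535a6f26714b9b6a859391a9b16e858181b1a5955a5285a19185c5916a69a9a163a57786b773997551a991856795a5a57775538f7b95a1a99385638b7251737766774267a56b75a5c91d29a18395a1a95281737743b191915a91738f7f755363526a6e6361b1a5a58b959386628552876b524a3781917a625377576f717b7752512b915521811a23738b6377817b5252a1838199754e9b77a962b199854f7191b581b5a1737b776295735db199739589a19159898b3fa1a16999b995328975b59789836642874a36956b89a18187a5a5b99575858b46b58191c181b12eb5a5715799526243635589619555b58379a99562b18743a34581a55381876747894f726e8b5b978523577b956a958195369185a589893163877191b1619d818395659152914e672b1ea195859581c12e89719597c967735271b1815e657f375ba58b73736a637f818785a1c99191854a91a1b946956b83a79961a173b17b4747ad877366675a529981b9318795625747a136836f6362567185779b6e625b26916a636385875985312247736562a98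5856799b59181a5b58383954d65a195497b85558542856767522ea18591b1a58177a589913eb163624b616d618b957287b3914b77533f66279163a1a1a1a9b175737985858771625233a991993281a37362b5368f637777737591a5a91695525ba7718347538b763675a587665342575681835e47997379454153719591a1a1a58ba571a14761526762b9a9b5777542771f557b76a72f4b46a1b1b1ad8385776e43a12a975a42738365b1225aa79b636a81876363793e8965518199b97b8953565a9577462367b73785a57b574b324a83713287579173695561896b634a83339775473b3a8987a93559573a4381037975490291453965290100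
def mO2 : ℕ := nat_lit 5579269807849537459739869817297854344499771

/-- the quadratic form -/
def qq (v : ℕ) : ℕ := bit QT v
/-- the bilinear form -/
def bb (v w : ℕ) : ℕ := Nat.xor (qq (Nat.xor v w)) (Nat.xor (qq v) (qq w))
/-- the cocycle -/
def bet (v w : ℕ) : ℕ := force (ap mO2 v) fun x => bb x w
/-- the sign of a member of the stabiliser of the pair -/
def sg (p : ℕ) : ℕ := bif' (Nat.beq (dig p (nat_lit 23)) (nat_lit 23)) (nat_lit 0) (nat_lit 1)
/-- orbit number of a vector: 0 for zero, 1 for the 2016, 2 for the 693, 3 for the 1386 -/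
def olab (v : ℕ) : ℕ := Nat.land (pick orbL 8 255 v) 3

theorem qq_lt (v : ℕ) : qq v < 2 := bit_lt _ _

theorem bb_mod (v w : ℕ) : bb v w % 2 = (qq (v ^^^ w) + qq v + qq w) % 2 := by
  change (qq (v ^^^ w) ^^^ (qq v ^^^ qq w)) % 2 = _
  have h1 := qq_lt (v ^^^ w)
  have h2 := qq_lt v
  have h3 := qq_lt w
  generalize qq (v ^^^ w) = a at *
  generalize qq v = b at *
  generalize qq w = c at *
  interval_cases a <;> interval_cases b <;> interval_cases c <;> rfl

theorem bb_lt (v w : ℕ) : bb v w < 2 :=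
  Nat.xor_lt_two_pow (n := 1) (qq_lt _) (Nat.xor_lt_two_pow (n := 1) (qq_lt _) (qq_lt _))

theorem bet_eq (v w : ℕ) : bet v w = bb (ap mO2 v) w := force_eq _ _

theorem orb_chk : allP (fun v => force (pick orbL 8 255 v) fun a =>
    bor (Nat.beq v (getL [0, 1, 7, 11] 0 (Nat.land a 3)))
      (force (pick orbL 8 255 (ap (getL [mA, mT, mU, mO] mone (Nat.land (Nat.shiftRight a 2) 3)) v)) fun b =>
        band (Nat.beq (Nat.land a 3) (Nat.land b 3)) (blt' (Nat.shiftRight b 4) (Nat.shiftRight a 4)))) 12 0 = true := by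
  decide +kernel

/-- descent to the representatives of the orbits -/
theorem orb_ind (P : ℕ → ℕ → Prop) (h0 : ∀ v, P v v)
    (h : ∀ m ∈ [mA, mT, mU, mO], ∀ v < 4096, ∀ r, P (ap m v) r → P v r) :
    ∀ v < 4096, P v (getL [0, 1, 7, 11] 0 (olab v)) := by
  intro v hv
  induction hn : Nat.shiftRight (pick orbL 8 255 v) 4 using Nat.strong_induction_on generalizing v with
  | _ n ih =>
    have c := allV orb_chk hv
    simp only [force_eq, bor_eq_true, beq_iff, band_eq_true, blt'_eq_true] at c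
    rcases c with c | ⟨c1, c2⟩
    · rw [olab, ← c]; exact h0 v
    · have := ih _ (hn ▸ c2) _ (ap_lt _ _) rfl
      rw [olab, ← c1] at this
      refine h _ ?_ v hv _ this
      have : Nat.land (Nat.shiftRight (pick orbL 8 255 v) 2) 3 < 4 := Nat.lt_succ_of_le Nat.and_le_right
      generalize Nat.land (Nat.shiftRight (pick orbL 8 255 v) 2) 3 = k at *
      exact (by decide +kernel : ∀ k < 4, getL [mA, mT, mU, mO] mone k ∈ [mA, mT, mU, mO]) k this

/-- the data of the model -/
structure HD (G : Type*) [Group G] where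
  z : G
  ρ : G
  s : ℕ → G
  π : G → Perm Pt

variable {G : Type*} [Group G]

/-- `n` normalises the group of order three and acts with matrix `m` and permutation `p` -/
def HD.Rp (X : HD G) (n : G) (m p : ℕ) : Prop :=
  Commute X.z n ∧ n * X.ρ * n⁻¹ = X.ρ ^ (1 + sg p) ∧ code (X.π n) = p ∧ m < 2 ^ 144 ∧
    ∀ v < 4096, n * X.s v * n⁻¹ = X.s (ap m v) * X.z ^ (sg p * qq v)

/-- the model -/
structure HM (G : Type*) [Group G] extends HD G where
  z_ne : z ≠ 1
  z_sq : z * z = 1
  ρ3 : orderOf ρ = 3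
  zs : ∀ v, Commute z (s v)
  s_mul : ∀ v < 4096, ∀ w < 4096, s v * s w = s (v ^^^ w) * z ^ bet v w
  s_inj : ∀ v < 4096, s v = 1 ∨ s v = z → v = 0
  π_mul : ∀ g h, Commute z g → Commute z h → π (g * h) = π g * π h
  π_mem : ∀ g, Commute z g → π g ∈ DD
  π_ker : ∀ g, Commute z g → π g = 1 → ∃ v < 4096, ∃ i j : ℕ, g = s v * ρ ^ i * z ^ j
  π_s : ∀ v, π (s v) = 1
  π_z : π z = 1
  faith : ∀ g, Commute z g → (∀ v < 4096, g * s v * g⁻¹ = s v ∨ g * s v * g⁻¹ = s v * z) →
    ∃ v < 4096, ∃ j : ℕ, g = s v * z ^ j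
  rρ : toHD.Rp ρ mO pone
  ra : ∃ a, toHD.Rp a mA ca
  rt : ∃ a, toHD.Rp a mT ct
  ru : ∃ a, toHD.Rp a mU cu

section
variable (E : Subgroup G)

abbrev WW : Type _ := Additive (Abelianization E)

open Classical in
def mkW (g : G) : WW E := if h : g ∈ E then Additive.ofMul (Abelianization.of ⟨g, h⟩) else 0

open Classical in
def acW (n : G) : AddMonoid.End (WW E) :=
  if h : n ∈ 𝒩(E) then
    MonoidHom.toAdditive (Abelianization.map (E.normalizerMonoidHom ⟨n, h⟩).toMonoidHom) else 1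

variable {E}

theorem mkW_eq {g : G} (h : g ∈ E) : mkW E g = Additive.ofMul (Abelianization.of ⟨g, h⟩) := dif_pos h

theorem mkW_mul {g h : G} (hg : g ∈ E) (hh : h ∈ E) : mkW E (g * h) = mkW E g + mkW E h := by
  rw [mkW_eq hg, mkW_eq hh, mkW_eq (mul_mem hg hh), ← ofMul_mul, ← map_mul]; rfl

theorem mkW_surj (w : WW E) : ∃ g ∈ E, mkW E g = w := by
  obtain ⟨⟨g, hg⟩, e⟩ := QuotientGroup.mk_surjective (s := commutator E) (Additive.toMul w)
  exact ⟨g, hg, by rw [mkW_eq hg]; exact congrArg Additive.ofMul e⟩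

theorem acW_mk {n g : G} (hn : n ∈ 𝒩(E)) (hg : g ∈ E) : acW E n (mkW E g) = mkW E (n * g * n⁻¹) := by
  rw [mkW_eq hg, mkW_eq (conj_mem_of_mem_norm hn hg), show acW E n = _ from dif_pos hn]; rfl

theorem acW_ext {φ ψ : AddMonoid.End (WW E)} (h : ∀ g ∈ E, φ (mkW E g) = ψ (mkW E g)) : φ = ψ := by
  refine DFunLike.ext _ _ fun w => ?_
  obtain ⟨g, hg, rfl⟩ := mkW_surj w
  exact h g hg

theorem acW_mul {m n : G} (hm : m ∈ 𝒩(E)) (hn : n ∈ 𝒩(E)) : acW E (m * n) = acW E m * acW E n :=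
  acW_ext fun g hg => by
    change _ = acW E m (acW E n _)
    rw [acW_mk (mul_mem hm hn) hg, acW_mk hn hg, acW_mk hm (conj_mem_of_mem_norm hn hg)]
    congr 1; group

theorem acW_one : acW E 1 = 1 := acW_ext fun g hg => by rw [acW_mk (one_mem _) hg]; simp

theorem acW_pow {n : G} (hn : n ∈ 𝒩(E)) (k : ℕ) : acW E (n ^ k) = acW E n ^ k := by
  induction k with
  | zero => simpa using acW_one
  | succ k ih => rw [pow_succ, acW_mul (pow_mem hn k) hn, ih, pow_succ]

variable {z : G}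

theorem comm_eq (h : ES E z) : commutator E = zpowers ⟨z, h.z_mem⟩ := by
  refine le_antisymm ?_ ?_
  · rw [commutator_eq_closure, closure_le]
    rintro _ ⟨a, b, rfl⟩
    rcases h.commutator_or a.2 b.2 with e | e
    · rw [show ⁅a, b⁆ = 1 from Subtype.ext e]; exact one_mem _
    · rw [show ⁅a, b⁆ = ⟨z, h.z_mem⟩ from Subtype.ext e]; exact mem_zpowers _
  · obtain ⟨x, hx, y, hy, e⟩ := h.exists_pair
    rw [zpowers_le, show (⟨z, h.z_mem⟩ : E) = ⁅(⟨x, hx⟩ : E), ⟨y, hy⟩⁆ from
      Subtype.ext (h.commutator_eq hx hy e).symm]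
    exact commutator_mem_commutator (mem_top _) (mem_top _)

theorem mkW_eq_zero (h : ES E z) {g : G} (hg : g ∈ E) : mkW E g = 0 ↔ g = 1 ∨ g = z := by
  rw [mkW_eq hg, ofMul_eq_zero]
  change (QuotientGroup.mk ⟨g, hg⟩ : E ⧸ commutator E) = 1 ↔ _
  rw [QuotientGroup.eq_one_iff, comm_eq h, mem_zpowers_iff_of_sq (Subtype.ext h.z_sq)]
  simp [Subtype.ext_iff]

theorem mkW_two (h : ES E z) (w : WW E) : w + w = 0 := by
  obtain ⟨g, hg, rfl⟩ := mkW_surj w
  rw [← mkW_mul hg hg, mkW_eq_zero h (mul_mem hg hg)]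
  exact h.sq hg

theorem mkW_eq_iff (h : ES E z) {x y : G} (hx : x ∈ E) (hy : y ∈ E) :
    mkW E x = mkW E y ↔ x = y ∨ x = y * z := by
  have e : mkW E x = mkW E y + mkW E (y⁻¹ * x) := by
    rw [← mkW_mul hy (mul_mem (inv_mem hy) hx), mul_inv_cancel_left]
  rw [e, add_eq_left, mkW_eq_zero h (mul_mem (inv_mem hy) hx), inv_mul_eq_one, inv_mul_eq_iff_eq_mul, eq_comm]

theorem acW_z (h : ES E z) (hz : z ∈ 𝒩(E)) : acW E z = 1 :=
  acW_ext fun g hg => by rw [acW_mk hz hg, conj_eq_iff_commute.2 (h.z_comm g hg)]; rfl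

open Classical in
/-- the commutator form -/
def Bf (x y : G) : ℕ := if Commute x y then 0 else 1

theorem mul_eq_Bf (h : ES E z) {x y : G} (hx : x ∈ E) (hy : y ∈ E) : x * y = y * x * z ^ Bf x y := by
  unfold Bf
  split_ifs with c
  · rw [pow_zero, mul_one, c.eq]
  · rw [pow_one, h.not_commute hx hy c]

theorem Bf_congr {x y x' y' : G} (h : Commute x y ↔ Commute x' y') : Bf x y = Bf x' y' := by
  unfold Bf
  by_cases c : Commute x y
  · rw [if_pos c, if_pos (h.1 c)]
  · rw [if_neg c, if_neg (mt h.2 c)]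

theorem Bf_conj (g x y : G) : Bf (g * x * g⁻¹) (g * y * g⁻¹) = Bf x y := Bf_congr commute_conj_iff

theorem Bf_comm (x y : G) : Bf x y = Bf y x := Bf_congr Commute.symm_iff

theorem Bf_lt (x y : G) : Bf x y < 2 := by unfold Bf; split_ifs <;> norm_num

theorem Bf_mul (h : ES E z) {x y w : G} (hx : x ∈ E) (hy : y ∈ E) (hw : w ∈ E) :
    Bf (x * y) w % 2 = (Bf x w + Bf y w) % 2 := by
  have := h.mul_commute_iff hx hy hw
  unfold Bf
  by_cases a : Commute x w <;> by_cases b : Commute y w <;> by_cases c : Commute (x * y) w <;> simp_all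

theorem Bf_z (h : ES E z) {x w : G} (hw : w ∈ E) (k : ℕ) : Bf (x * z ^ k) w = Bf x w := by
  have := (h.z_comm w hw).pow_left k
  exact Bf_congr ⟨fun c => by simpa using c.mul_left this.inv_left, fun c => c.mul_left this⟩

theorem zpow_mod {z : G} (h : z * z = 1) {a b : ℕ} (e : a % 2 = b % 2) : z ^ a = z ^ b := by
  rw [pow_eq_pow_mod a (show z ^ 2 = 1 by rw [pow_two, h]), e, ← pow_eq_pow_mod b (by rw [pow_two, h])]

theorem mod_of_zpow {z : G} (h : z * z = 1) (h1 : z ≠ 1) {a b : ℕ} (e : z ^ a = z ^ b) : a % 2 = b % 2 := by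
  have h2 : z ^ 2 = 1 := by rw [pow_two, h]
  rw [pow_eq_pow_mod a h2, pow_eq_pow_mod b h2] at e
  rcases Nat.mod_two_eq_zero_or_one a with x | x <;> rcases Nat.mod_two_eq_zero_or_one b with y | y <;>
    simp_all [eq_comm (a := (1 : G))]

end

theorem cjm (a b c : G) : a * (b * c) * a⁻¹ = a * b * a⁻¹ * (a * c * a⁻¹) := conj_mul.symm

namespace Pre

variable {z ρ : G} {E : Subgroup G} {π : G → Perm Pt}

/-- the norm for the action of the element of order three -/
def nrm (ρ e : G) : G := e * (ρ * e * ρ⁻¹) * (ρ * (ρ * e * ρ⁻¹) * ρ⁻¹)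

theorem cj3 (H : Pre z ρ E π) (e : G) : ρ * (ρ * (ρ * e * ρ⁻¹) * ρ⁻¹) * ρ⁻¹ = e := by
  rw [show ρ * (ρ * (ρ * e * ρ⁻¹) * ρ⁻¹) * ρ⁻¹ = ρ ^ 3 * e * (ρ ^ 3)⁻¹ by
    simp only [pow_succ, pow_zero, one_mul]; group, H.ρ_cube]; simp

theorem cρ (H : Pre z ρ E π) {e : G} (he : e ∈ E) : ρ * e * ρ⁻¹ ∈ E := conj_mem_of_mem_norm (H.norm ρ H.zρ) he

theorem nrm_mem (H : Pre z ρ E π) {e : G} (he : e ∈ E) : nrm ρ e = 1 ∨ nrm ρ e = z := by
  have h1 := H.cρ he
  have h2 := H.cρ h1
  have hx : nrm ρ e ∈ E := mul_mem (mul_mem he h1) h2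
  refine H.fpf _ hx (conj_eq_iff_commute.1 ?_).symm
  have e1 : mkW E (ρ * nrm ρ e * ρ⁻¹) = mkW E (nrm ρ e) := by
    rw [show ρ * nrm ρ e * ρ⁻¹ = (ρ * e * ρ⁻¹) * (ρ * (ρ * e * ρ⁻¹) * ρ⁻¹) *
      (ρ * (ρ * (ρ * e * ρ⁻¹) * ρ⁻¹) * ρ⁻¹) by unfold nrm; group, H.cj3, nrm, mkW_mul (mul_mem h1 h2) he,
      mkW_mul (mul_mem he h1) h2, mkW_mul h1 h2, mkW_mul he h1]
    abel
  refine ((mkW_eq_iff H.es (H.cρ hx) hx).1 e1).resolve_right fun e2 => ?_
  have e3 := H.cj3 (nrm ρ e)
  have cz : ρ * z * ρ⁻¹ = z := conj_eq_iff_commute.2 H.zρ.symm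
  rw [e2, cjm ρ (nrm ρ e) z, e2, cz, mul_assoc (nrm ρ e), H.es.z_sq, mul_one, e2, mul_eq_left] at e3
  exact H.es.z_ne e3

theorem nrm_z (H : Pre z ρ E π) {e : G} (he : e ∈ E) (k : ℕ) : nrm ρ (e * z ^ k) = nrm ρ e * z ^ k := by
  have cz : ρ * z ^ k * ρ⁻¹ = z ^ k := conj_eq_iff_commute.2 (H.zρ.pow_left k).symm
  have c1 := ((H.es.z_comm _ (H.cρ he)).pow_left k).eq
  have c2 := ((H.es.z_comm _ (H.cρ (H.cρ he))).pow_left k).eq
  unfold nrm
  rw [cjm ρ e, cz, cjm ρ _ (z ^ k), cz]
  generalize ρ * (ρ * e * ρ⁻¹) * ρ⁻¹ = e2 at *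
  generalize ρ * e * ρ⁻¹ = e1 at *
  rw [show e * z ^ k * (e1 * z ^ k) * (e2 * z ^ k) = e * (z ^ k * e1) * (z ^ k * e2) * z ^ k by group, c1, c2,
    show e * (e1 * z ^ k) * (e2 * z ^ k) * z ^ k = e * e1 * (z ^ k * e2) * (z ^ k * z ^ k) by group, c2,
    ← (Commute.refl z).mul_pow, H.es.z_sq]
  simp [mul_assoc]

theorem eq_of_nrm (H : Pre z ρ E π) {x y : G} (hx : x ∈ E) (hy : y ∈ E) (h : mkW E x = mkW E y)
    (h1 : nrm ρ x = 1) (h2 : nrm ρ y = 1) : x = y := by
  refine ((mkW_eq_iff H.es hx hy).1 h).resolve_right fun e => ?_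
  have := H.nrm_z hy 1
  rw [pow_one, ← e, h1, h2, one_mul] at this
  exact H.es.z_ne this.symm

theorem nrm_mul (H : Pre z ρ E π) {x y : G} (hx : x ∈ E) (hy : y ∈ E) (h1 : nrm ρ x = 1) (h2 : nrm ρ y = 1) :
    nrm ρ (x * y) = z ^ Bf (ρ * (ρ * x * ρ⁻¹) * ρ⁻¹) y := by
  have x1 := H.cρ hx
  have x2 := H.cρ x1
  have y1 := H.cρ hy
  have y2 := H.cρ y1
  have b := Bf_conj ρ y (ρ * x * ρ⁻¹)
  unfold nrm at *
  rw [cjm ρ x, cjm ρ (ρ * x * ρ⁻¹)]
  generalize ρ * (ρ * x * ρ⁻¹) * ρ⁻¹ = x'' at *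
  generalize ρ * (ρ * y * ρ⁻¹) * ρ⁻¹ = y'' at *
  generalize ρ * x * ρ⁻¹ = x' at *
  generalize ρ * y * ρ⁻¹ = y' at *
  have c : ∀ k, ∀ g ∈ E, z ^ k * g = g * z ^ k := fun k g hg => ((H.es.z_comm g hg).pow_left k).eq
  rw [show x * y * (x' * y') * (x'' * y'') = x * (y * x') * (y' * x'') * y'' by group, mul_eq_Bf H.es hy x1,
    mul_eq_Bf H.es y1 x2, b, show x * (x' * y * z ^ Bf y x') * (x'' * y' * z ^ Bf y x') * y'' =
      x * x' * y * (z ^ Bf y x' * (x'' * y')) * z ^ Bf y x' * y'' by group, c _ _ (mul_mem x2 y1),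
    show x * x' * y * (x'' * y' * z ^ Bf y x') * z ^ Bf y x' * y'' =
      x * x' * (y * x'') * y' * (z ^ Bf y x' * z ^ Bf y x') * y'' by group, ← (Commute.refl z).mul_pow,
    H.es.z_sq, one_pow, mul_one, mul_eq_Bf H.es hy x2, show x * x' * (x'' * y * z ^ Bf y x'') * y' * y'' =
      x * x' * x'' * y * (z ^ Bf y x'' * (y' * y'')) by group, c _ _ (mul_mem y1 y2), h1, one_mul, ← mul_assoc,
    ← mul_assoc, h2, one_mul, Bf_comm]

theorem sq_of_nrm (H : Pre z ρ E π) {x : G} (hx : x ∈ E) (h1 : nrm ρ x = 1) :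
    x * x = z ^ Bf (ρ * (ρ * x * ρ⁻¹) * ρ⁻¹) (ρ * x * ρ⁻¹) := by
  have h := H.nrm_mul hx hx h1 h1
  have b := Bf_conj ρ (ρ * (ρ * x * ρ⁻¹) * ρ⁻¹) x
  have b' := Bf_conj ρ (ρ * x * ρ⁻¹) x
  rw [H.cj3] at b
  rw [b', Bf_comm, b, ← h]
  rcases H.es.sq hx with e | e <;> rw [e]
  · simp [nrm]
  · have := H.nrm_z (one_mem E) 1
    simpa [nrm] using this.symm

theorem nrm_conj {n x : G} (hn : Commute n ρ) (h1 : nrm ρ x = 1) :
    nrm ρ (n * x * n⁻¹) = 1 := by
  have c : ∀ y, ρ * (n * y * n⁻¹) * ρ⁻¹ = n * (ρ * y * ρ⁻¹) * n⁻¹ := fun y => by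
    rw [show ρ * (n * y * n⁻¹) * ρ⁻¹ = (ρ * n) * y * (ρ * n)⁻¹ by group, ← hn.eq]; group
  unfold nrm at *
  rw [c, c, conj_mul, conj_mul, h1]; simp

theorem nrm_conj' (H : Pre z ρ E π) {n x : G} (hz : Commute z n) (hn : n * ρ * n⁻¹ = ρ ^ 2) (hx : x ∈ E)
    (h1 : nrm ρ x = 1) : nrm ρ (n * x * n⁻¹) = x * x := by
  have e : ρ * n = n * (ρ * ρ) := by
    have : n * ρ ^ 2 * n⁻¹ = ρ := by rw [← conj_pow, hn, H.ρ4]
    rw [← pow_two, ← mul_inv_eq_iff_eq_mul.1 this]
  have c : ∀ y, ρ * (n * y * n⁻¹) * ρ⁻¹ = n * (ρ * (ρ * y * ρ⁻¹) * ρ⁻¹) * n⁻¹ := fun y => by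
    rw [show ρ * (n * y * n⁻¹) * ρ⁻¹ = (ρ * n) * y * (ρ * n)⁻¹ by group, e]; group
  rw [H.sq_of_nrm hx h1]
  unfold nrm at *
  rw [c, c, H.cj3, conj_mul, conj_mul, mul_assoc x, mul_eq_Bf H.es (H.cρ (H.cρ hx)) (H.cρ hx), ← mul_assoc x,
    ← mul_assoc x, h1, one_mul]
  exact conj_eq_iff_commute.2 (hz.pow_left _).symm

theorem hyp [Finite G] (H : Pre z ρ E π) : ∃ a b t u : G, Commute z a ∧ Commute z t ∧ Commute z u ∧
    Commute a ρ ∧ Commute t ρ ∧ u * ρ * u⁻¹ = ρ ^ 2 ∧ π a = perm ca ∧ π t = perm ct ∧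
    π u = perm cu ∧ Hyp (acW E ρ) (acW E a) (acW E b) (acW E t) (acW E u) := by
  obtain ⟨a, b, t, u, a1, b1, t1, u1, a2, b2, t2, u2, a3, t3, u3, r1, r2, r3, r4, r5, r6, r7, r8⟩ := H.gens
  refine ⟨a, b, t, u, a1, t1, u1, a2, t2, u2, a3, t3, u3, ?_⟩
  have na := H.norm a a1
  have nb := H.norm b b1
  have nt := H.norm t t1
  have nu := H.norm u u1
  have nr := H.norm ρ H.zρ
  have nz := H.norm z (Commute.refl z)
  have az := acW_z H.es nz
  have cm : ∀ x y, x ∈ 𝒩(E) → y ∈ 𝒩(E) → x * y = y * x → Commute (acW E x) (acW E y) := fun x y hx hy h => by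
    change _ * _ = _ * _
    rw [← acW_mul hx hy, h, acW_mul hy hx]
  have sc : ∀ n, Commute z n → Commute n ρ → π n = 1 → ∃ i, acW E n = acW E ρ ^ i := fun n h1 h2 h3 => by
    obtain ⟨i, rfl | rfl⟩ := H.ker_NP (NP.of_comm h1 h2) h3
    · exact ⟨i, acW_pow nr i⟩
    · exact ⟨i, by rw [acW_mul nz (pow_mem nr i), az, one_mul, acW_pow nr]⟩
  have ia := ca_in.mono M22_le_DD
  have it := ct_in.mono M22_le_DD
  refine ⟨mkW_two H.es, ?_, fun w => ?_, cm _ _ nr na a2.symm, cm _ _ nr nb b2.symm, cm _ _ nr nt t2.symm,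
    ?_, ?_, ?_, ?_, ?_, ?_, ?_, ?_, ?_, ?_, cm _ _ nu nb r7, ?_, ?_⟩
  · have := card_eq_card_quotient_mul_card_subgroup (commutator E)
    rw [H.card, comm_eq H.es, Nat.card_zpowers, ← orderOf_coe, H.es.orderOf_z, ← comm_eq H.es] at this
    change Nat.card (E ⧸ commutator E) = 4096
    omega
  · obtain ⟨g, hg, rfl⟩ := mkW_surj w
    have := (mkW_eq_zero H.es (mul_mem (mul_mem hg (H.cρ hg)) (H.cρ (H.cρ hg)))).2 (H.nrm_mem hg)
    rw [mkW_mul (mul_mem hg (H.cρ hg)) (H.cρ (H.cρ hg)), mkW_mul hg (H.cρ hg)] at this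
    rw [acW_mk nr hg, acW_mk nr (H.cρ hg), add_comm]
    exact (eq_neg_of_add_eq_zero_right this).trans (neg_eq_of_add_eq_zero_left (mkW_two H.es _))
  · rw [← acW_pow nr, ← acW_mul nu nr, ← acW_mul (pow_mem nr 2) nu, ← u2, inv_mul_cancel_right]
  · rw [← acW_pow na, r1, acW_one]
  · intro h
    obtain ⟨g, hg, e⟩ := H.es.exists_mul_cent a1.symm (c := a) fun x hx =>
      (mkW_eq_iff H.es (conj_mem_of_mem_norm na hx) hx).1 (by rw [← acW_mk na hx, h]; rfl)
    have h1 := H.faith _ ((H.es.z_comm g hg).inv_right.mul_right a1) e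
    have h2 : π a = 1 := (H.π_ker a a1).2 ⟨a, by simpa using mul_mem hg h1, 0, by simp⟩
    have := orderOf_ca
    rw [← a3, h2, orderOf_one] at this
    omega
  · rw [← acW_pow nb, r2, acW_one]
  · rw [← acW_pow na, ← acW_mul nb na, r3, acW_mul (pow_mem na 4) nb]
  · rw [← acW_pow nt]
    rcases r4 with h | h <;> rw [h]
    · exact acW_one
    · exact az
  · rw [← acW_pow nb, ← acW_mul nt nb, r5, acW_mul (pow_mem nb 2) nt]
  · rw [← acW_mul na nt, ← acW_pow (mul_mem na nt)]
    refine sc _ ((a1.mul_right t1).pow_right _) ((a2.mul_left t2).pow_left _) (code_inj ?_)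
    rw [H.π_pow (a1.mul_right t1), H.π_mul _ _ a1 t1, a3, t3, ← ppow_code, ← pmul_code, ia.code_perm,
      it.code_perm, code_one]
    decide +kernel
  · rw [← acW_pow na, ← acW_mul (pow_mem na 2) nt, ← acW_pow (mul_mem (pow_mem na 2) nt)]
    refine sc _ (((a1.pow_right 2).mul_right t1).pow_right _) (((a2.pow_left 2).mul_left t2).pow_left _)
      (code_inj ?_)
    rw [H.π_pow ((a1.pow_right 2).mul_right t1), H.π_mul _ _ (a1.pow_right 2) t1, H.π_pow a1, a3, t3,
      ← ppow_code, ← pmul_code, ← ppow_code, ia.code_perm, it.code_perm, code_one]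
    decide +kernel
  · rw [← acW_pow na, ← acW_mul nu na, r6, acW_mul (pow_mem na 10) nu]
  · rcases r8 with h | h
    · exact cm _ _ nu nt h
    · change _ * _ = _ * _
      rw [← acW_mul nu nt, h, acW_mul nz (mul_mem nt nu), az, one_mul, acW_mul nt nu]
  · refine Function.LeftInverse.injective (g := acW E u⁻¹) fun w => ?_
    change (acW E u⁻¹ * acW E u) w = w
    rw [← acW_mul (inv_mem nu) nu, inv_mul_cancel, acW_one]; rfl

theorem model {a t u : G} (H : Pre z ρ E π) [Finite G] (a1 : Commute z a) (t1 : Commute z t) (u1 : Commute z u)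
    (a2 : Commute a ρ) (t2 : Commute t ρ) (u2 : u * ρ * u⁻¹ = ρ ^ 2) (a3 : π a = perm ca) (t3 : π t = perm ct)
    (u3 : π u = perm cu) {f : ℕ → WW E} (hf : Co f) (hO : Act f (acW E ρ) mO) (hA : Act f (acW E a) mA)
    (hT : Act f (acW E t) mT) (hU : Act f (acW E u) mU) : ∃ X : HM G, X.z = z ∧ X.ρ = ρ := by
  classical
  have ex : ∀ v, ∃ x, x ∈ E ∧ mkW E x = f v ∧ nrm ρ x = 1 := fun v => by
    obtain ⟨g, hg, e⟩ := mkW_surj (f v)
    rcases H.nrm_mem hg with h | h
    · exact ⟨g, hg, e, h⟩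
    · refine ⟨g * z ^ 1, mul_mem hg (pow_mem H.es.z_mem 1), ?_, by rw [H.nrm_z hg, h, pow_one, H.es.z_sq]⟩
      rw [← e, mkW_eq_iff H.es (mul_mem hg (pow_mem H.es.z_mem 1)) hg, pow_one]
      exact Or.inr rfl
  choose s s1 s2 s3 using ex
  have zk : ∀ k, z ^ k ∈ E := pow_mem H.es.z_mem
  have mz : ∀ x ∈ E, ∀ k, mkW E (x * z ^ k) = mkW E x := fun x hx k => by
    rw [mkW_mul hx (zk k), add_eq_left, mkW_eq_zero H.es (zk k), ← H.es.mem_zpowers]
    exact pow_mem (mem_zpowers z) k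
  have zz : ∀ k, z ^ k * z ^ k = 1 := fun k => by rw [← (Commute.refl z).mul_pow, H.es.z_sq, one_pow]
  have id : ∀ x ∈ E, ∀ v k, mkW E x = f v → nrm ρ x = z ^ k → x = s v * z ^ k := fun x hx v k h1 h2 => by
    rw [← H.eq_of_nrm (mul_mem hx (zk k)) (s1 v) (by rw [mz x hx, h1, s2]) (by rw [H.nrm_z hx, h2, zz]) (s3 v),
      mul_assoc, zz, mul_one]
  have ac : ∀ n m, Commute z n → Act f (acW E n) m → ∀ v < 4096, mkW E (n * s v * n⁻¹) = f (ap m v) :=
    fun n m h1 h2 v hv => by rw [← acW_mk (H.norm n h1) (s1 v), s2, (h2 v hv).2]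
  have inn : ∀ n m, Commute z n → Commute n ρ → Act f (acW E n) m → ∀ v < 4096, n * s v * n⁻¹ = s (ap m v) :=
    fun n m h1 h2 h3 v hv => by
      simpa using id _ (conj_mem_of_mem_norm (H.norm n h1) (s1 v)) _ 0 (ac n m h1 h3 v hv)
        (by rw [nrm_conj h2 (s3 v), pow_zero])
  let q : ℕ → ℕ := fun v => if s v * s v = 1 then 0 else 1
  have hq : ∀ v, s v * s v = z ^ q v := fun v => by
    simp only [q]
    split_ifs with h
    · rw [h, pow_zero]
    · rw [pow_one]; exact (H.es.sq (s1 v)).resolve_left h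
  have out : ∀ v < 4096, u * s v * u⁻¹ = s (ap mU v) * z ^ q v := fun v hv =>
    id _ (conj_mem_of_mem_norm (H.norm u u1) (s1 v)) _ _ (ac u _ u1 hU v hv)
      (by rw [H.nrm_conj' u1 u2 (s1 v) (s3 v), hq])
  have rr := inn ρ mO H.zρ (Commute.refl ρ) hO
  have mul : ∀ v < 4096, ∀ w < 4096, s v * s w = s (v ^^^ w) * z ^ Bf (s (ap mO2 v)) (s w) := fun v hv w hw => by
    refine id _ (mul_mem (s1 v) (s1 w)) _ _ (by rw [mkW_mul (s1 v) (s1 w), s2, s2, hf.xor]) ?_
    rw [H.nrm_mul (s1 v) (s1 w) (s3 v) (s3 w), rr v hv, rr _ (ap_lt _ _), ← ap_mm _ _ hv,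
      show mm mO mO = mO2 by decide +kernel]
  have sqz : ∀ x ∈ E, ∀ k, x * z ^ k * (x * z ^ k) = x * x := fun x hx k => by
    rw [mul_assoc, ← mul_assoc (z ^ k), ((H.es.z_comm x hx).pow_left k).eq, mul_assoc x (z ^ k), zz, mul_one]
  have qx : ∀ v < 4096, ∀ w < 4096, q (v ^^^ w) % 2 = (q v + q w + Bf (s w) (s v)) % 2 := fun v hv w hw => by
    refine mod_of_zpow H.es.z_sq H.es.z_ne ?_
    rw [← hq, ← sqz _ (s1 _), ← mul v hv w hw, show s v * s w * (s v * s w) = s v * (s w * s v) * s w by group,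
      mul_eq_Bf H.es (s1 w) (s1 v), pow_add, pow_add, ← hq, ← hq]
    have := ((H.es.z_comm _ (s1 w)).pow_left (Bf (s w) (s v))).eq
    simp only [mul_assoc, this]
  have bx : ∀ v < 4096, ∀ w < 4096, ∀ y ∈ E, Bf (s (v ^^^ w)) y % 2 = (Bf (s v) y + Bf (s w) y) % 2 :=
    fun v hv w hw y hy => by rw [← Bf_mul H.es (s1 v) (s1 w) hy, mul v hv w hw, Bf_z H.es hy]
  have ql : ∀ v, q v < 2 := fun v => by simp only [q]; split_ifs <;> norm_num
  have cub : ∀ x < 4096, ∀ y < 4096, ∀ w < 4096,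
      (q (w ^^^ (x ^^^ y)) + q (x ^^^ y) + q (w ^^^ x) + q (w ^^^ y) + q x + q y + q w) % 2 = 0 := by
    intro x hx y hy w hw
    have := qx w hw _ (xor_lt hx hy)
    have := qx w hw x hx
    have := qx w hw y hy
    have := qx y hy x hx
    have := bx x hx y hy _ (s1 w)
    omega
  have qinv : ∀ n v w k, Commute z n → n * s v * n⁻¹ = s w * z ^ k → q w = q v := fun n v w k h1 h2 => by
    have := mod_of_zpow H.es.z_sq H.es.z_ne (a := q w) (b := q v) (by
      rw [← hq, ← sqz _ (s1 w), ← h2, conj_mul, hq, conj_eq_iff_commute.2 (h1.pow_left _).symm])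
    have := ql v
    have := ql w
    omega
  have qo := orb_ind (fun v r => q v = q r) (fun _ => rfl) (by
    intro m hm v hv r h
    rw [← h]
    simp only [List.mem_cons, List.not_mem_nil, or_false] at hm
    rcases hm with rfl | rfl | rfl | rfl
    · exact (qinv a v _ 0 a1 (by rw [inn a _ a1 a2 hA v hv]; simp)).symm
    · exact (qinv t v _ 0 t1 (by rw [inn t _ t1 t2 hT v hv]; simp)).symm
    · exact (qinv u v _ _ u1 (out v hv)).symm
    · exact (qinv ρ v _ 0 H.zρ (by rw [rr v hv]; simp)).symm)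
  have s0 : s 0 = 1 := H.eq_of_nrm (s1 0) (one_mem E)
    (by rw [s2, hf.zero, eq_comm, mkW_eq_zero H.es (one_mem E)]; exact Or.inl rfl) (s3 0) (by simp [nrm])
  have q0 : q 0 = 0 := by simp [q, s0]
  have q7 : q 7 = 0 := by
    have := cub 3459 (by norm_num) 1578 (by norm_num) 3105 (by norm_num)
    rw [qo _ (by decide), qo (3459 ^^^ 1578) (by decide), qo (3105 ^^^ 3459) (by decide), qo (3105 ^^^ 1578) (by decide),
      qo 3459 (by decide), qo 1578 (by decide), qo 3105 (by decide)] at this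
    revert this
    have := ql 1; have := ql 7; have := ql 11
    rw [show getL [0, 1, 7, 11] 0 (olab (3105 ^^^ (3459 ^^^ 1578))) = 1 by decide +kernel, show getL [0, 1, 7, 11] 0 (olab (3459 ^^^ 1578)) = 11 by decide +kernel, show getL [0, 1, 7, 11] 0 (olab (3105 ^^^ 3459)) = 7 by decide +kernel, show getL [0, 1, 7, 11] 0 (olab (3105 ^^^ 1578)) = 1 by decide +kernel, show getL [0, 1, 7, 11] 0 (olab 3459) = 1 by decide +kernel, show getL [0, 1, 7, 11] 0 (olab 1578) = 1 by decide +kernel, show getL [0, 1, 7, 11] 0 (olab 3105) = 11 by decide +kernel]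
    omega
  have q11 : q 11 = 0 := by
    have := cub 1061 (by norm_num) 3955 (by norm_num) 2095 (by norm_num)
    rw [qo _ (by decide), qo (1061 ^^^ 3955) (by decide), qo (2095 ^^^ 1061) (by decide), qo (2095 ^^^ 3955) (by decide),
      qo 1061 (by decide), qo 3955 (by decide), qo 2095 (by decide)] at this
    revert this
    have := ql 1; have := ql 7; have := ql 11
    rw [show getL [0, 1, 7, 11] 0 (olab (2095 ^^^ (1061 ^^^ 3955))) = 11 by decide +kernel, show getL [0, 1, 7, 11] 0 (olab (1061 ^^^ 3955)) = 7 by decide +kernel, show getL [0, 1, 7, 11] 0 (olab (2095 ^^^ 1061)) = 11 by decide +kernel, show getL [0, 1, 7, 11] 0 (olab (2095 ^^^ 3955)) = 11 by decide +kernel, show getL [0, 1, 7, 11] 0 (olab 1061) = 1 by decide +kernel, show getL [0, 1, 7, 11] 0 (olab 3955) = 1 by decide +kernel, show getL [0, 1, 7, 11] 0 (olab 2095) = 7 by decide +kernel]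
    omega
  have dec : ∀ x ∈ E, ∃ v < 4096, ∃ k : ℕ, x = s v * z ^ k := fun x hx => by
    obtain ⟨v, hv, e⟩ := hf.surj (mkW E x)
    rcases (mkW_eq_iff H.es hx (s1 v)).1 (by rw [s2, e]) with h | h
    · exact ⟨v, hv, 0, by simpa using h⟩
    · exact ⟨v, hv, 1, by simpa using h⟩
  have ol : ∀ v < 4096, q v = qq v * q 1 := fun v hv => by
    have c := allV (by decide +kernel : allP (fun v => Nat.beq (qq v) (bif' (Nat.beq (olab v) 1) 1 0)) 12 0 = true) hv
    rw [beq_iff] at c
    rw [qo v hv, c]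
    have : olab v < 4 := Nat.lt_succ_of_le Nat.and_le_right
    generalize olab v = k at *
    interval_cases k
    · exact q0.trans (zero_mul _).symm
    · exact (one_mul _).symm
    · exact q7.trans (zero_mul _).symm
    · exact q11.trans (zero_mul _).symm
  have q1 : q 1 = 1 := by
    by_contra h
    have h0 : q 1 = 0 := by have := ql 1; omega
    obtain ⟨x, hx, y, hy, e⟩ := H.es.exists_pair
    obtain ⟨v, hv, i, rfl⟩ := dec x hx
    obtain ⟨w, hw, j, rfl⟩ := dec y hy
    have := qx w hw v hv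
    rw [ol _ (xor_lt hw hv), ol v hv, ol w hw, h0, ← Bf_z H.es (s1 w) i, Bf_comm, ← Bf_z H.es hx j, Bf_comm,
      Bf, if_neg e] at this
    omega
  have qe : ∀ v < 4096, q v = qq v := fun v hv => by rw [ol v hv, q1, mul_one]
  have sa : sg ca = 0 := by decide +kernel
  have st : sg ct = 0 := by decide +kernel
  have su : sg cu = 1 := by decide +kernel
  have s1' : sg pone = 0 := by decide +kernel
  have πE : ∀ x ∈ E, π x = 1 := fun x hx => (H.π_ker x (H.es.z_comm x hx)).2 ⟨x, hx, 0, by simp⟩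
  refine ⟨⟨⟨z, ρ, s, π⟩, H.es.z_ne, H.es.z_sq, H.ρ3, fun v => H.es.z_comm _ (s1 v), fun v hv w hw => ?_,
    fun v hv h => hf.inj v hv (by rw [← s2, mkW_eq_zero H.es (s1 v)]; exact h), H.π_mul, H.π_mem,
    fun g h1 h2 => ?_, fun v => πE _ (s1 v), πE _ H.es.z_mem, fun g h1 h2 => ?_,
    ⟨H.zρ, by simp [s1'], ?_, by decide +kernel, fun v hv => by simp [s1', rr v hv]⟩,
    ⟨a, a1, by simp [sa, a2.eq], (congrArg code a3).trans ca_in.code_perm, by decide +kernel, fun v hv => by
      simp [sa, inn a _ a1 a2 hA v hv]⟩,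
    ⟨t, t1, by simp [st, t2.eq], (congrArg code t3).trans ct_in.code_perm, by decide +kernel, fun v hv => by
      simp [st, inn t _ t1 t2 hT v hv]⟩,
    ⟨u, u1, by simp [su, u2], (congrArg code u3).trans cu_in.code_perm, by decide +kernel, fun v hv => by
      simp [su, out v hv, qe v hv]⟩⟩, rfl, rfl⟩
  · rw [mul v hv w hw]
    congr 1
    refine zpow_mod H.es.z_sq ?_
    have := qx _ (ap_lt mO2 v) w hw
    rw [bet_eq, bb_mod, ← qe _ (xor_lt (ap_lt _ _) hw), ← qe _ (ap_lt _ _), ← qe w hw, Bf_comm]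
    omega
  · obtain ⟨e, he, i, rfl⟩ := (H.π_ker g h1).1 h2
    obtain ⟨v, hv, k, rfl⟩ := dec e he
    exact ⟨v, hv, i, k, by rw [mul_assoc, ((H.zρ.pow_left k).pow_right i).eq, mul_assoc]⟩
  · obtain ⟨x, hx, e⟩ := H.es.exists_mul_cent h1.symm (c := g) fun x hx => by
      obtain ⟨v, hv, k, rfl⟩ := dec x hx
      rw [cjm, conj_eq_iff_commute.2 (h1.pow_left k).symm]
      rcases h2 v hv with h | h <;> change g * s v * g⁻¹ = _ at h <;> rw [h]
      · exact Or.inl rfl
      · exact Or.inr (by rw [mul_assoc, mul_assoc, ← pow_succ, ← pow_succ'])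
    have h3 := H.faith _ ((H.es.z_comm x hx).inv_right.mul_right h1) e
    exact dec g (by simpa using mul_mem hx h3)
  · change code (π ρ) = _
    rw [(H.π_ker ρ H.zρ).2 ⟨1, one_mem _, 1, by simp⟩, code_one]

end Pre

theorem exists_HM [Finite G] {z : G} {P : Subgroup G} (hJ : IsOfJankoFourTypeWith z P) :
    ∃ X : HM G, X.z = z ∧ P = zpowers X.ρ ∧ X.ρ ∈ ⁅𝒞[z] ⊓ 𝒞[X.ρ], 𝒞[z] ⊓ 𝒞[X.ρ]⁆ := by
  obtain ⟨ρ, E, π, H, rfl⟩ := exists_pre hJ
  obtain ⟨a, b, t, u, a1, t1, u1, a2, t2, u2, a3, t3, u3, h⟩ := H.hyp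
  obtain ⟨k, hk, f, hf, hO, hA, -, hT, i, hU⟩ := h.main
  have nr := H.norm ρ H.zρ
  rw [← acW_pow nr] at hO hU
  rw [← acW_mul (pow_mem nr i) (H.norm u u1)] at hU
  have c1 := (H.zρ.pow_right i).mul_right u1
  have c2 : ρ ^ i * u * ρ * (ρ ^ i * u)⁻¹ = ρ ^ 2 := by
    rw [show ρ ^ i * u * ρ * (ρ ^ i * u)⁻¹ = ρ ^ i * (u * ρ * u⁻¹) * (ρ ^ i)⁻¹ by group, u2]; group
  have c3 : π (ρ ^ i * u) = perm cu := by
    rw [H.π_mul _ _ (H.zρ.pow_right i) u1, (H.π_ker _ (H.zρ.pow_right i)).2 ⟨1, one_mem _, i, by simp⟩, one_mul, u3]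
  rcases hk with rfl | rfl
  · rw [pow_one] at hO
    obtain ⟨X, rfl, rfl⟩ := H.model a1 t1 c1 a2 t2 c2 a3 t3 c3 hf hO hA hT hU
    exact ⟨X, rfl, rfl, H.der⟩
  · obtain ⟨X, rfl, e⟩ := H.sq.model a1 t1 c1 (a2.pow_right 2) (t2.pow_right 2) (by rw [← conj_pow, c2]) a3 t3 c3
      hf hO hA hT hU
    refine ⟨X, rfl, ?_, e ▸ H.sq.der⟩
    rw [e]
    exact le_antisymm (zpowers_le.2 (H.ρ4.subst (motive := (· ∈ zpowers (ρ ^ 2))) (pow_mem (mem_zpowers _) 2))) (zpowers_le.2 (pow_mem (mem_zpowers _) 2))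

end

end CA.J4

theorem CA.J4.realizeEqnsJ4Setup : True := by
  have := @CA.J4.mO2.eq_1
  have := @CA.J4.mO2.eq_def
  have := @CA.J4.mO2.congr_simp
  have := @CA.J4.WW.eq_1.{0}
  have := @CA.J4.WW.eq_def.{0}
  have := @CA.J4.WW.congr_simp.{0}
  have := @CA.J4.bb.eq_1
  have := @CA.J4.bb.eq_def
  have := @CA.J4.bb.congr_simp
  have := @CA.J4.orbL.eq_1
  have := @CA.J4.orbL.eq_def
  have := @CA.J4.orbL.congr_simp
  have := @CA.J4.olab.eq_1
  have := @CA.J4.olab.eq_def
  have := @CA.J4.olab.congr_simp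
  have := @CA.J4.qq.eq_1
  have := @CA.J4.qq.eq_def
  have := @CA.J4.qq.congr_simp
  have := @CA.J4.HD.Rp.eq_1.{0}
  have := @CA.J4.HD.Rp.eq_def.{0}
  have := @CA.J4.HD.Rp.congr_simp.{0}
  have := @CA.J4.Pre.nrm.eq_1.{0}
  have := @CA.J4.Pre.nrm.eq_def.{0}
  have := @CA.J4.Pre.nrm.congr_simp.{0}
  have := @CA.J4.bet.eq_1
  have := @CA.J4.bet.eq_def
  have := @CA.J4.bet.congr_simp
  have := @CA.J4.mkW.eq_1.{0}
  have := @CA.J4.mkW.eq_def.{0}
  have := @CA.J4.mkW.congr_simp.{0}
  have := @CA.J4.sg.eq_1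
  have := @CA.J4.sg.eq_def
  have := @CA.J4.sg.congr_simp
  have := @CA.J4.QT.eq_1
  have := @CA.J4.QT.eq_def
  have := @CA.J4.QT.congr_simp
  have := @CA.J4.acW.eq_1.{0}
  have := @CA.J4.acW.eq_def.{0}
  have := @CA.J4.acW.congr_simp.{0}
  have := @CA.J4.Bf.eq_1.{0}
  have := @CA.J4.Bf.eq_def.{0}
  have := @CA.J4.Bf.congr_simp.{0}
  trivial
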