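import Cfsg.Agent.J4.Ct
import Cfsg.Agent.J4.Chow

/-! The elementary abelian subgroup of order 1024. -/

set_option autoImplicit false
set_option maxRecDepth 100000
set_option linter.unusedSectionVars false

namespace CA.J4

open CA.M24 CA.Fi CA.FG Cfsg Subgroup Equiv
open scoped commutatorElement Pointwise

noncomputable section

def m6 : ℕ := nat_lit 52420214828728557599
def m6i : ℕ := nat_lit 23926103924128532998197593773287931904
def ogens : List ℕ := [nat_lit 153911371790262271855410893599523886, nat_lit 596156437425590273809322117828414481]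
def ocert : List (ℕ × ℕ × List (List ℕ)) := [(0, 3, [[0, 1], [0, 0, 0, 1, 0, 0, 1, 1, 0, 0]]), (1, 2, [[1, 1, 0, 1, 1, 0, 1, 1, 1], [1, 1, 0, 0, 1, 0, 1, 1]]), (2, 2, [[1, 0, 0], [1, 1, 1, 0, 1]]), (3, 2, [[0, 0, 0, 1, 0, 0, 0, 1], [0, 0, 1, 1], [0, 0, 0, 0, 1, 1, 0]]), (5, 2, [[1, 2, 0], [1, 1, 2, 0, 2, 0, 2], [1, 2]]), (14, 1, [[2, 0, 0], [0, 0, 2, 1], [2, 2, 1, 1, 0], [0, 1, 2, 0]]), (4, 1, [])]
def aL : List ℕ := [nat_lit 249240395370767208648875616508153898, nat_lit 124691189833874358081759371879161903, nat_lit 167474552659906387002777752425209857]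
def abT : ℕ := nat_lit 0x212d16211d122d2124241d16122229282425161d1e1a25202d2221161a2521291d1129242625151911261d282e21211521112d25212c0d22111d242125251c0d25111128241516250e1a192124191c0c1618122425081e11220d15282c191a2116180e25240c1e112015192c291a121c2011152a25161620121d1925201814081c241818181820242e2d2818241d2c29282c18281a282c28261c18181a1a2418181e1c241c291c1d281828292c2e2a1c18282d2c2d2d14281c18201c251e14141010210d211e10121d2a21101d1a1d281424251421181820120e221d26091a14160d21192112161618242214211618241826211825141a241414210e1d1d0c0928101d201a28221d16162518151522211628201d28151d1c10111e25151a261c2520191622260c1521202a10211e12281c251019201c1512201d16241921240c16291420251a200919251e141d1e092014250e202910201519221d0e251c15191526220a211c141d14260a252518221419211d15211a051d1e25141c211a20051d21192418211d2408201c1c181c1c201c08241d2018242120181c181c182014202414211d240420181c141c181c181c241d2014202121181c181814181c1c0426201022201c161d24111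e102a151811251c1a212a1c152124121816240d1c1124181526241e1a212414181124111815241c1225241c0c212616141220111a0c180c180c1c2828240e190e19242620281e1c1c191d21261e1e15191c241d1d241920261d1e22221924211d251c1d1a18202828221219121c2820202a19081e08242024201410140d1c2525200e10120d1d1d1d21250e0d28211e1d212a140d21211d2122291209252121192426121124202426241214161120242422100c10092025202928252a252922292025282525192c192c1c1819202c1a2e1c1c15221d24252829202d202a252821282924291c191c191e192c1c2c1c1d1c1a281d2d1521202120162515212124211c1925152528252c2529192a1531262c25291629151d2425201a26112521222120152519252c252e29251529192c252d21281a28111e18191d1c20191e21221c14151d2020202219191818221e191a20201d211a1815111a112426191106110611151a2022202016191614161415151c2616001600211d2428212529251e1d2c2825292824221d282a25262a291d19282825252a292d2c24281c181c182d2e24261a181a182d2d2424181c181c292d202a1e141e142d28242828282a2c2121211d2121252218161a141e10141a1516151519111a1a1919191a191d19152929292529292925262525252125252415151516141a19110c1018202011101d0d1018211d0408201c1c052118250d1519201d0c1524001c1c11090d190c2c18181118142905041d2025151419002809080919141d292100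
def qE1 : ℕ := nat_lit 972512676110088067912772961567868960
def qE2 : ℕ := nat_lit 976448692869377735270425038196672544

/-- the permutations fixing the octad pointwise -/
def oa (k : ℕ) : ℕ := sn (uc k)
def sh6 (x : ℕ) : ℕ := Nat.shiftRight x (nat_lit 6)
def akChk (c L : ℕ) : Bool := band (chk c) (allP (fun x => force (ap L x) fun y => band (blt' y 1024)
  (band (Nat.beq (ap m6 y) (act c (ap m6 x))) (Nat.beq (pmul c (oa (sh6 x))) (pmul (oa (sh6 y)) c)))) 10 0)
def avChk (d L : ℕ) : Bool := band (blt' d 2048) (allP (fun x => force (ap L x) fun y => band (blt' y 1024)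
  (band (Nat.beq (ap m6 y) (Nat.xor (Nat.xor d (ap m6 x)) (act (oa (sh6 x)) d))) (Nat.beq (sh6 y) (sh6 x)))) 10 0)
def Lv (d : ℕ) : ℕ := bl fun i => bif' (blt' i 6) (Nat.pow 2 i) (bif' (blt' i 10)
  (Nat.xor (Nat.pow 2 i) (ap m6i (Nat.xor d (act (oa (Nat.pow 2 (Nat.sub i 6))) d)))) 0)
def ab (x : ℕ) : ℕ := pick abT 8 255 x
def aroot (x : ℕ) : ℕ := bif' (Nat.beq x 0) 0 (bif' (Dc x) (bif' (blt' x 64) 10 192) (bif' (blt' x 64) 33 194))

theorem oa_in : ∀ k < 16, InH M24 (oa k) := fun k hk => inM_of_chk ((by decide +kernel : ∀ k < 16, chk (oa k) = true) k hk)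
theorem oa_mul : ∀ k < 16, ∀ l < 16, pmul (oa k) (oa l) = oa (k ^^^ l) := by decide +kernel
theorem sh6_xor (a b : ℕ) : sh6 (a ^^^ b) = sh6 a ^^^ sh6 b := Nat.shiftRight_xor_distrib
theorem sh6_lt {x : ℕ} (h : x < 1024) : sh6 x < 16 := by
  change x >>> 6 < 16
  rw [Nat.shiftRight_eq_div_pow]; omega
theorem m6_lt (x : ℕ) : ap m6 x < 2048 := ap_lt11 (by decide +kernel) x
theorem oa_fix {k : ℕ} (hk : k < 16) {x : ℕ} (hx : x < 1024) : act (oa k) (ap m6 x) = ap m6 x := by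
  rw [beq_iff.1 (all10 (by decide +kernel : allP (fun x => Nat.beq (ap m6 x) (ap m6 (x % 64))) 10 0 = true) hx)]
  exact (by decide +kernel : ∀ k < 16, ∀ x < 64, act (oa k) (ap m6 x) = ap m6 x) k hk _ (Nat.mod_lt _ (by norm_num))

theorem perm_oa {k : ℕ} (hk : k < 16) {l : ℕ} (hl : l < 16) : perm (oa k) * perm (oa l) = perm (oa (k ^^^ l)) :=
  perm_rel (oa_in k hk) (oa_in l hl) (oa_mul k hk l hl)

theorem ogens_in : ∀ c ∈ ogens, InH (St (unmask O0)) c := fun c hc => by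
  have := allL_eq_true.1 (by decide +kernel : allL (fun c => band (chk c) (Nat.beq (mapp c O0) O0)) ogens = true) c hc
  simp only [band_eq_true, beq_iff] at this
  refine inH_inf_stab setC (inM_of_chk this.1) trivial ?_
  change mapp c (mask (unmask O0)) = mask (unmask O0)
  rw [mask_O0]; exact this.2

theorem St_le_gen : St (unmask O0) ≤ gen ogens :=
  le_gen_of_chainLB ocert ogens_in ((card_stab_octad O0_mem).trans_le (by decide +kernel))

theorem ab_chk : allP (fun x => force (ab x) fun a => bor (Nat.beq x (aroot x))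
    (force (ap (getL aL 0 (Nat.land a 3)) x) fun y => band (band (blt' (Nat.land a 3) 3) (Nat.beq (aroot y) (aroot x)))
      (blt' (Nat.shiftRight (ab y) 2) (Nat.shiftRight a 2)))) 10 0 = true := by decide +kernel

variable {G : Type*} [Group G]

namespace HM

variable [Finite G] (X : HM G)

theorem sz_comm {v w : ℕ} (hv : v < 4096) (hw : w < 4096) (i j : ℕ) :
    Commute (X.s v * X.z ^ i) (X.s w * X.z ^ j) ↔ bb v w = 0 := by
  rw [← X.s_commute_iff hv hw]
  have a := (X.zs v).pow_left j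
  have b := (X.zs w).pow_left i
  have c := (Commute.refl X.z).pow_pow i j
  exact ⟨fun h => by simpa using ((h.mul_right (a.symm.mul_left c).inv_right).mul_left
    ((b.mul_right c).mul_right c.inv_right).inv_left), fun h => (h.mul_right a.symm).mul_left (b.mul_right c)⟩

variable [hF : Fact X.Fu]

theorem cls_EE {v : ℕ} (hv : v < 4096) (k : ℕ) :
    (olab v = 2 → IsConj X.z (X.s v * X.z ^ k)) ∧ (olab v = 3 → IsConj X.t (X.s v * X.z ^ k)) := by
  have e : ∀ x < 64, olab v = olab (ap mW x) → ∃ j < 2, IsConj (X.ev (x ^^^ 64 * j)) (X.s v * X.z ^ k) := fun x hx e => by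
    obtain ⟨h, -, j, a⟩ := X.conj_of_olab hv (ap_lt _ _) e k
    refine ⟨j % 2, Nat.mod_lt _ (by norm_num), ?_⟩
    rw [X.ev_xor, X.ev_z, X.ev_W (by omega), (by decide +kernel : ∀ x < 64, b6 x = 0) x hx, pow_zero, mul_one, ← a]
    exact (isConj_iff.2 ⟨h, rfl⟩).symm
  refine ⟨fun h => ?_, fun h => ?_⟩
  · obtain ⟨j, hj, a⟩ := e 1 (by norm_num) (h.trans (by decide +kernel))
    exact ((X.zc_iff (xor_lt11 (by norm_num) (by omega))).2
      ((by decide +kernel : ∀ j < 2, zc (1 ^^^ 64 * j) = true) j hj)).trans a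
  · obtain ⟨j, hj, a⟩ := e 4 (by norm_num) (h.trans (by decide +kernel))
    exact (conj_t_of (xor_lt11 (by norm_num) (by omega))
      ((by decide +kernel : ∀ j < 2, dc (4 ^^^ 64 * j) = true) j hj)).trans a

open Classical in
/-- the splitting as a total function -/
def kk (p : Perm Pt) : G := if h : p ∈ M24 then X.κ ⟨p, h⟩ else 1

theorem kk_eq (p : M24) : X.kk p = X.κ p := dif_pos p.2
theorem th_kk {p : Perm Pt} (h : p ∈ M24) : X.TH (X.kk p) p := X.kk_eq ⟨p, h⟩ ▸ X.th_κ ⟨p, h⟩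
theorem kk_mul {p q : Perm Pt} (h : p ∈ M24) (h' : q ∈ M24) : X.kk (p * q) = X.kk p * X.kk q := by
  rw [X.kk_eq ⟨p, h⟩, X.kk_eq ⟨q, h'⟩, ← map_mul, ← X.kk_eq]; rfl
theorem kk_one : X.kk 1 = 1 := (X.kk_eq 1).trans (map_one _)

/-- the element with given coordinates -/
def α (x : ℕ) : G := X.ev (ap m6 x) * X.kk (perm (oa (sh6 x)))

theorem th_oa {k : ℕ} (hk : k < 16) : X.TH (X.kk (perm (oa k))) (perm (oa k)) := X.th_kk (oa_in k hk).perm_mem

theorem th_α {x : ℕ} (hx : x < 1024) : X.TH (X.α x) (perm (oa (sh6 x))) :=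
  (X.th_oa (sh6_lt hx)).mulV (X.ev_mem (m6_lt x))

theorem α_xor {x y : ℕ} (hx : x < 1024) (hy : y < 1024) : X.α (x ^^^ y) = X.α x * X.α y := by
  have := ((X.th_oa (sh6_lt hx)).fix (m6_lt y)).2 (by rw [(oa_in _ (sh6_lt hx)).code_perm, oa_fix (sh6_lt hx) hy])
  rw [α, ap_xor, sh6_xor, X.ev_xor, ← perm_oa (sh6_lt hx) (sh6_lt hy),
    X.kk_mul (oa_in _ (sh6_lt hx)).perm_mem (oa_in _ (sh6_lt hy)).perm_mem, α, α, mul_assoc, mul_assoc,
    ← mul_assoc (X.kk _) (X.ev _), this.eq, mul_assoc]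

theorem α_low {x : ℕ} (hx : x < 64) : X.α x = X.ev (ap m6 x) := by
  rw [α, show perm (oa (sh6 x)) = 1 from (perm_eq (code_one.trans
    ((by decide +kernel : ∀ x < 64, pone = oa (sh6 x)) x hx))).symm, X.kk_one, mul_one]

theorem α_zero : X.α 0 = 1 := by rw [X.α_low (by norm_num), ap_zero, X.ev_zero]
theorem α_sq {x : ℕ} (hx : x < 1024) : X.α x * X.α x = 1 := by rw [← X.α_xor hx hx, Nat.xor_self, X.α_zero]
theorem α_z : X.α 10 = X.z := by rw [X.α_low (by norm_num), show ap m6 10 = 64 by decide +kernel, X.ev_64]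

theorem lt_of_mem_V {x : ℕ} (hx : x < 1024) (h : X.α x ∈ X.V) : x < 64 := by
  have := (oa_in _ (sh6_lt hx)).code_perm
  rw [(X.th_α hx).eq_one h, code_one] at this
  have c := all10 (by decide +kernel : allP (fun x => bimp (Nat.beq pone (oa (sh6 x))) (blt' x 64)) 10 0 = true) hx
  simp only [bimp_eq_true, beq_iff, blt'_eq_true] at c
  exact c this

theorem α_inj {x y : ℕ} (hx : x < 1024) (hy : y < 1024) (h : X.α x = X.α y) : x = y := by
  have e : X.α (x ^^^ y) = 1 := by rw [X.α_xor hx hy, h, X.α_sq hy]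
  have l := X.lt_of_mem_V (xor_lt10 hx hy) (e ▸ one_mem _)
  rw [X.α_low l] at e
  exact Nat.eq_of_xor_eq_zero ((by decide +kernel : ∀ x < 64, ap m6 x = 0 → x = 0) _ l (X.ev_eq_one (m6_lt _) e))

/-- the elementary abelian group of order `2 ^ 10` -/
def A0 : Subgroup G where
  carrier := {g | ∃ x < 1024, X.α x = g}
  one_mem' := ⟨0, by norm_num, X.α_zero⟩
  mul_mem' := by
    rintro _ _ ⟨x, hx, rfl⟩ ⟨y, hy, rfl⟩
    exact ⟨_, xor_lt10 hx hy, X.α_xor hx hy⟩
  inv_mem' := by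
    rintro _ ⟨x, hx, rfl⟩
    exact ⟨x, hx, (inv_eq_of_mul_eq_one_right (X.α_sq hx)).symm⟩

theorem α_mem {x : ℕ} (hx : x < 1024) : X.α x ∈ X.A0 := ⟨x, hx, rfl⟩
theorem z_A0 : X.z ∈ X.A0 := ⟨10, by norm_num, X.α_z⟩
theorem card_A0 : Nat.card X.A0 = 1024 := card_of_param X.α (fun _ hi _ hj => X.α_inj hi hj) fun _ => Iff.rfl
theorem A0_comm {g h : G} (a : g ∈ X.A0) (b : h ∈ X.A0) : Commute g h := by
  obtain ⟨x, hx, rfl⟩ := a
  obtain ⟨y, hy, rfl⟩ := b
  rw [commute_iff_eq, ← X.α_xor hx hy, ← X.α_xor hy hx, Nat.xor_comm]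
theorem A0_elem : IsElementaryAbelian 2 X.A0 :=
  ⟨⟨⟨fun a b => Subtype.ext (X.A0_comm a.2 b.2).eq⟩⟩, fun _ ⟨_, hx, e⟩ => by rw [← e, pow_two, X.α_sq hx]⟩

/-- `g` acts on the coordinates with matrix `L` -/
def AA (g : G) (L : ℕ) : Prop := ∀ x < 1024, ap L x < 1024 ∧ g * X.α x * g⁻¹ = X.α (ap L x)

variable {X} in
theorem AA.norm {g : G} {L : ℕ} (h : X.AA g L) : g ∈ 𝒩(X.A0) :=
  mem_norm_of_forall fun _ ⟨x, hx, e⟩ => ⟨_, (h x hx).1, e ▸ (h x hx).2.symm⟩

theorem aa_kk {c L : ℕ} (h : akChk c L = true) : X.AA (X.kk (perm c)) L := fun x hx => by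
  rw [akChk, band_eq_true] at h
  have i := inM_of_chk h.1
  have k := all10 h.2 hx
  simp only [force_eq, band_eq_true, blt'_eq_true, beq_iff] at k
  refine ⟨k.1, ?_⟩
  have a := oa_in _ (sh6_lt hx)
  have b := oa_in _ (sh6_lt k.1)
  rw [α, cjm, (X.th_kk i.perm_mem).act (m6_lt x), i.code_perm, ← k.2.1, α, ← X.kk_mul i.perm_mem a.perm_mem,
    perm_rel i a k.2.2, ← perm_rel b i rfl, X.kk_mul b.perm_mem i.perm_mem, mul_inv_cancel_right]

theorem aa_ev {d L : ℕ} (h : avChk d L = true) : X.AA (X.ev d) L := fun x hx => by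
  rw [avChk, band_eq_true, blt'_eq_true] at h
  have k := all10 h.2 hx
  simp only [force_eq, band_eq_true, blt'_eq_true, beq_iff] at k
  refine ⟨k.1, ?_⟩
  have a := (X.th_oa (sh6_lt hx)).act h.1
  rw [(oa_in _ (sh6_lt hx)).code_perm] at a
  rw [α, α, k.2.2, show ap m6 (ap L x) = d ^^^ ap m6 x ^^^ act (oa (sh6 x)) d from k.2.1, X.ev_xor, X.ev_xor, ← a, X.ev_inv]
  group

theorem aa_gens {i : ℕ} (hi : i < 3) : ∃ g, X.AA g (getL aL 0 i) := by
  interval_cases i
  exacts [⟨_, X.aa_kk (c := getL ogens 0 0) (by decide +kernel)⟩, ⟨_, X.aa_kk (c := getL ogens 0 1) (by decide +kernel)⟩,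
    ⟨_, X.aa_ev (d := 608) (by decide +kernel)⟩]

theorem acls {x : ℕ} (hx : x < 1024) : ∃ g ∈ 𝒩(X.A0), g * X.α x * g⁻¹ = X.α (aroot x) := by
  induction hn : Nat.shiftRight (ab x) 2 using Nat.strong_induction_on generalizing x with
  | _ n ih =>
    have c := all10 ab_chk hx
    simp only [force_eq, bor_eq_true, beq_iff, band_eq_true, blt'_eq_true] at c
    rcases c with c | ⟨⟨c1, c2⟩, c3⟩
    · exact ⟨1, one_mem _, by rw [← c]; simp⟩
    · obtain ⟨g, a⟩ := X.aa_gens c1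
      obtain ⟨k, hk, b⟩ := ih _ (hn ▸ c3) (a x hx).1 rfl
      exact ⟨k * g, mul_mem hk a.norm, by rw [← c2, ← b, ← (a x hx).2]; group⟩

theorem kk_norm {p : Perm Pt} (h : p ∈ St (unmask O0)) : X.kk p ∈ 𝒩(X.A0) := by
  refine (gen_induction (fun p => p ∈ M24 ∧ X.kk p ∈ 𝒩(X.A0)) ⟨one_mem _, X.kk_one ▸ one_mem _⟩
    (fun g h hg a => ?_) (St_le_gen h)).2
  have b := (ogens_in _ hg).perm_mem.1
  obtain ⟨i, -, c⟩ := (by decide +kernel : ∀ c ∈ ogens, ∃ i < 2, akChk c (getL aL 0 i) = true) _ hg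
  have d := (X.aa_kk c).norm
  rw [perm_code] at b d
  exact ⟨mul_mem b a.1, X.kk_mul b a.1 ▸ mul_mem d a.2⟩

theorem oa_EE {k i : ℕ} (h : band (blt' k 16) (band (blt' i 6) (force (getL μS 0 i) fun q => band (chk q)
    (Nat.beq (oa k) (pmul q (pmul (pmul μR q) (pinv μR)))))) = true) : X.kk (perm (oa k)) ∈ X.EE := by
  simp only [band_eq_true, blt'_eq_true, force_eq, beq_iff] at h
  have a := oa_in k h.1
  refine X.kk_eq ⟨_, a.perm_mem⟩ ▸ X.κ_EE (X.s_mem (col_lt _ _)) (X.th_sP h.2.1) _ (code_inj ?_) (Subtype.ext ?_)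
  · rw [← pmul_code, ← pmul_code, ← pmul_code, ← pinv_code, a.code_perm, code_perm_chk h.2.2.1,
      code_perm_chk (by decide +kernel), h.2.2.2]
  · rw [coe_mul, perm_oa h.1 h.1, Nat.xor_self]
    exact (perm_eq (code_one.trans (by decide +kernel))).symm

theorem α_high {k : ℕ} (hk : k < 16) : X.α (64 * k) = X.kk (perm (oa k)) := by
  obtain ⟨a, b⟩ := (by decide +kernel : ∀ k < 16, ap m6 (64 * k) = 0 ∧ sh6 (64 * k) = k) k hk
  rw [α, a, b, X.ev_zero, one_mul]

set_option synthInstance.maxSize 2000 in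
theorem cls_root : IsConj X.z (X.α 192) ∧ IsConj X.t (X.α 194) := by
  obtain ⟨v, hv, j, e⟩ := X.oa_EE (k := 3) (i := 2) (by decide +kernel)
  have t3 := X.th_oa (k := 3) (by norm_num)
  have h1 : qq v = 0 := by
    have := X.α_sq (x := 64 * 3) (by norm_num)
    rw [X.α_high (by norm_num), e, mul_assoc, X.sz', X.zz, mul_one, X.s_sq hv] at this
    have := X.modz (b := 0) (this.trans (pow_zero _).symm)
    have := qq_lt v
    omega
  have h2 : ∀ i < 6, bb v (ap mW (2 ^ i)) = bit 35 i := fun i hi => by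
    obtain ⟨a, b, c⟩ := (by decide +kernel : ∀ i < 6, 2 ^ i < 128 ∧ bit 35 i < 2 ∧
      (act (oa 3) (2 ^ i) = 2 ^ i ↔ bit 35 i = 0)) i hi
    have := t3.fix (x := 2 ^ i) (by omega)
    rw [e, X.ev_W a, X.sz_comm hv (ap_lt _ _), (oa_in 3 (by norm_num)).code_perm, c] at this
    have := bb_lt v (ap mW (2 ^ i))
    omega
  have k : ∀ y ∈ [2, 32, 34], (olab (ap mW (ap m6 y) ^^^ v) = 2 → IsConj X.z (X.α 194)) ∧
      (olab (ap mW (ap m6 y) ^^^ v) = 3 → IsConj X.t (X.α 194)) := fun y hy => by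
    obtain ⟨a, b, c⟩ := (by decide +kernel : ∀ y ∈ [2, 32, 34], y < 64 ∧ ap m6 y < 128 ∧ aroot (y ^^^ 64 * 3) = 194) y hy
    obtain ⟨g, -, d⟩ := X.acls (x := y ^^^ 64 * 3) (xor_lt10 (by omega) (by norm_num))
    rw [← c, ← d, isConj_cj, isConj_cj, X.α_xor (by omega) (by norm_num), X.α_high (by norm_num), e, X.α_low a, X.ev_W b,
      mul_assoc, X.sz', ← mul_assoc, X.s_mul _ (ap_lt _ _) _ hv, mul_assoc, ← pow_add, ← pow_add]
    exact X.cls_EE (xor_lt (ap_lt _ _) hv) _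
  have c := allV (by decide +kernel : allP (fun v => bimp (Nat.beq (qq v) 0) (bimp (allR (fun i =>
    Nat.beq (bb v (ap mW (2 ^ i))) (bit 35 i)) 6) (band (anyL (fun y => Nat.beq (olab (Nat.xor (ap mW (ap m6 y)) v)) 3)
      [2, 32, 34]) (bor (Nat.beq (olab v) 2) (anyL (fun y => Nat.beq (olab (Nat.xor (ap mW (ap m6 y)) v)) 2)
        [2, 32, 34]))))) 12 0 = true) hv
  simp only [bimp_eq_true, beq_iff, allR_eq_true, band_eq_true, bor_eq_true, anyL_eq_true] at c
  obtain ⟨⟨y, hy, a⟩, b⟩ := c h1 h2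
  refine ⟨?_, (k y hy).2 a⟩
  rcases b with b | ⟨u, hu, b⟩
  · rw [show 192 = 64 * 3 from rfl, X.α_high (by norm_num), e]; exact (X.cls_EE hv j).1 b
  · exact (X.not_conj_t (((k u hu).1 b).trans ((k y hy).2 a).symm)).elim

theorem cls_A0 {x : ℕ} (hx : x < 1024) :
    (Dc x = true → IsConj X.z (X.α x)) ∧ (¬ Dc x = true → x ≠ 0 → IsConj X.t (X.α x)) := by
  obtain ⟨g, -, a⟩ := X.acls hx
  rw [← isConj_cj g, ← isConj_cj (a := X.t) g, a, aroot]
  have h3 : IsConj X.t (X.α 33) := X.α_low (x := 33) (by norm_num) ▸ conj_t_of (m6_lt _) (by decide +kernel)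
  refine ⟨fun h => ?_, fun h h0 => ?_⟩
  · have h0 : x ≠ 0 := fun e => Dc_zero (e ▸ h)
    simp only [bif'_eq, beq_iff, h, h0, if_true, if_false]
    split_ifs
    exacts [X.α_z ▸ IsConj.refl _, X.cls_root.1]
  · simp only [bif'_eq, beq_iff, h, h0, if_false, Bool.false_eq_true]
    split_ifs
    exacts [h3, X.cls_root.2]

theorem Dc_iff {x : ℕ} (hx : x < 1024) : IsConj X.z (X.α x) ↔ Dc x = true := by
  refine ⟨fun h => by_contra fun n => ?_, (X.cls_A0 hx).1⟩
  rcases eq_or_ne x 0 with rfl | e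
  · exact X.z_ne (by simpa [X.α_zero] using h)
  · exact X.not_conj_t (h.trans ((X.cls_A0 hx).2 n e).symm)

variable {X} in
theorem TH.duad {g : G} {p : Perm Pt} (h : X.TH g p) {m : ℕ} (hm : m < 2 ^ 24) (c : pcnt m = 2)
    (e : Commute g (X.ev (coc m))) : mapp (code p) m = m := by
  have c : (unmask m).card = 2 := by rw [card_unmask hm, c]
  rw [← mask_unmask hm] at e ⊢
  rw [mapp_code, X.todd.inj (S := p • unmask m) (T := unmask m) (by simp only [Finset.card_smul_finset, c]; decide)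
    (by simp [c]) ((h.cj _ (by rw [c]; decide)).symm.trans (conj_eq_iff_commute.2 e))]

set_option synthInstance.maxSize 2000 in
theorem cent_A0E : 𝒞(X.A0 ⊓ X.EE) ≤ X.A0 := fun g hg => by
  have hg := mem_cent_subgroup_iff.1 hg
  have l : ∀ x < 64, ap m6 x < 128 → Commute g (X.ev (ap m6 x)) := fun x hx e =>
    hg _ ⟨X.α_low hx ▸ X.α_mem (by omega), X.ev_EE e⟩
  obtain ⟨p, hp⟩ := X.exists_TH (X.cent_t (mem_cent_iff.2 (show Commute g (X.ev 4) from
    (by decide +kernel : ap m6 63 = 4) ▸ l 63 (by norm_num) (by decide +kernel))))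
  have d : ∀ m ∈ [8388609, 3, 8388610, 40, 16416, 16392], m < 2 ^ 24 ∧ mapp (code p) m = m := fun m hm => by
    obtain ⟨a, b, x, hx, c, d⟩ := (by decide +kernel : ∀ m ∈ [8388609, 3, 8388610, 40, 16416, 16392], m < 2 ^ 24 ∧
      pcnt m = 2 ∧ ∃ x < 64, ap m6 x < 128 ∧ ap m6 x = coc m) m hm
    exact ⟨a, hp.duad a b (d ▸ l x hx c)⟩
  simp only [List.mem_cons, List.not_mem_nil, or_false, forall_eq_or_imp, forall_eq] at d
  obtain ⟨d1, d2, d3, d4, d5, d6⟩ := d
  have b := enumFix_spec (a := 23) (b := 0) (c := 1) (d := 3) (e := 5)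
    (q := fun p => bimp (Nat.beq (mapp p 16416) 16416) (anyR (fun k => Nat.beq (oa k) p) 16))
    (by decide +kernel) (by decide) (by decide) hp.inM (by
      simp only [List.mem_cons, List.not_mem_nil, or_false, forall_eq_or_imp, forall_eq]
      exact ⟨fix_of_two d1.1 d3.1 d1.2 d3.2 (by decide +kernel), fix_of_two d1.1 d2.1 d1.2 d2.2 (by decide +kernel),
        fix_of_two d2.1 d3.1 d2.2 d3.2 (by decide +kernel), fix_of_two d4.1 d6.1 d4.2 d6.2 (by decide +kernel),
        fix_of_two d4.1 d5.1 d4.2 d5.2 (by decide +kernel)⟩)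
  simp only [bimp_eq_true, beq_iff, anyR_eq_true] at b
  obtain ⟨k, hk, b⟩ := b d5.2
  obtain rfl := perm_eq b.symm
  obtain ⟨x, hx, e⟩ := hp.div (X.th_oa hk)
  have m : ∀ j < 16, X.kk (perm (oa j)) ∈ X.A0 := fun j hj => X.α_high hj ▸ X.α_mem (by omega)
  have f : ∀ j < 16, X.kk (perm (oa j)) ∈ X.EE → act (oa j) x = x := fun j hj a => by
    rw [← (oa_in j hj).code_perm, ← (X.th_oa hj).fix hx, e]
    exact (hg _ ⟨m j hj, a⟩).symm.mul_right (X.A0_comm (m j hj) (m k hk)).inv_right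
  have c := all11 (by decide +kernel : allP (fun x => bimp (Nat.beq (act (oa 3) x) x) (bimp (Nat.beq (act (oa 7) x) x)
    (force (ap m6i x) fun y => band (blt' y 64) (Nat.beq (ap m6 y) x)))) 11 0 = true) hx
  simp only [bimp_eq_true, beq_iff, force_eq, band_eq_true, blt'_eq_true] at c
  obtain ⟨c1, c2⟩ := c (f 3 (by norm_num) (X.oa_EE (i := 2) (by decide +kernel)))
    (f 7 (by norm_num) (X.oa_EE (i := 3) (by decide +kernel)))
  rw [← eq_mul_inv_iff_mul_eq.1 e, ← c2, ← X.α_low c1]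
  exact mul_mem (X.α_mem (by omega)) (m k hk)

theorem cent_A0 : 𝒞(X.A0) = X.A0 := le_antisymm ((cent_anti inf_le_left).trans X.cent_A0E) fun _ h =>
  mem_cent_subgroup_iff.2 fun _ => X.A0_comm h

variable {X} in
theorem TH.pair' {g : G} {p : Perm Pt} (h : X.TH g p) (x y : Pt) :
    g * (X.ψ {x} * X.ψ {y}) * g⁻¹ = X.ψ {p x} * X.ψ {p y} := by
  rcases eq_or_ne x y with rfl | e
  · simp [X.V_sq (X.ψ_mem _)]
  · rw [← X.todd.mul, ← X.todd.mul, pair_eq e, pair_eq (p.injective.ne e), h.pair x y e]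

/-- the second splitting -/
def κ' : M24 →* G := MonoidHom.mk' (fun p => X.ψ {pt 4} * X.ψ {p.1 (pt 4)} * X.κ p) fun p q => by
  rw [map_mul, ← mul_assoc, mul_assoc (X.ψ _ * X.ψ _) (X.κ p) (_ * _),
    ← mul_assoc (X.κ p), mul_inv_eq_iff_eq_mul.1 ((X.th_κ p).pair' _ _)]
  simp only [mul_assoc, ← mul_assoc (X.ψ {p.1 (pt 4)}) (X.ψ {p.1 (pt 4)}), X.V_sq (X.ψ_mem _), one_mul]
  rfl

theorem th_κ' (p : M24) : X.TH (X.κ' p) p := (X.th_κ p).mulV (mul_mem (X.ψ_mem _) (X.ψ_mem _))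

theorem ψ_two (x y : Pt) : X.ψ {x} * X.ψ {y} = X.ev (du (idx x) (idx y)) := by
  rw [ψ, ψ, coc_single, coc_single, ← X.ev_xor]; rfl

/-- the complement in the parabolic subgroup -/
def CP : Subgroup G := ((St (unmask O0)).subgroupOf M24).map X.κ'

theorem card_CP : Nat.card X.CP = 322560 := by
  rw [CP, card_map_of_injective fun p q e => Subtype.ext ((X.th_κ' p).unique (e ▸ X.th_κ' q)),
    card_subgroupOf inf_le_left, card_stab_octad O0_mem]

theorem CP_le : X.CP ≤ 𝒩(X.A0) := by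
  rintro _ ⟨p, hp, rfl⟩
  refine mul_mem ?_ (X.kk_eq p ▸ X.kk_norm hp)
  rw [X.ψ_two]
  refine (X.aa_ev ((by decide +kernel : ∀ r < 24, ¬ Nat.testBit O0 r = true →
    avChk (du (idx (pt 4)) r) (Lv (du (idx (pt 4)) r)) = true) _ (idx_lt _) fun e => ?_)).norm
  rw [← mem_unmask, ← show p.1 • unmask O0 = unmask O0 from hp.2] at e
  exact absurd (Finset.smul_mem_smul_finset_iff p.1 |>.1 e) (by decide +kernel)

theorem A0_inf_CP : X.A0 ⊓ X.CP = ⊥ := eq_bot_iff.2 <| by
  rintro _ ⟨⟨x, hx, e⟩, p, -, rfl⟩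
  have a := (X.th_α hx).unique (e ▸ X.th_κ' p)
  have b := oa_in _ (sh6_lt hx)
  have c : X.α x = X.ψ {pt 4} * X.ψ {p.1 (pt 4)} * X.κ p := e
  rw [α, a, X.kk_eq, mul_left_inj, X.ψ_two, ← a, ← dig_code_idx, b.code_perm] at c
  have d := all10 (by decide +kernel : allP (fun x => force (du (idx (pt 4)) (dig (oa (sh6 x)) (idx (pt 4)))) fun d =>
    band (blt' d 2048) (bimp (Nat.beq (ap m6 x) d) (Nat.beq (oa (sh6 x)) pone))) 10 0 = true) hx
  simp only [force_eq, band_eq_true, blt'_eq_true, bimp_eq_true, beq_iff] at d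
  rw [d.2 (X.ev_inj (m6_lt x) d.1 c), ← code_one, perm_code] at a
  rw [show p = 1 from Subtype.ext a.symm, map_one]
  exact one_mem _

end HM

end

end CA.J4

theorem CA.J4.realizeEqnsJ4Ten : True := by
  have := @CA.J4.HM.CP.eq_1.{0}
  have := @CA.J4.HM.CP.eq_def.{0}
  have := @CA.J4.HM.CP.congr_simp.{0}
  have := @CA.J4.HM.α.eq_1.{0}
  have := @CA.J4.HM.α.eq_def.{0}
  have := @CA.J4.HM.α.congr_simp.{0}
  have := @CA.J4.qE2.eq_1
  have := @CA.J4.qE2.eq_def
  have := @CA.J4.qE2.congr_simp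
  have := @CA.J4.ocert.eq_1
  have := @CA.J4.ocert.eq_def
  have := @CA.J4.ocert.congr_simp
  have := @CA.J4.ab.eq_1
  have := @CA.J4.ab.eq_def
  have := @CA.J4.ab.congr_simp
  have := @CA.J4.Lv.eq_1
  have := @CA.J4.Lv.eq_def
  have := @CA.J4.Lv.congr_simp
  have := @CA.J4.aroot.eq_1
  have := @CA.J4.aroot.eq_def
  have := @CA.J4.aroot.congr_simp
  have := @CA.J4.sh6.eq_1
  have := @CA.J4.sh6.eq_def
  have := @CA.J4.sh6.congr_simp
  have := @CA.J4.oa.eq_1
  have := @CA.J4.oa.eq_def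
  have := @CA.J4.oa.congr_simp
  have := @CA.J4.ogens.eq_1
  have := @CA.J4.ogens.eq_def
  have := @CA.J4.ogens.congr_simp
  have := @CA.J4.HM.kk.eq_1.{0}
  have := @CA.J4.HM.kk.eq_def.{0}
  have := @CA.J4.HM.kk.congr_simp.{0}
  have := @CA.J4.m6i.eq_1
  have := @CA.J4.m6i.eq_def
  have := @CA.J4.m6i.congr_simp
  have := @CA.J4.qE1.eq_1
  have := @CA.J4.qE1.eq_def
  have := @CA.J4.qE1.congr_simp
  have := @CA.J4.avChk.eq_1
  have := @CA.J4.avChk.eq_def
  have := @CA.J4.avChk.congr_simp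
  have := @CA.J4.akChk.eq_1
  have := @CA.J4.akChk.eq_def
  have := @CA.J4.akChk.congr_simp
  have := @CA.J4.m6.eq_1
  have := @CA.J4.m6.eq_def
  have := @CA.J4.m6.congr_simp
  have := @CA.J4.HM.AA.eq_1.{0}
  have := @CA.J4.HM.AA.eq_def.{0}
  have := @CA.J4.HM.AA.congr_simp.{0}
  have := @CA.J4.abT.eq_1
  have := @CA.J4.abT.eq_def
  have := @CA.J4.abT.congr_simp
  have := @CA.J4.HM.κ'.eq_1.{0}
  have := @CA.J4.HM.κ'.eq_def.{0}
  have := @CA.J4.HM.κ'.congr_simp.{0}
  have := @CA.J4.aL.eq_1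
  have := @CA.J4.aL.eq_def
  have := @CA.J4.aL.congr_simp
  have := @CA.J4.HM.A0.eq_1.{0}
  have := @CA.J4.HM.A0.eq_def.{0}
  have := @CA.J4.HM.A0.congr_simp.{0}
  trivial
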